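import Cfsg.Agent.Lib.Comp.Loc
import Cfsg.Agent.Lib.BG.Basic
import Cfsg.Agent.Lib.Transfer.BS
import Cfsg.Agent.Lib.Char.Integral
import Cfsg.Agent.Lib.Solv.FrobCount

set_option autoImplicit false

namespace Cfsg.Agent.Ez

open Subgroup Cfsg.Agent.Comp
open scoped commutatorElement Pointwise

universe u

section
variable {G : Type*} [Group G]

theorem sq_inj_of_odd {x y : G} (hx : Odd (orderOf x)) (hy : Odd (orderOf y)) (h : x * x = y * y) :
    x = y := by
  obtain ⟨m, hm⟩ := hx.mul hy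
  have e : ∀ w : G, orderOf w ∣ 2 * m + 1 → w = (w * w) ^ (m + 1) := fun w hw => by
    rw [← pow_two, ← pow_mul, show 2 * (m + 1) = (2 * m + 1) + 1 by ring, pow_succ,
      orderOf_dvd_iff_pow_eq_one.1 hw, one_mul]
  rw [e x (hm ▸ dvd_mul_right _ _), e y (hm ▸ dvd_mul_left _ _), h]

theorem exists_sqrt_pow {y : G} (hy : Odd (orderOf y)) : ∃ n : ℕ, y ^ n * y ^ n = y := by
  obtain ⟨m, hm⟩ := hy
  refine ⟨m + 1, ?_⟩
  rw [← pow_add, show m + 1 + (m + 1) = (2 * m + 1) + 1 by ring, pow_succ, ← hm,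
    pow_orderOf_eq_one, one_mul]

theorem odd_orderOf_of_mem {P : Subgroup G} (hP : Odd (Nat.card P)) {x : G} (hx : x ∈ P) :
    Odd (orderOf x) := Odd.of_dvd_nat hP (orderOf_dvd_natCard P hx)

/-- Decomposition of an element of an odd group under an involution. -/
theorem exists_inv_mul_cent {P : Subgroup G} (hP : Odd (Nat.card P)) {z : G} (hz : z * z = 1)
    (hn : z ∈ normalizer (P : Set G)) {x : G} (hx : x ∈ P) :
    ∃ k ∈ P, z * k * z⁻¹ = k⁻¹ ∧ ∃ c ∈ P, z * c = c * z ∧ x = k * c := by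
  have hzi : z⁻¹ = z := inv_eq_of_mul_eq_one_right hz
  have hy : x * (z * x⁻¹ * z⁻¹) ∈ P := mul_mem hx (conj_mem_of_mem_normalizer hn (inv_mem hx))
  obtain ⟨n, hk⟩ := exists_sqrt_pow (odd_orderOf_of_mem hP hy)
  set y := x * (z * x⁻¹ * z⁻¹) with hydef
  have hinv : z * y * z⁻¹ = y⁻¹ := by
    rw [hydef, hzi]
    simp only [mul_inv_rev, inv_inv, hzi, mul_assoc]
    rw [hz, mul_one]
  have hk' : z * y ^ n * z⁻¹ = (y ^ n)⁻¹ := by rw [← conj_pow, hinv, inv_pow]
  refine ⟨y ^ n, pow_mem hy n, hk', (y ^ n)⁻¹ * x, mul_mem (inv_mem (pow_mem hy n)) hx, ?_, by simp⟩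
  have h2 : z * (y ^ n)⁻¹ = y ^ n * z := by
    have := congrArg (·⁻¹) hk'
    simp only [mul_inv_rev, inv_inv] at this
    calc z * (y ^ n)⁻¹ = z * ((y ^ n)⁻¹ * z⁻¹) * z := by simp [mul_assoc]
      _ = _ := by rw [this]
  have h3 : y ^ n = (y ^ n)⁻¹ * y := by rw [eq_inv_mul_iff_mul_eq, hk]
  calc z * ((y ^ n)⁻¹ * x) = y ^ n * z * x := by rw [← mul_assoc, h2]
    _ = (y ^ n)⁻¹ * y * z * x := by rw [← h3]
    _ = (y ^ n)⁻¹ * x * z * (x⁻¹ * (z⁻¹ * z) * x) := by rw [hydef]; group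
    _ = _ := by simp

theorem card_eq_cent_mul_inv {P : Subgroup G} (hP : Odd (Nat.card P)) {z : G} (hz : z * z = 1)
    (hn : z ∈ normalizer (P : Set G)) :
    Nat.card {x : G // x ∈ P ∧ z * x * z⁻¹ = x⁻¹} *
      Nat.card (P ⊓ centralizer ({z} : Set G) : Subgroup G) = Nat.card P := by
  rw [← Nat.card_prod]
  refine Nat.card_congr (Equiv.ofBijective
    (fun q => (⟨q.1.1 * q.2.1, mul_mem q.1.2.1 (mem_inf.1 q.2.2).1⟩ : P)) ⟨?_, ?_⟩)
  · rintro ⟨⟨k, hk, hk'⟩, ⟨c, hc⟩⟩ ⟨⟨l, hl, hl'⟩, ⟨d, hd⟩⟩ h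
    have h' : k * c = l * d := congrArg Subtype.val h
    have hc' : z * c = c * z := (mem_centralizer_singleton_iff.1 (mem_inf.1 hc).2).symm
    have hd' : z * d = d * z := (mem_centralizer_singleton_iff.1 (mem_inf.1 hd).2).symm
    have e : ∀ k c : G, z * k * z⁻¹ = k⁻¹ → z * c = c * z →
        k * k = (k * c) * (z * (k * c) * z⁻¹)⁻¹ := fun k c h1 h2 => by
      have : z * (k * c) * z⁻¹ = k⁻¹ * c := by
        calc z * (k * c) * z⁻¹ = (z * k * z⁻¹) * (z * c) * z⁻¹ := by group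
          _ = _ := by rw [h1, h2]; group
      rw [this]; group
    have hkl : k = l := sq_inj_of_odd (odd_orderOf_of_mem hP hk) (odd_orderOf_of_mem hP hl)
      (by rw [e k c hk' hc', e l d hl' hd', h'])
    subst hkl
    have : c = d := mul_left_cancel h'
    subst this
    rfl
  · rintro ⟨x, hx⟩
    obtain ⟨k, hk, hk', c, hc, hc', rfl⟩ := exists_inv_mul_cent hP hz hn hx
    exact ⟨⟨⟨k, hk, hk'⟩, ⟨c, mem_inf.2 ⟨hc, mem_centralizer_singleton_iff.2 hc'.symm⟩⟩⟩, rfl⟩

theorem relIndex_eq_index_of_sup [Finite G] {C N K : Subgroup G} [N.Normal] (h : C ⊔ N = ⊤)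
    (hK : N ≤ K) : K.relIndex C = K.index := by
  have h1 := card_mul_card_inf C K
  have h2 : ((C : Set G) * (K : Set G) : Set G) = Set.univ := by
    refine Set.eq_univ_of_forall fun g => ?_
    have hg : g ∈ C ⊔ N := h ▸ mem_top g
    obtain ⟨a, ha, b, hb, rfl⟩ := (mem_sup_of_le_normalizer (by simp [normalizer_eq_top])).1 hg
    exact Set.mul_mem_mul ha (hK hb)
  rw [h2, Nat.card_univ, inf_comm] at h1
  have h3 := relIndex_mul_card_inf K C
  have h4 := K.card_mul_index
  have h5 : 0 < Nat.card (K ⊓ C : Subgroup G) := Nat.card_pos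
  have h6 : 0 < Nat.card K := Nat.card_pos
  apply Nat.eq_of_mul_eq_mul_right (Nat.mul_pos h5 h6)
  calc _ = Nat.card C * Nat.card K := by rw [← h3]; ring
    _ = _ := by rw [← h1, ← h4]; ring

end

variable {G : Type u} [Group G] [Finite G] {p : ℕ} [hp : Fact p.Prime]

theorem charP_centralizer_mono {U : Subgroup G} (hU : IsPGroup p U) (V : Subgroup G) :
    V ≤ U → CharP p (centralizer (V : Set G)) → CharP p (centralizer (U : Set G)) := by
  induction V using subgroup_induction_gt with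
  | h V ih =>
    intro hVU h
    rcases hVU.eq_or_lt with rfl | hlt
    · exact h
    · have h1 := lt_inf_normalizer_of_isPGroup hU hlt
      refine ih _ h1 inf_le_left ?_
      have hW : IsPGroup p (U ⊓ normalizer (V : Set G) : Subgroup G) := hU.to_le inf_le_left
      have h2 := (h.sup_isPGroup hW (le_normalizer_centralizer inf_le_right)).inf_centralizer hW
        le_sup_right
      rwa [inf_eq_right.2 ((centralizer_mono h1.le).trans le_sup_left)] at h2

theorem exists_central_orderOf {T : Subgroup G} (hT : IsPGroup p T) (h1 : T ≠ ⊥) :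
    ∃ x ∈ T, orderOf x = p ∧ T ≤ centralizer ({x} : Set G) := by
  have h := inf_centralizer_ne_bot_of_isNilpotent hT.isNilpotent le_rfl le_normalizer h1
  obtain ⟨x, hx, ho⟩ := exists_mem_orderOf_eq (dvd_card_of_isPGroup (hT.to_le inf_le_left) h)
  exact ⟨x, hx.1, ho, le_centralizer_singleton_iff.2 hx.2⟩

theorem PLay_normalizer_eq_bot_of_cent
    (h : ∀ x : G, orderOf x = p → PLay p (centralizer ({x} : Set G)) = ⊥)
    {T : Subgroup G} (hT : IsPGroup p T) (h1 : T ≠ ⊥) : PLay p (normalizer (T : Set G)) = ⊥ := by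
  obtain ⟨x, hx, ho, hc⟩ := exists_central_orderOf hT h1
  have h2 := (local_of_PLay_eq_bot (H := centralizer (T : Set G) ⊔ T) (h x ho) hT le_sup_right
    (inf_le_right.trans le_sup_left) (sup_le (centralizer_le_centralizer_singleton hx) hc)
    (sup_le (centralizer_le_normalizer _) le_normalizer)).1
  have h3 : PLay p (normalizer (T : Set G)) ≤ centralizer (T : Set G) :=
    (le_sup_left.trans PLay_sup_Opp_le_centralizer).trans
      (centralizer_mono (le_Op le_normalizer le_rfl hT))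
  exact le_bot_iff.1 (h2 ▸ PLay_le_PLay_of_le (h3.trans le_sup_left)
    (sup_le (centralizer_le_normalizer _) le_normalizer))

theorem card_lt_of_inj_not_surj {α β : Type*} [Finite β] (f : α → β) (h : Function.Injective f)
    (h' : ¬ Function.Surjective f) : Nat.card α < Nat.card β := by
  classical
  have := Finite.of_injective f h
  have := Fintype.ofFinite α
  have := Fintype.ofFinite β
  rw [Nat.card_eq_fintype_card, Nat.card_eq_fintype_card]
  exact Fintype.card_lt_of_injective_not_surjective f h h'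

theorem relIndex_cent_lt {S E : Subgroup G} (hn : S ≤ normalizer (E : Set G)) {a : G} (ha : a ∈ E)
    (ha1 : a ≠ 1) : (centralizer ({a} : Set G)).relIndex S < Nat.card E := by
  rw [← Solv.card_class_eq_relIndex]
  refine card_lt_of_inj_not_surj (fun y => (⟨y.1, by
      obtain ⟨h, hh, e⟩ := y.2
      exact e ▸ conj_mem_of_le_normalizer hn hh ha⟩ : E))
    (fun x y h => Subtype.ext (congrArg (fun w : E => (w : G)) h)) fun h => ?_
  obtain ⟨⟨y, g, hg, e⟩, h1⟩ := h 1
  have h2 : y = 1 := congrArg Subtype.val h1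
  exact ha1 (by simpa using e.trans h2)

theorem relIndex_cent_le_two {S E : Subgroup G} (hS : IsPGroup 2 S) (hE : Nat.card E = 2 ^ 2)
    (hn : S ≤ normalizer (E : Set G)) {a : G} (ha : a ∈ E) (ha1 : a ≠ 1) :
    (S ⊓ centralizer ({a} : Set G)).relIndex S ≤ 2 := by
  rw [inf_relIndex_left]
  have h1 := relIndex_cent_lt hn ha ha1
  obtain ⟨k, hk⟩ := hS.index ((centralizer ({a} : Set G)).subgroupOf S)
  have h2 : (centralizer ({a} : Set G)).relIndex S = 2 ^ k := hk
  rw [h2, hE] at h1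
  have := (Nat.pow_lt_pow_iff_right one_lt_two).1 h1
  rw [h2]
  interval_cases k <;> simp

end Cfsg.Agent.Ez
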