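import Cfsg.Agent.Lib.Ez.A2
import Cfsg.Agent.S0948
import Cfsg.Agent.S4479
import Cfsg.Agent.S0494
import Cfsg.Agent.Lib.Transfer.Count

set_option autoImplicit false

namespace Cfsg.Agent.Ez

open Subgroup Cfsg.Agent.Comp
open scoped commutatorElement Pointwise

universe u
variable {G : Type u} [Group G] [Finite G]

theorem klein_index_le (P : Sylow 2 G) (hP : IsKleinFour (P : Subgroup G))
    (hone : ∀ s t : G, orderOf s = 2 → orderOf t = 2 → IsConj s t)
    (hnc : ¬ HasNormalPComplement 2 G) {x : G} (hxP : x ∈ (P : Subgroup G)) (hx : orderOf x = 2)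
    (hC : centralizer ({x} : Set G) ≤ centralizer ((P : Subgroup G) : Set G)) :
    (centralizer ({x} : Set G)).index ≤ 15 := by
  obtain ⟨M, hM⟩ := Transfer.exists_isPModular Nat.prime_two
  obtain ⟨ζ₂, ζ₃, ζ₄, ε, hε, a1, a2, a3, a4, a5, a6, a7, a8, a9, a10, a11⟩ :=
    S0948.result M hM P hP hone
  obtain ⟨b1, b2, b3⟩ := a7 x hx
  have a12 : (ζ₄ : G → ℂ) ≠ fun _ => 1 := fun e => by rw [e] at b3; norm_num at b3
  have hG : Nat.card G = 4 * (P : Subgroup G).index := by rw [← hP.card_four, card_mul_index]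
  have h := S4479.result M hM _ (odd_index_sylow P) hG (fun ⟨N, h1, h2⟩ => hnc ⟨P, N, h1,
    isComplement'_of_coprime (by rw [h2, mul_comm, card_mul_index]) (by
      rw [h2, hP.card_four]
      exact Nat.Coprime.pow_right 2 (Nat.coprime_two_right.2 (odd_index_sylow P)))⟩) P x hxP hx
    ζ₂ ζ₃ ζ₄ 1 ε (-1) a6 ⟨a1, a2, a12, a3, a4, a5⟩ ⟨.inl rfl, hε, .inr rfl⟩
    ⟨by simpa using b1, b2, by simpa using b3⟩
  rw [← le_antisymm hC (centralizer_le_centralizer_singleton hxP), ← index_mul_card
    (centralizer ({x} : Set G))] at h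
  have h1 := a11 1 (by simp)
  rw [← Blk.cast_deg ζ₂, ← Blk.cast_deg ζ₃, ← Blk.cast_deg ζ₄] at h1
  have hc : (0 : ℚ) < Nat.card (centralizer ({x} : Set G)) := by exact_mod_cast Nat.card_pos
  generalize charDegree (ζ₂ : G → ℂ) = a at *
  generalize charDegree (ζ₃ : G → ℂ) = b at *
  generalize charDegree (ζ₄ : G → ℂ) = c at *
  generalize (centralizer ({x} : Set G)).index = i at *
  generalize Nat.card (centralizer ({x} : Set G)) = m at *
  have h2 : (1 : ℤ) + a + ε * b - c = 0 := by exact_mod_cast h1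
  have hc3 : (3 : ℚ) ≤ c := by exact_mod_cast (show 3 ≤ c by omega)
  have ha1 : (1 : ℚ) ≤ a := by exact_mod_cast (show 1 ≤ a by omega)
  have key : (i : ℚ) ≤ 15 := by
    have h3 : (i : ℚ) = 8 * (a * b * c / ((a + 1) * (b + ε) * (c - 1))) := by
      apply mul_right_cancel₀ hc.ne'
      push_cast at h
      rw [h]; field_simp; ring
    rcases hε with rfl | rfl
    · have hb1 : (1 : ℚ) ≤ b := by exact_mod_cast (show 1 ≤ b by omega)
      have e : (c : ℚ) = 1 + a + b := by exact_mod_cast (show (c : ℤ) = 1 + a + b by omega)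
      push_cast at h3
      rw [h3, e, ← mul_div_assoc, div_le_iff₀ (by apply mul_pos; positivity; linarith)]
      have p1 : (0 : ℚ) < a * b := by positivity
      have p2 : (a : ℚ) * b ≤ (a + 1) * (b + 1) := by nlinarith
      calc (8 : ℚ) * (a * b * (1 + a + b)) = (a * b) * (8 * (1 + a + b)) := by ring
        _ ≤ ((a + 1) * (b + 1)) * (15 * (a + b)) :=
          mul_le_mul p2 (by linarith) (by positivity) (by positivity)
        _ = _ := by ring
    · have hb3 : (3 : ℚ) ≤ b := by exact_mod_cast (show 3 ≤ b by omega)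
      have e : (a : ℚ) = b + c - 1 := by exact_mod_cast (show (a : ℤ) = b + c - 1 by omega)
      push_cast at h3
      rw [h3, e, ← mul_div_assoc, div_le_iff₀ (by
        apply mul_pos; apply mul_pos; linarith; linarith; linarith)]
      have p1 : (0 : ℚ) ≤ b - 3 := by linarith
      have p2 : (0 : ℚ) ≤ c - 3 := by linarith
      nlinarith [mul_nonneg p1 p2, mul_nonneg p1 (mul_nonneg p1 p2), mul_nonneg p2 (mul_nonneg p1 p2),
        mul_nonneg p1 p1, mul_nonneg p2 p2]
  exact_mod_cast key

theorem three_le_relIndex {V : Subgroup G} (hV : IsKleinFour V) {x : G} (hxV : x ∈ V)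
    (hx : orderOf x = 2) (hone : ∀ s t : G, orderOf s = 2 → orderOf t = 2 → IsConj s t)
    (hu : ∀ W : Subgroup G, W ≤ centralizer ({x} : Set G) → IsPGroup 2 W → W ≤ V) :
    3 ≤ (centralizer ({x} : Set G)).relIndex (normalizer (V : Set G)) := by
  classical
  rw [← Solv.card_class_eq_relIndex]
  have h2 : ∀ y ∈ V, y * y = 1 := fun y hy => congrArg Subtype.val (IsKleinFour.mul_self (⟨y, hy⟩ : V))
  have hp : IsPGroup 2 V := IsPGroup.of_card (n := 2) hV.card_four
  have h3 : Nat.card {y : V // y ≠ 1} = 3 := by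
    have := Fintype.ofFinite V
    rw [Nat.card_eq_fintype_card, Fintype.card_subtype_compl, ← Nat.card_eq_fintype_card,
      hV.card_four]
    simp
  rw [← h3]
  refine Nat.card_le_card_of_injective (fun y => ⟨y.1.1, ?_⟩) fun a b h =>
    Subtype.ext (Subtype.ext (congrArg (fun w : {y : G // ∃ h ∈ normalizer (V : Set G), h * x * h⁻¹ = y} => (w : G)) h))
  obtain ⟨⟨y, hy⟩, hy1⟩ := y
  obtain ⟨g, hg⟩ := isConj_iff.1 (hone x y hx (ord_of_mul_self (h2 y hy) fun e => hy1 (Subtype.ext e)))
  refine ⟨g, ?_, hg⟩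
  have h4 : cj(g⁻¹, V) ≤ V := hu _ (by
    rw [cj_le_iff, inv_inv, cj_centralizer_singleton, hg]
    intro w hw
    rw [mem_C1]
    have := h2 _ (mul_mem hy hw)
    calc y * w = (y * w)⁻¹ := eq_inv_of_mul_eq_one_left this
      _ = w * y := by
        rw [mul_inv_rev, inv_eq_of_mul_eq_one_right (h2 w hw), inv_eq_of_mul_eq_one_right (h2 y hy)])
    (isPGroup_cj_iff.2 hp)
  exact inv_mem_iff.1 (cj_eq_self_iff.1 (eq_of_le_of_card_ge h4 (card_cj _ _).ge))

theorem a5_of_normal_four [IsSimpleGroup G] {x : G} (hx : orderOf x = 2) {V : Subgroup G}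
    (hle : V ≤ centralizer ({x} : Set G)) (hV : IsKleinFour V)
    (hodd : ¬ 2 ∣ V.relIndex (centralizer ({x} : Set G)))
    (hn : centralizer ({x} : Set G) ≤ normalizer (V : Set G)) :
    Nonempty (G ≃* alternatingGroup (Fin 5)) := by
  have hp : IsPGroup 2 V := IsPGroup.of_card (n := 2) hV.card_four
  have hS := sylIn_of_not_dvd hle hp hodd
  have hu : ∀ W : Subgroup G, W ≤ centralizer ({x} : Set G) → IsPGroup 2 W → W ≤ V :=
    fun W h1 h2 => hS.le_of_normalizer h2 h1 (h1.trans hn)
  have hm : ∀ y, orderOf y = 2 → x * y = y * x → y ∈ V := fun y h1 h2 =>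
    hu _ (zpowers_le.2 (mem_C1.2 h2)) (isPGroup_zpowers_of_orderOf_eq h1) (mem_zpowers y)
  have h4 : 4 ∣ Nat.card G := hV.card_four ▸ card_subgroup_dvd_card V
  obtain ⟨hG, hI⟩ := simple_facts (G := G) (fun e => by rw [e] at h4; omega)
  have hf : Few x := fun y w hy hw h1 h2 h3 h5 => by
    have e : zpowers x ⊔ zpowers y = V := eq_of_le_of_card_ge
      (sup_le (zpowers_le.2 (hm x hx rfl)) (zpowers_le.2 (hm y hy h1)))
      (by rw [card_four hx hy h3 h1, hV.card_four])
    rcases (mem_four hx hy h1).1 (e ▸ hm w hw h2) with a | a | a | a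
    · exact absurd a (ne_one_of_ord hw)
    · exact absurd a h5
    · exact .inl a
    · exact .inr a
  obtain ⟨⟨S, hSx⟩, hone⟩ := one_class_of_few hG hI hx hf
  obtain rfl : V = S := (S.is_maximal' hp (hu _ hSx S.isPGroup')).symm ▸ rfl
  have hxS := hm x hx rfl
  have hC : centralizer ({x} : Set G) ≤ centralizer ((S : Subgroup G) : Set G) := by
    intro g hg y hy
    have hab : (S : Subgroup G) ≤ centralizer ({y} : Set G) := fun w hw => mem_C1.2
      (congrArg Subtype.val (hV.isMulCommutative.is_comm.comm (⟨y, hy⟩ : (S : Subgroup G)) ⟨w, hw⟩))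
    have := normal_subgroupOf_of_le_normalizer hn
    have h5 : g ^ (S : Subgroup G).relIndex (centralizer ({x} : Set G)) ∈ (S : Subgroup G) := by
      simpa [relIndex] using mem_subgroupOf.1 (pow_index_mem
        ((S : Subgroup G).subgroupOf (centralizer ({x} : Set G))) ⟨g, hg⟩)
    obtain ⟨k, hk⟩ := Nat.not_even_iff_odd.1 fun e => hodd e.two_dvd
    have hgx : g * x * g⁻¹ = x := by rw [← mem_C1.1 hg]; group
    have h6 : g ^ 2 ∈ centralizer ({y} : Set G) := by
      by_cases e : y = 1
      · rw [e, mem_C1, one_mul, mul_one]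
      by_cases e' : y = x
      · exact pow_mem (e' ▸ hg) 2
      have hy2 : orderOf y = 2 := ord_of_mul_self
        (congrArg Subtype.val (IsKleinFour.mul_self (⟨y, hy⟩ : (S : Subgroup G)))) e
      rw [mem_C1, eq_comm, ← mul_inv_eq_iff_eq_mul]
      rcases hf y (g * y * g⁻¹) hy2 (by rw [ord_conj, hy2]) (mem_C1.1 (hSx hy))
        (mem_C1.1 (hSx (conj_mem_of_le_normalizer hn hg hy))) e'
        (fun a => e' (by simpa using a.trans hgx.symm)) with a | a
      · calc g ^ 2 * y * (g ^ 2)⁻¹ = g * (g * y * g⁻¹) * g⁻¹ := by rw [pow_two]; group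
          _ = y := by rw [a, a]
      · calc g ^ 2 * y * (g ^ 2)⁻¹ = g * (g * y * g⁻¹) * g⁻¹ := by rw [pow_two]; group
          _ = (g * x * g⁻¹) * (g * y * g⁻¹) := by conv_lhs => rw [a]
                                                  group
          _ = y := by rw [hgx, a, ← mul_assoc, mul_self_of_ord hx, one_mul]
    have h7 := hab h5
    rw [hk, pow_succ, pow_mul] at h7
    exact mem_C1.1 ((mul_mem_cancel_left (pow_mem h6 k)).1 h7)
  have hne : normalizer ((S : Subgroup G) : Set G) ≠ ⊤ := fun e => by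
    rcases (normalizer_eq_top_iff.1 e).eq_bot_or_eq_top with a | a
    · rw [a, mem_bot] at hxS; exact ne_one_of_ord hx hxS
    · obtain ⟨H, h⟩ := Sylow.exists_subgroup_card_pow_prime (G := G) 2 (n := 1)
        (dvd_trans (by norm_num) h4)
      have h6 := H.card_mul_index
      rw [h, ← card_top, ← a, hV.card_four] at h6
      exact hG H (by omega)
  have hnc : ¬ HasNormalPComplement 2 G := by
    rintro ⟨P, N, h1, h2⟩
    rcases h1.eq_bot_or_eq_top with rfl | rfl
    · have := isComplement'_bot_left.1 h2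
      exact hne (normalizer_eq_top_iff.2 (by
        rw [show (S : Subgroup G) = ⊤ from (card_eq_iff_eq_top _).1 (by
          rw [S.card_eq_multiplicity, ← P.card_eq_multiplicity, this, card_top])]
        infer_instance))
    · have := isComplement'_top_left.1 h2
      have h3 := P.card_eq_multiplicity.trans S.card_eq_multiplicity.symm
      rw [this, hV.card_four, card_bot] at h3
      omega
  have h15 := klein_index_le S hV hone hnc hxS hx hC
  have h3 := three_le_relIndex hV hxS hx hone hu
  have h5 := relIndex_mul_index hn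
  have h6 : (normalizer ((S : Subgroup G) : Set G)).index ≤ 5 := by nlinarith
  have h7 := Transfer.card_dvd_factorial_of_normalCore (H := normalizer ((S : Subgroup G) : Set G))
    ((normalCore_normal _).eq_bot_or_eq_top.resolve_right fun e =>
      hne (top_le_iff.1 (e ▸ normalCore_le _)))
  have h8 : Nat.card G ∣ 120 := h7.trans (Nat.factorial_dvd_factorial h6)
  have h9 := (S : Subgroup G).card_mul_index
  have h10 := odd_index_sylow S
  have h11 := (centralizer ({x} : Set G)).card_mul_index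
  have h12 := card_le_of_le hle
  have h13 : (normalizer ((S : Subgroup G) : Set G)).index ≠ 1 := fun e => hne (index_eq_one.1 e)
  have h14 : (normalizer ((S : Subgroup G) : Set G)).index ≠ 0 := index_ne_zero_of_finite
  rw [hV.card_four] at h9 h12
  have h16 : 24 ≤ Nat.card G := by
    rw [← h11, ← h5]
    calc 24 = 4 * (3 * 2) := rfl
      _ ≤ _ := Nat.mul_le_mul h12 (Nat.mul_le_mul h3 (by omega))
  refine S0494.result ?_
  rw [← h9] at h8 h16 ⊢
  have h17 := Nat.le_of_dvd (by norm_num) h8
  generalize (S : Subgroup G).index = i at *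
  have : i ≤ 30 := by omega
  obtain ⟨k, rfl⟩ := h10
  have : k ≤ 14 := by omega
  interval_cases k <;> omega

end Cfsg.Agent.Ez
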