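import Cfsg.Agent.Lib.Ez.A9
import Cfsg.Agent.S3277
import Cfsg.Agent.Lib.Perm.Tri

set_option autoImplicit false

namespace Cfsg.Agent.Ez

open Subgroup Cfsg.Agent.Comp Cfsg.Agent.Char Finset
open scoped commutatorElement Pointwise

universe u
variable {G : Type u} [Group G]

/-- Conclusion of the Brauer--Suzuki--Wall theorem. -/
def BSWC (Q D : Subgroup G) : Prop :=
  2 * Nat.card G = Nat.card Q * (Nat.card Q + 1) * (Nat.card Q - 1) ∧
    (∀ x ∈ Q, x ≠ 1 → centralizer ({x} : Set G) = Q) ∧ IsMulCommutative D ∧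
    2 * Nat.card D + 1 = Nat.card Q ∧ Q ⊓ D = ⊥ ∧ normalizer (Q : Set G) = Q ⊔ D ∧
    ∀ X : Subgroup G, X ≤ D → X ≠ ⊥ → normalizer (X : Set G) = normalizer (D : Set G) ∧
      ∃ u : G, orderOf u = 2 ∧ u ∉ D ∧ (∀ d ∈ D, u * d * u⁻¹ = d⁻¹) ∧
        normalizer (D : Set G) = D ⊔ zpowers u

theorem exists_conj_inv {t x : G} (h : ∀ u, orderOf u = 2 → IsConj u t) (hr : SR x) :
    ∃ g, t * (g * x * g⁻¹) * t⁻¹ = (g * x * g⁻¹)⁻¹ := by
  obtain ⟨u, hu, hi⟩ := hr
  obtain ⟨g, rfl⟩ := isConj_iff.1 (h u hu)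
  exact ⟨g, by rw [conj_inv (a := x), ← hi]; group⟩

theorem conj_mem_T1 [Fintype G] {K : Subgroup G} {m : ℕ} {x g : G} :
    g * x * g⁻¹ ∈ T1 K m ↔ x ∈ T1 K m := by rw [mem_T1, mem_T1, inC_conj, ord_conj]

theorem conj_mem_T2 [Fintype G] {K : Subgroup G} {m : ℕ} {x g : G} :
    g * x * g⁻¹ ∈ T2 K m ↔ x ∈ T2 K m := by rw [mem_T2, mem_T2, inC_conj, ord_conj]

theorem card_five_A5 : Nat.card {g : alternatingGroup (Fin 5) // g ^ 5 = 1} = 25 := by
  rw [Nat.card_eq_fintype_card]; decide +kernel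

namespace BSW

variable [Fintype G] {t s : G} {K : Subgroup G} (h : BSW t s K) {q m : ℕ} {x y : G}
include h

set_option quotPrecheck false in
local notation "H" => centralizer ({t} : Set G)

theorem nd_two (hk : Nat.card K = 2) : ∃ q m, ND t K q m := by
  classical
  have h1 : Nat.card H = 4 := by rw [h.card_H, hk]
  have h2 : ∀ c ∈ H, c ^ 2 = 1 := fun c hc => (em (c ∈ K)).elim
    (fun a => hk ▸ orderOf_dvd_iff_pow_eq_one.1 (orderOf_dvd_natCard K a))
    fun a => (h.out hc a).1 ▸ pow_orderOf_eq_one c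
  have h3 : s ≠ t := fun e => h.sK (e ▸ h.tK)
  have h4 : IsPGroup 2 H := .of_card (n := 2) h1
  have h5 : ¬ HasNormalPComplement 2 G := fun e => h3
    (Transfer.eq_of_isConj_of_hasNPC_of_abelian (h4.toSylow (h.not_dvd_index Nat.prime_two (by simp)))
      (IsPGroup.isMulCommutative_of_card_eq_prime_sq (p := 2) h1) e h.sH (h.le h.tK) (h.one _ _ h.hs h.ht))
  have h6 := fun m => h.sum_split m (IsClassFunction.const 1)
  have h7 := card_filter_ne_mem K
  simp only [sum_const, nsmul_eq_mul, mul_one, card_univ, ← Nat.card_eq_fintype_card] at h6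
  rw [hk] at h7
  rw [Nat.succ_injective h7, ← (H).index_mul_card, h1] at h6
  by_cases h8 : ∀ E : Subgroup G, E.Normal → IsElementaryAbelian 2 E →
      Nat.card E ≠ 2 ∧ Nat.card E ≠ 4
  · obtain ⟨e⟩ := S3277.result t h.ht h1 h2 h5 h8
    have a1 := (H).index_mul_card
    rw [h1, Nat.card_congr e.toEquiv, Perm.Tri.card_A5] at a1
    have a2 : ∀ x : G, orderOf x ∣ 2 ∨ orderOf x ∣ 3 ∨ orderOf x ∣ 5 := fun x =>
      e.orderOf_eq x ▸ Perm.Tri.orders_A5 (e x)
    refine ⟨5, 3, .inl (by omega), by omega, fun x _ => ?_, ?_⟩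
    · rcases a2 x with a | a | a
      · exact .inl (Nat.Coprime.coprime_dvd_left a (by norm_num))
      · exact .inl (Nat.Coprime.coprime_dvd_left a (by norm_num))
      · exact .inr (Nat.Coprime.coprime_dvd_left a (by norm_num))
    have a3 : Nat.card {g : G // g ^ 5 = 1} = 25 := card_five_A5 ▸ Nat.card_congr
      (e.toEquiv.subtypeEquiv fun x => by simp [← map_pow])
    rw [Nat.card_eq_fintype_card, Fintype.card_subtype] at a3
    rw [show 5 ^ 2 = 25 from rfl, ← a3]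
    refine Eq.trans (congrArg (fun s : Finset G => s.card + 1) ?_) (card_erase_add_one (a := 1) (by simp))
    ext x
    rw [mem_T1, mem_erase, mem_filter, ← orderOf_dvd_iff_pow_eq_one]
    refine ⟨fun ⟨a, b⟩ => ⟨fun c => a (c ▸ .of_mem K.one_mem), mem_univ _, ?_⟩, fun ⟨a, _, b⟩ =>
      ⟨fun ⟨g, c⟩ => a (orderOf_eq_one_iff.1 (Nat.eq_one_of_dvd_coprimes (by norm_num) b
        (hk ▸ ord_conj g x ▸ orderOf_dvd_natCard K c))), Nat.Coprime.coprime_dvd_left b (by norm_num)⟩⟩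
    rcases a2 x with c | c | c
    · exact (Nat.Coprime.eq_one_of_dvd ((h.coprime_cent a).coprime_mul_right_right.coprime_dvd_left
        (orderOf_dvd_natCard _ (mem_C1.2 rfl))) c) ▸ one_dvd _
    · exact b.eq_one_of_dvd c ▸ one_dvd _
    · exact c
  push Not at h8
  obtain ⟨E, hE, -, h8⟩ := h8
  have a0 : Nat.card E ∣ 4 ∧ 2 ∣ Nat.card E := by by_cases a : Nat.card E = 2 <;> simp_all
  obtain ⟨v, hv, hv2⟩ := exists_mem_orderOf_eq a0.2
  have a1 : H ≤ E := fun c hc => (em (c = 1)).elim (· ▸ one_mem _) fun a => by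
    obtain ⟨g, rfl⟩ := isConj_iff.1 (h.one v c hv2 (orderOf_eq_prime (h2 c hc) a))
    exact hE.conj_mem v hv g
  have a2 : H = E := eq_of_le_of_card_ge a1 (h1 ▸ Nat.le_of_dvd (by norm_num) a0.1)
  have a3 : (H).index = 3 := by
    have b1 := relIndex_cent_lt (S := ⊤) (a2 ▸ le_normalizer_of_normal) (h.le h.tK) (ne_one_of_ord h.ht)
    rw [relIndex_top_right, h1] at b1
    have b2 := h.not_dvd_index Nat.prime_two (by simp)
    have b3 : (H).index ≠ 1 := fun e => by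
      obtain ⟨g, rfl⟩ := isConj_iff.1 (h.one t s h.ht h.hs)
      exact h3 (by rw [← mem_C1.1 ((index_eq_one.1 e).ge (mem_top g)), mul_inv_cancel_right])
    omega
  refine ⟨3, 1, .inr (by omega), a3, fun x _ => .inr (Nat.coprime_one_right _), ?_⟩
  have := h6 1
  rw [a3, show T2 K 1 = ∅ by ext; simp [mem_T2]] at this
  have : 3 * 4 = 1 + 3 * 1 + (T1 K 1).card + 0 := by exact_mod_cast this
  omega

theorem exists_nd : ∃ q m, ND t K q m := by
  obtain ⟨j, hj⟩ := h.even_K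
  have := Nat.card_pos (α := K)
  by_cases a : Nat.card K = 2
  · exact h.nd_two a
  by_cases b : Nat.card K = 4
  · obtain ⟨p, r, d, c⟩ := h.cd_of_four b
    exact h.nd_of_cd c
  obtain ⟨p, r, d, c⟩ := h.cd_of_large (by omega)
  exact h.nd_of_cd c

theorem two_card (n : ND t K q m) : 2 * Nat.card G = q * (q + 1) * (q - 1) := by
  rw [h.card_G n.idx]
  rcases n.qm with ⟨rfl, rfl⟩ | ⟨a, b⟩
  · simp only [Nat.add_sub_cancel]; ring
  · rw [a, show q - 1 = 2 * m by omega]; ring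

theorem concl_A (n : ND t K q m) (hq : q = 2 * Nat.card K + 1) (hm : m = Nat.card K + 1) :
    ∃ Q, BSWC Q K := by
  have hk : 0 < Nat.card K := Nat.card_pos
  obtain ⟨x, hx, h1⟩ : ∃ x ∈ T1 K m, nf t x ≠ 0 := exists_ne_zero_of_sum_ne_zero fun e => by
    have a := h.sum_nf_T n
    have b := h.card_T2 n
    have c := sum_le_card_nsmul _ _ _ fun x => h.nf_T2 n (x := x)
    rw [smul_eq_mul] at c
    rw [e] at a
    generalize (T2 K m).card = N at *
    subst hq hm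
    obtain rfl : N = (2 * Nat.card K + 1) * Nat.card K ^ 2 := by nlinarith
    nlinarith
  obtain ⟨g, hg⟩ := exists_conj_inv (fun u hu => h.one u t hu h.ht) (h.sr_of_nf h1)
  have hy := (conj_mem_T1 (g := g)).2 hx
  obtain ⟨h2, E, h3, -, h5, h6, -, h7⟩ := h.sr_T1 n hy hg
  obtain rfl : E = K := eq_of_le_of_card_ge h3 (by omega)
  exact ⟨_, h2.symm ▸ h.two_card n, fun y a b => (h.cent_eq (mem_T1.1 hy).1 ⟨t, h.ht, hg⟩ a b).2.2,
    h.ab, by omega, h5, h6, h.dih.concl⟩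

theorem nf_ne (hx : ¬ InC K x) (hr : SR x) : nf t x ≠ 0 := by
  obtain ⟨u, hu, hi⟩ := hr
  have h1 := mul_self_of_ord hu
  rw [nf_eq h.ht]
  refine Nat.card_ne_zero.2 ⟨⟨u, h.isConj_iff_ord.2 hu, h.isConj_iff_ord.2 (ord_of_mul_self ?_
    fun e => hx (h.inC_invol ?_))⟩, inferInstance⟩
  · calc u * x * (u * x) = u * x * (u * u)⁻¹ * (u * x) := by rw [h1]; group
      _ = u * x * u⁻¹ * x := by group
      _ = 1 := by rw [hi]; group
  · rw [eq_inv_of_mul_eq_one_right e, orderOf_inv, hu]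

theorem not_sr (n : ND t K q m) (hq : q + 1 = 2 * Nat.card K) (hm : m + 1 = Nat.card K)
    (hx : x ∈ T1 K m) : ¬ SR x := fun hr => by
  obtain ⟨g, hg⟩ := exists_conj_inv (fun u hu => h.one u t hu h.ht) hr
  obtain ⟨-, E, h3, h4, -, -, h6, h7⟩ := h.sr_T1 n ((conj_mem_T1 (g := g)).2 hx) hg
  have a1 : 2 ∣ Nat.card E := h.ht ▸ orderOf_dvd_natCard E h4
  have a2 := card_dvd_of_le h3
  have a3 : Nat.card E ∣ 2 := (Nat.dvd_add_right h6).1
    (show q - 1 + 2 = Nat.card K * 2 by omega ▸ a2.mul_right 2)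
  have a4 := Nat.le_of_dvd two_pos a3
  obtain ⟨j, hj⟩ := h.even_K
  have a5 := h.sum_nf_T n
  have a6 := single_le_sum (f := nf t) (fun _ _ => Nat.zero_le _) hx
  have a7 := h.nf_ne (mem_T1.1 hx).1 hr
  have a8 := h.qm_pos n
  obtain rfl : m = 1 := by rcases m with _ | m <;> omega
  obtain rfl : q = 3 := by omega
  rw [← hm] at a5
  omega

theorem dih_T2 (n : ND t K q m) (hq : q + 1 = 2 * Nat.card K) (hm : m + 1 = Nat.card K)
    (hx : x ∈ T2 K m) : ∃ A u, Dih A u ∧ x ∈ A ∧ Nat.card A = m := by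
  have h1 : nf t x = m := (sum_eq_sum_iff_of_le fun x => h.nf_T2 n (x := x)).1 (by
    have a := h.sum_nf_T n
    have b := h.card_T2 n
    rw [sum_eq_zero fun y hy => by_contra fun e => h.not_sr n hq hm hy (h.sr_of_nf e), ← hm] at a
    rw [← hm] at b
    rw [sum_const, smul_eq_mul]
    obtain rfl : q = 2 * m + 1 := by omega
    nlinarith) x hx
  have h2 : 1 < m := by
    have := h.qm_pos n
    have := (mem_T2.1 hx).2
    rcases m with _ | _ | m <;> simp_all
  have h3 := h.sr_of_nf (x := x) (by omega)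
  obtain ⟨g, hg⟩ := exists_conj_inv (fun u hu => h.one u t hu h.ht) h3
  have hy := (conj_mem_T2 (g := g)).2 hx
  have h4 : Nat.card (centralizer ({g * x * g⁻¹} : Set G)) = m := le_antisymm
    (Nat.le_of_dvd (by omega) (h.cent_T2 n hy)) (by rw [← h1, ← nf_conj t x g]; exact h.nf_le)
  have hy' := (mem_T2.1 hy).1
  obtain ⟨E, h5, h6, h7, h8, h9⟩ := h.nm_cent hy' hg
  have a1 : Nat.card E ∣ 2 := (Nat.dvd_add_right h9).1
    (show Nat.card (centralizer ({g * x * g⁻¹} : Set G)) - 1 + 2 = Nat.card K by omega ▸ card_dvd_of_le h5)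
  obtain rfl : zpowers t = E := eq_of_le_of_card_ge (zpowers_le.2 h6)
    (by rw [Nat.card_zpowers, h.ht]; exact Nat.le_of_dvd two_pos a1)
  have d : Dih (centralizer {g * x * g⁻¹}) t := ⟨h.ht, fun e => ne_one_of_ord h.ht
    (mem_bot.1 (h7.le ⟨e, h6⟩)), fun a => h.inverts_cent hy' h.ht hg,
    h8 ▸ h.ti_cent hy' ⟨t, h.ht, hg⟩⟩
  exact ⟨_, _, d.conj g⁻¹, mem_cj.2 (by rw [inv_inv]; exact mem_C1.2 rfl), by rw [card_cj, h4]⟩

theorem cent_B (n : ND t K q m) (hq : q + 1 = 2 * Nat.card K) (hm : m + 1 = Nat.card K)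
    (hx : x ∈ T1 K m) : Nat.card (centralizer ({x} : Set G)) = q ∧
      ∀ y ∈ T1 K m, orderOf y = orderOf x := by
  classical
  have h1 : ¬ IsConj x x⁻¹ := fun e => h.not_sr n hq hm hx (sr_of_isConj_inv
    (fun a => (mem_T1.1 hx).1 (a ▸ .of_mem K.one_mem)) (h.odd_cent (mem_T1.1 hx).1) e)
  have h2 : ∀ x : G, (univ.filter (IsConj x)).card = (centralizer ({x} : Set G)).index := fun x => by
    rw [← card_isConj_eq_index, Nat.card_eq_fintype_card, Fintype.card_subtype]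
  have h3 : univ.filter (IsConj x) ∪ univ.filter (IsConj x⁻¹) ⊆ T1 K m := fun y hy => by
    rcases mem_union.1 hy with a | a <;> obtain ⟨g, rfl⟩ := isConj_iff.1 (mem_filter.1 a).2
    · exact conj_mem_T1.2 hx
    · exact conj_mem_T1.2 (h.mem_T1_of n hx (inv_mem (mem_C1.2 rfl)) fun e => h1 (by
        rw [e, inv_eq_one.1 e]))
  have h4 := card_union_of_disjoint (s := univ.filter (IsConj x)) (t := univ.filter (IsConj x⁻¹))
    (disjoint_filter.2 fun y _ a b => h1 (a.trans b.symm))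
  rw [h2, h2, ← centralizer_zpowers x⁻¹, zpowers_inv, centralizer_zpowers] at h4
  have h5 := card_le_card h3
  have h6 := (centralizer ({x} : Set G)).index_mul_card
  have h7 := n.n1
  have h8 := h.qm_pos n
  have h9 := Nat.le_of_dvd (Nat.pos_of_mul_pos_right h8) (h.cent_T1 n hx)
  rw [h.card_G n.idx, ← hm] at h6
  obtain rfl : q = 2 * m + 1 := by omega
  have hm0 := Nat.pos_of_mul_pos_left h8
  have a1 : Nat.card (centralizer ({x} : Set G)) = 2 * m + 1 := le_antisymm h9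
    (Nat.le_of_mul_le_mul_left (c := 2 * (m + 1) * m) (by nlinarith) (by positivity))
  refine ⟨a1, fun y hy => ?_⟩
  rw [a1] at h6
  have a2 : (centralizer ({x} : Set G)).index = 2 * (m + 1) * m :=
    Nat.eq_of_mul_eq_mul_right (m := 2 * m + 1) (by omega) (by linarith)
  rcases mem_union.1 (eq_of_subset_of_card_le h3 (by nlinarith) ▸ hy) with a | a <;>
    obtain ⟨g, rfl⟩ := isConj_iff.1 (mem_filter.1 a).2 <;> simp [ord_conj]

theorem concl_B (n : ND t K q m) (hq : q + 1 = 2 * Nat.card K) (hm : m + 1 = Nat.card K) :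
    ∃ Q D : Subgroup G, BSWC Q D := by
  classical
  have hk := Nat.le_of_dvd Nat.card_pos h.even_K
  obtain ⟨x, hx⟩ : (T1 K m).Nonempty := card_pos.1 (by have := n.n1; nlinarith)
  obtain ⟨p, hp, h1⟩ := Nat.exists_prime_and_dvd (n := Nat.card (centralizer ({x} : Set G)))
    (h.one_lt_cent (mem_T1.1 hx).1).ne'
  have := Fact.mk hp
  obtain ⟨y, h2, hy⟩ := exists_mem_orderOf_eq h1
  have h3 := h.mem_T1_of n hx h2 fun e => hp.one_lt.ne' (by rw [← hy, e, orderOf_one])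
  clear h1 h2 hx x
  have h4 : ∀ z ∈ T1 K m, orderOf z = p := hy ▸ (h.cent_B n hq hm h3).2
  have c1 : p.Coprime m := hy ▸ (mem_T1.1 h3).2
  have c2 : p.Coprime (2 * Nat.card K) := hy ▸ (h.coprime_cent (mem_T1.1 h3).1).coprime_dvd_left
    (orderOf_dvd_natCard _ (mem_C1.2 rfl))
  have hq0 : 0 < q := by omega
  have h5 : ∀ z ∈ T1 K m, SylIn p (centralizer {z}) ⊤ := fun z hz => by
    refine sylIn_of_not_dvd le_top (fun w => ⟨1, Subtype.ext ?_⟩) ?_
    · by_cases e : w.1 = 1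
      · simp [e]
      · simp [← h4 _ (h.mem_T1_of n hz w.2 e), pow_orderOf_eq_one]
    have a := (centralizer ({z} : Set G)).index_mul_card
    rw [(h.cent_B n hq hm hz).1, h.card_G n.idx, mul_comm q, ← mul_assoc] at a
    rw [relIndex_top_right, Nat.eq_of_mul_eq_mul_right hq0 a]
    exact (Nat.Prime.coprime_iff_not_dvd hp).1 (c2.mul_right c1)
  have h6 : ∀ z : G, (orderOf z).Prime → orderOf z ≠ p → ∃ A u, Dih A u ∧ z ∈ A ∧
      ∃ u, Dih A u ∧ (Nat.card A = m ∨ Nat.card A = Nat.card K) := fun z _ b => by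
    by_cases c : InC K z
    · obtain ⟨g, c⟩ := c
      exact ⟨_, _, h.dih.conj g⁻¹, mem_cj.2 (by rwa [inv_inv]), _, h.dih.conj g⁻¹, .inr (card_cj _ _)⟩
    · obtain ⟨A, u, d, e, f⟩ := h.dih_T2 n hq hm (mem_T2.2 ⟨c, fun e => b (h4 z (mem_T1.2 ⟨c, e⟩))⟩)
      exact ⟨A, u, d, e, u, d, .inl f⟩
  have h7 : ∀ U : Subgroup G, U ≠ ⊥ → IsPGroup p U → Odd (Nat.card (normalizer (U : Set G))) :=
    fun U a b => Nat.not_even_iff_odd.1 fun c => by
      obtain ⟨u, hu, hu2⟩ := exists_mem_orderOf_eq c.two_dvd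
      obtain ⟨w, hw, e⟩ := U.bot_or_exists_ne_one.resolve_left a
      obtain ⟨j, hj⟩ := b.exists_card_eq
      have d := hj ▸ orderOf_dvd_natCard U hw
      exact h.not_sr n hq hm (mem_T1.2 ⟨fun ⟨g, c⟩ => e (orderOf_eq_one_iff.1
        (Nat.eq_one_of_dvd_coprimes (c2.coprime_mul_left_right.pow_left j) d
        (ord_conj g w ▸ orderOf_dvd_natCard K c))), (c1.pow_left j).coprime_dvd_left d⟩)
        ⟨u, hu2, h.inverts (hj ▸ c2.pow_left j) hu2 hu hw⟩
  set Q := centralizer ({y} : Set G)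
  have h8 : ∀ w ∈ Q, w ≠ 1 → centralizer {w} = Q := fun w a b => sylIn_unique (fun z c d => by
      obtain ⟨A, u, d, e, -, -, f⟩ := h6 z c d
      refine ⟨A, u, d, e, (Nat.Prime.coprime_iff_not_dvd hp).1 ?_⟩
      rcases f with f | f <;> rw [f]
      exacts [c1, c2.coprime_mul_left_right]) h7 (zpowers w) (zpowers_ne_bot.2 b) _ _
    (h5 w (h.mem_T1_of n h3 a b)) (h5 y h3) (zpowers_le.2 (mem_C1.2 rfl)) (zpowers_le.2 a)
  have h9 := card_TI (A := Q) le_normalizer le_rfl fun w a b g c => cj_eq_self_iff.1 (by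
    rw [← h8 w a b, cj_centralizer_singleton, h8 _ c (by simpa using b), h8 w a b])
  have hQ : Nat.card Q = q := (h.cent_B n hq hm h3).1
  rw [show (univ.filter fun g => g ≠ 1 ∧ InC Q g) = T1 K m from ?_, hQ] at h9
  swap
  · ext z
    rw [mem_filter]
    refine ⟨fun ⟨_, a, g, b⟩ => conj_mem_T1.1 (h.mem_T1_of n h3 b (by simpa using a)), fun a =>
      ⟨mem_univ _, fun e => (mem_T1.1 a).1 (e ▸ .of_mem K.one_mem), ?_⟩⟩
    obtain ⟨g, -, b⟩ := (h5 y h3).exists_cj_le (isPGroup_zpowers_of_orderOf_eq (h4 z a)) le_top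
    exact ⟨g, b (conj_mem_cj.2 (mem_zpowers z))⟩
  have a1 : (normalizer (Q : Set G)).index = 2 * Nat.card K := by
    have := n.n1
    obtain ⟨q, rfl⟩ : ∃ r, q = r + 1 := ⟨q - 1, by omega⟩
    exact Nat.eq_of_mul_eq_mul_right (m := q) (by omega) (by nlinarith)
  have a2 : Q.relIndex (normalizer (Q : Set G)) = m := by
    have a := (normalizer (Q : Set G)).index_mul_card
    rw [← relIndex_mul_card le_normalizer, a1, hQ, h.card_G n.idx, mul_comm q] at a
    exact Nat.eq_of_mul_eq_mul_right hq0 (Nat.eq_of_mul_eq_mul_left (by omega) a)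
  rcases (le_normalizer : Q ≤ _).eq_or_lt with e | lt
  · refine ⟨Q, ⊥, hQ.symm ▸ h.two_card n, h8, inferInstance, ?_, inf_bot_eq _,
      by rw [sup_bot_eq, ← e], fun X a b => absurd (le_bot_iff.1 a) b⟩
    rw [← e, relIndex_self] at a2
    rw [card_bot]; omega
  obtain ⟨A, ⟨u, d, f⟩, e⟩ := exists_dih_sup h6 (h7 Q (fun e => (mem_T1.1 h3).1
    (mem_bot.1 (e.le (mem_C1.2 rfl)) ▸ .of_mem K.one_mem)) (h5 y h3).isP) lt le_rfl
    fun R a b _ => (h5 y h3).le_of_normalizer b le_top a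
  have a3 : m ∣ Nat.card (normalizer (Q : Set G) ⊓ A : Subgroup G) := by
    rw [← a2]; nth_rw 1 [← e]; exact relIndex_sup_dvd_card' inf_le_left
  have a4 : m ≠ 1 := fun c => lt.not_ge (relIndex_eq_one.1 (c ▸ a2))
  have a5 : Nat.card A = m := f.resolve_right fun c => a4 (Nat.dvd_one.1 ((Nat.dvd_add_right
    (dvd_refl m)).1 (hm ▸ c ▸ a3.trans (card_dvd_of_le inf_le_right))))
  rw [eq_of_le_of_card_ge (inf_le_right (a := normalizer (Q : Set G)) (b := A))
    (a5 ▸ Nat.le_of_dvd Nat.card_pos a3)] at e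
  obtain ⟨j, hj⟩ := (h5 y h3).isP.exists_card_eq
  exact ⟨Q, A, hQ.symm ▸ h.two_card n, h8, d.ab, by omega,
    eq_bot_of_coprime (hj ▸ a5 ▸ c1.pow_left j), e.symm, d.concl⟩

theorem concl : ∃ Q D : Subgroup G, BSWC Q D := by
  obtain ⟨q, m, n⟩ := h.exists_nd
  rcases n.qm with ⟨a, b⟩ | ⟨a, b⟩
  · exact (h.concl_A n a b).imp fun _ c => ⟨K, c⟩
  · exact h.concl_B n a b

end BSW

end Cfsg.Agent.Ez
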