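import Cfsg.Agent.Lib.Ez.A10
import Cfsg.Agent.Lib.Char.Zass8

set_option autoImplicit false

namespace Cfsg.Agent.Ez

open Subgroup Cfsg.Agent.Comp MulAction
open scoped commutatorElement Pointwise

universe u
variable {G : Type u} [Group G] [Finite G]

theorem zass_of_reg {Ω : Type*} [MulAction G Ω] [Finite Ω] [IsPretransitive G Ω] [IsSimpleGroup G]
    (a : Ω) {Q : Subgroup G} (hN : stabilizer G a ≤ normalizer (Q : Set G)) (lt : Q < stabilizer G a)
    (hC : ∀ v ∈ Q, v ≠ 1 → centralizer {v} ≤ Q) (hb : ∀ v ∈ Q, ∀ b, b ≠ a → v • b = b → v = 1)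
    (hc : Nat.card Q + 1 = Nat.card Ω) : IsZassenhausGroup G Ω := by
  classical
  have h1 : ∀ b c, b ≠ a → c ≠ a → ∃ v ∈ Q, v • b = c := fun b c h1 h2 => by
    obtain ⟨v, hv⟩ := ((Nat.bijective_iff_injective_and_card (fun v : Q => (⟨(v : G) • b, fun e => h1
      (smul_left_cancel _ (e.trans (lt.le v.2).symm))⟩ : {c // c ≠ a}))).2 ⟨fun x y e => Subtype.ext
      (eq_of_inv_mul_eq_one (hb _ (mul_mem (inv_mem x.2) y.2) b h1 (by
        rw [mul_smul, ← show _ = (y : G) • b from congrArg Subtype.val e, inv_smul_smul]))), by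
      have := Nat.card_congr (Equiv.optionSubtypeNe a)
      rw [Finite.card_option] at this
      omega⟩).2 ⟨c, h2⟩
    exact ⟨v, v.2, congrArg Subtype.val hv⟩
  have h2 : ∀ (g : G) b c, b ≠ a → c ≠ a → b ≠ c → g • a = a → g • b = b → g • c = c → g = 1 :=
    fun g b c e1 e2 e3 ha hb' hc' => by
      obtain ⟨v, hv, h⟩ := h1 b c e1 e2
      have h2 := hb _ (mul_mem (inv_mem hv) (conj_mem_of_mem_normalizer (hN ha) hv)) b e1 (by
        rw [mul_smul, mul_smul, mul_smul, inv_smul_eq_iff.2 hb'.symm, h, hc', inv_smul_eq_iff, h])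
      exact hb g (hC v hv (by rintro rfl; exact e3 (by simpa using h)) (mem_C1.2
        (mul_inv_eq_iff_eq_mul.1 (eq_of_inv_mul_eq_one h2).symm).symm)) b e1 hb'
  obtain ⟨b, h3⟩ : ∃ b, b ≠ a := by
    have : Nontrivial Ω := Finite.one_lt_card_iff_nontrivial.1 (by have := Nat.card_pos (α := Q); omega)
    exact exists_ne a
  obtain ⟨g, hg, hg'⟩ := SetLike.exists_of_lt lt
  refine ⟨⟨fun {x y} e => ?_⟩, Perm.two_trans_of_stab a fun b c e1 e2 => ?_,
    fun g x y z e1 e2 e3 hx hy hz => ?_, ?_, fun R hR1 hR2 => ⟨a, fun e => ?_⟩⟩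
  · rcases (toPermHom G Ω).normal_ker.eq_bot_or_eq_top with h | h
    · exact (toPermHom G Ω).ker_eq_bot_iff.1 h (Equiv.ext e)
    · obtain ⟨k, hk⟩ := exists_smul_eq G a b
      exact absurd (hk.symm.trans (Equiv.congr_fun (h.ge (mem_top k)) a)) h3
  · obtain ⟨v, hv, h⟩ := h1 b c e1 e2
    exact ⟨v, lt.le hv, h⟩
  · obtain ⟨k, rfl⟩ := exists_smul_eq G x a
    simpa using h2 (k * g * k⁻¹) (k • y) (k • z) (by simpa using e1.symm) (by simpa using e3.symm)
      (by simpa using e2) (by simp [mul_smul, hx]) (by simp [mul_smul, hy]) (by simp [mul_smul, hz])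
  · obtain ⟨v, hv, h⟩ := h1 b (g • b) h3 fun e => h3 (smul_left_cancel g (e.trans hg.symm))
    exact ⟨v⁻¹ * g, fun e => hg' (eq_of_inv_mul_eq_one e ▸ hv), a, b, h3.symm,
      mul_mem (inv_mem (lt.le hv)) hg, by rw [mul_smul, ← h, inv_smul_smul]⟩
  · rcases hR1.eq_bot_or_eq_top with rfl | rfl
    · obtain ⟨k, hk⟩ := exists_smul_eq (⊥ : Subgroup G) a b
      exact h3 (by rw [← hk, Subsingleton.elim k 1, one_smul])
    · obtain rfl : g = 1 := congrArg Subtype.val (mem_bot.1 (e.le (show (⟨g, mem_top g⟩ :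
        (⊤ : Subgroup G)) ∈ _ from hg)))
      exact hg' (one_mem _)

theorem BSWC.psl [IsSimpleGroup G] {Q D : Subgroup G} (h : BSWC Q D) :
    ∃ (F : Type) (_ : Field F) (_ : Fintype F), Odd (Fintype.card F) ∧
      Nonempty (G ≃* Matrix.ProjectiveSpecialLinearGroup (Fin 2) F) := by
  obtain ⟨h1, h2, -, h4, h5, h6, -⟩ := h
  set N := normalizer (Q : Set G)
  have a1 : Nat.card N = Nat.card D * Nat.card Q := by
    rw [h6, sup_comm, Solv.card_sup_of_disjoint (le_sup_right.trans h6.ge) (inf_comm D _ ▸ h5)]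
  have a0 : 0 < Nat.card D := Nat.card_pos
  have a2 : N.index = Nat.card Q + 1 := by
    have := N.index_mul_card
    rw [a1] at this
    rw [← this, ← h4, Nat.add_sub_cancel] at h1
    rw [← h4]
    exact Nat.eq_of_mul_eq_mul_right (m := 2 * Nat.card D * (2 * Nat.card D + 1)) (by positivity)
      (by linarith)
  have a3 : Q.relIndex N = Nat.card D :=
    Nat.eq_of_mul_eq_mul_right Nat.card_pos ((relIndex_mul_card le_normalizer).trans a1)
  have a4 : Nat.card D ≠ 1 := fun e => by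
    obtain ⟨x, hx, h3⟩ := Q.bot_or_exists_ne_one.resolve_left fun e => by simp [e] at h4; omega
    have b1 : Nat.card G = 12 := by rw [← h4, e] at h1; omega
    have b2 := Q.index_mul_card
    rw [← h4, e, b1] at b2
    have := Char.prime_card_of_simple_of_class_prime_pow (k := 2) Nat.prime_two h3 (by rw [h2 x hx h3]; omega)
    rw [b1] at this
    norm_num at this
  have a5 : stabilizer G ((1 : G) : G ⧸ N) = N := stabilizer_quotient N
  have a6 : Nat.card (G ⧸ N) = Nat.card Q + 1 := a2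
  have hZ := zass_of_reg ((1 : G) : G ⧸ N) (Q := Q) a5.le (a5.symm ▸ lt_of_le_of_ne le_normalizer
    fun e => a4 (by rw [← a3, ← e, relIndex_self])) (fun v a b => (h2 v a b).le) (fun v hv b c e => by
      obtain ⟨g, rfl⟩ := QuotientGroup.mk_surjective b
      by_contra h3
      have b1 : g⁻¹ * v * g⁻¹⁻¹ ∈ N := by
        simpa [mul_assoc] using inv_mem (QuotientGroup.eq.1 e)
      have b2 := le_of_coprime_relIndex le_normalizer (zpowers_le.2 b1) (zpowers_le.2 b1) (by
        rw [a3, Nat.card_zpowers, ord_conj]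
        exact Nat.Coprime.coprime_dvd_left (orderOf_dvd_natCard Q hv) (by rw [← h4]; simp))
        (mem_zpowers _)
      refine c (QuotientGroup.eq.2 (mul_mem (cj_eq_self_iff.1 ?_) (one_mem _)))
      rw [← h2 v hv h3, cj_centralizer_singleton, h2 _ b2 (mt conj_eq_one_iff.1 h3), h2 v hv h3]) a6.symm
  obtain ⟨b, hb⟩ := Zass.exists_ne' hZ ((1 : G) : G ⧸ N)
  have a7 := Zass.card_stab hZ hb
  rw [a5, a1, a6, Nat.add_sub_cancel, mul_comm] at a7
  obtain ⟨F, _, _, h7, h8⟩ := Zass.psl_of_simple hZ hb (by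
    rw [← Nat.eq_of_mul_eq_mul_left Nat.card_pos a7]; omega)
  exact ⟨F, _, _, ⟨Nat.card D, by omega⟩, h8⟩

end Cfsg.Agent.Ez
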