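import Cfsg.Agent.Lib.Ez.A1
import Cfsg.Agent.Lib.Solv.MaxCl
import Cfsg.Agent.Lib.Solv.PGrp
import Cfsg.Agent.Lib.Transfer.Hall
import Cfsg.Agent.Lib.Transfer.ZStar
import Cfsg.Agent.Lib.Transfer.Cyc2

set_option autoImplicit false

namespace Cfsg.Agent.Ez

open Subgroup Cfsg.Agent.Comp
open scoped commutatorElement Pointwise

universe u
variable {G : Type u} [Group G]

theorem mul_self_of_ord {x : G} (h : orderOf x = 2) : x * x = 1 := by
  rw [← pow_two, ← h, pow_orderOf_eq_one]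

theorem ord_of_mul_self {x : G} (h : x * x = 1) (h1 : x ≠ 1) : orderOf x = 2 :=
  orderOf_eq_prime (by rw [pow_two, h]) h1

theorem ne_one_of_ord {x : G} (h : orderOf x = 2) : x ≠ 1 := by
  rintro rfl; simp at h

theorem ord_conj (g x : G) : orderOf (g * x * g⁻¹) = orderOf x :=
  (MulAut.conj g).orderOf_eq x

theorem mem_C1 {x g : G} : g ∈ centralizer ({x} : Set G) ↔ x * g = g * x := by
  rw [mem_centralizer_singleton_iff, eq_comm]

variable [Finite G]

theorem invol_unique_zpowers {a u v : G} (hu : u ∈ zpowers a) (hv : v ∈ zpowers a)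
    (hu2 : orderOf u = 2) (hv2 : orderOf v = 2) : u = v := by
  classical
  have := Fintype.ofFinite (zpowers a)
  have h := IsCyclic.card_orderOf_eq_totient (α := zpowers a) (d := 2)
    (by rw [← hu2, ← Nat.card_eq_fintype_card]; exact orderOf_dvd_natCard _ hu)
  rw [Nat.totient_two, Finset.card_eq_one] at h
  obtain ⟨w, hw⟩ := h
  have e : ∀ y (hy : y ∈ zpowers a), orderOf y = 2 → y = w := fun y hy h2 => by
    have : (⟨y, hy⟩ : zpowers a) ∈ ({w} : Finset _) := by
      rw [← hw]; simpa using h2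
    exact congrArg Subtype.val (Finset.mem_singleton.1 this)
  rw [e u hu hu2, e v hv hv2]

theorem exists_conj_mem_sylow (S : Sylow 2 G) {u : G} (hu : orderOf u = 2) :
    ∃ g : G, g * u * g⁻¹ ∈ (S : Subgroup G) := by
  obtain ⟨g, -, h⟩ := (sylIn_top S).exists_cj_le (isPGroup_zpowers_of_orderOf_eq (p := 2) hu) le_top
  exact ⟨g, h (conj_mem_cj.2 (mem_zpowers u))⟩

theorem odd_index_sylow (S : Sylow 2 G) : Odd (S : Subgroup G).index :=
  Nat.not_even_iff_odd.1 fun h => S.not_dvd_index h.two_dvd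

theorem exists_conj_mem_of_index_two (hG : ∀ H : Subgroup G, H.index ≠ 2) (S : Sylow 2 G)
    {Q : Subgroup G} (hQ : Q.relIndex S = 2) {u : G} (hu : orderOf u = 2) :
    ∃ g : G, g * u * g⁻¹ ∈ Q := by
  obtain ⟨g, hg⟩ := exists_conj_mem_sylow S hu
  rcases Transfer.thompson_transfer (odd_index_sylow S) hQ (u := g * u * g⁻¹)
    (by rw [conj_pow, ← hu, pow_orderOf_eq_one]; simp) hg with ⟨M, -, h, -⟩ | ⟨k, h⟩
  · exact absurd h (hG M)
  · exact ⟨k * g, by simpa [mul_assoc] using h⟩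

theorem one_class_of_cyc (hG : ∀ H : Subgroup G, H.index ≠ 2) (S : Sylow 2 G) {a : G}
    (ha : (zpowers a).relIndex S = 2) {u v : G} (hu : orderOf u = 2) (hv : orderOf v = 2) :
    IsConj u v := by
  obtain ⟨g, hg⟩ := exists_conj_mem_of_index_two hG S ha hu
  obtain ⟨k, hk⟩ := exists_conj_mem_of_index_two hG S ha hv
  have := invol_unique_zpowers hg hk (by rw [ord_conj, hu]) (by rw [ord_conj, hv])
  exact (isConj_iff.2 ⟨g, this⟩).trans (isConj_iff.2 ⟨k, rfl⟩).symm

theorem cyc_of_selfcent_four {R V : Subgroup G} (hR : IsPGroup 2 R) (lt : V < R)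
    (h4 : Nat.card V = 4) (h3 : R ⊓ centralizer (V : Set G) ≤ V) :
    ∃ a ∈ R, (zpowers a).relIndex R = 2 := by
  obtain ⟨n, hn⟩ := hR.exists_card_eq
  have h1 := lt.le
  have n3 : 3 ≤ n := by
    have := card_lt_of_lt lt
    rw [h4, hn] at this
    exact (Nat.pow_lt_pow_iff_right (a := 2) (n := 2) one_lt_two).1 this
  obtain ⟨a, b, h⟩ := Solv.nf2_of_maxClass hn (Solv.maxClass_of_centralizer R n hn (V.subgroupOf R)
    ((Nat.card_congr (subgroupOfEquivOfLe h1).toEquiv).trans h4) fun x hx => h3 ⟨x.2, fun v hv =>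
      congrArg Subtype.val (hx ⟨v, h1 hv⟩ hv)⟩) n3
  refine ⟨a, a.2, ?_⟩
  have := h.index
  rw [relIndex, ← this]
  congr 1
  ext y
  simp only [mem_subgroupOf, mem_zpowers_iff]
  exact ⟨fun ⟨k, hk⟩ => ⟨k, Subtype.ext (by simpa using hk)⟩,
    fun ⟨k, hk⟩ => ⟨k, by simpa using congrArg Subtype.val hk⟩⟩

/-- extremal conjugation to a 2-central involution. -/
theorem exists_extremal (S : Sylow 2 G) {z v : G} (hz : (S : Subgroup G) ≤ centralizer ({z} : Set G))
    (h : IsConj z v) {T : Subgroup G} (hT : IsPGroup 2 T) (hTv : T ≤ centralizer ({v} : Set G)) :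
    ∃ g : G, g * v * g⁻¹ = z ∧ cj(g, T) ≤ S := by
  obtain ⟨k, rfl⟩ := isConj_iff.1 h
  have h1 : cj(k⁻¹, T) ≤ centralizer ({z} : Set G) := by
    rw [cj_le_iff, inv_inv, cj_centralizer_singleton]; exact hTv
  obtain ⟨c, hc, h2⟩ := (sylIn_of_sylow_le S hz).exists_cj_le (isPGroup_cj_iff.2 hT) h1
  refine ⟨c * k⁻¹, ?_, by rwa [cj_mul]⟩
  calc c * k⁻¹ * (k * z * k⁻¹) * (c * k⁻¹)⁻¹ = c * z * c⁻¹ := by group
    _ = z := by rw [← mem_C1.1 hc]; group

theorem exists_conj_ne_of_not_isolated (S : Sylow 2 G) {z : G} (hz2 : orderOf z = 2)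
    (hz : (S : Subgroup G) ≤ centralizer ({z} : Set G)) (hn : ¬ IsIsolatedInvolution z) :
    ∃ v ∈ (S : Subgroup G), v ≠ z ∧ IsConj z v := by
  by_contra hc
  push Not at hc
  refine hn ⟨hz2, fun g hg => ?_⟩
  have h2 : orderOf (g * z * g⁻¹) = 2 := by rw [ord_conj, hz2]
  obtain ⟨c, hc1, h1⟩ := (sylIn_of_sylow_le S hz).exists_cj_le
    (isPGroup_zpowers_of_orderOf_eq (p := 2) h2) (zpowers_le.2 (mem_C1.2 hg.eq))
  have h3 := h1 (conj_mem_cj.2 (mem_zpowers _))
  by_contra h4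
  refine hc _ h3 (fun h5 => h4 ?_) (isConj_iff.2 ⟨c * g, by group⟩)
  calc g * z * g⁻¹ = c⁻¹ * (c * (g * z * g⁻¹) * c⁻¹) * c := by group
    _ = z := by rw [h5, mul_assoc, mem_C1.1 hc1]; group

theorem exists_central_invol (S : Sylow 2 G) {x : G} (hx : orderOf x = 2) :
    ∃ z ∈ (S : Subgroup G), orderOf z = 2 ∧ (S : Subgroup G) ≤ centralizer ({z} : Set G) := by
  refine exists_central_orderOf S.isPGroup' fun h => ?_
  obtain ⟨g, hg⟩ := exists_conj_mem_sylow S hx
  rw [h, mem_bot] at hg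
  exact ne_one_of_ord (by rw [ord_conj, hx]) hg

/-- At most three involutions in the centralizer. -/
def Few (x : G) : Prop := ∀ y w : G, orderOf y = 2 → orderOf w = 2 → x * y = y * x →
  x * w = w * x → y ≠ x → w ≠ x → w = y ∨ w = x * y

omit [Finite G] in
theorem Few.conj {x : G} (h : Few x) (g : G) : Few (g * x * g⁻¹) := by
  intro y w hy hw h1 h2 h3 h4
  have e : ∀ y, g * x * g⁻¹ * y = y * (g * x * g⁻¹) → x * (g⁻¹ * y * g⁻¹⁻¹) =
      (g⁻¹ * y * g⁻¹⁻¹) * x := fun y h => by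
    calc x * (g⁻¹ * y * g⁻¹⁻¹) = g⁻¹ * (g * x * g⁻¹ * y) * g := by group
      _ = _ := by rw [h]; group
  rcases h (g⁻¹ * y * g⁻¹⁻¹) (g⁻¹ * w * g⁻¹⁻¹) (by rw [ord_conj, hy]) (by rw [ord_conj, hw])
    (e y h1) (e w h2) (fun a => h3 (by rw [← a]; group)) (fun a => h4 (by rw [← a]; group))
    with a | a
  · exact .inl (by simpa using a)
  · refine .inr ?_
    calc w = g * (g⁻¹ * w * g⁻¹⁻¹) * g⁻¹ := by group
      _ = _ := by rw [a]; group

theorem few_of_card {x : G} (hx : orderOf x = 2)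
    (h3 : Nat.card {u : centralizer ({x} : Set G) // orderOf u = 2} ≤ 3) : Few x := by
  classical
  intro y w hy hw h1 h2 hyx hwx
  by_contra hc
  push Not at hc
  have hxy : orderOf (x * y) = 2 := ord_of_mul_self (by
    rw [mul_assoc, ← mul_assoc y, ← h1, mul_assoc, mul_self_of_ord hy, mul_one, mul_self_of_ord hx])
    fun e => hyx (by rw [eq_inv_of_mul_eq_one_right e, inv_eq_of_mul_eq_one_right (mul_self_of_ord hx)])
  have a1 : x * y ≠ x := by simpa using ne_one_of_ord hy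
  have a2 : x * y ≠ y := by simpa using ne_one_of_ord hx
  have h4 : ({x, y, x * y, w} : Set G).ncard = 4 := by
    rw [Set.ncard_insert_of_notMem (by simp [hyx.symm, a1.symm, hwx.symm]),
      Set.ncard_insert_of_notMem (by simp [a2.symm, hc.1.symm]), Set.ncard_pair hc.2.symm]
  have h5 : ({x, y, x * y, w} : Set G) ⊆
      Set.range (fun u : {u : centralizer ({x} : Set G) // orderOf u = 2} => (u.1 : G)) := by
    rintro v (rfl | rfl | rfl | rfl)
    · exact ⟨⟨⟨v, mem_C1.2 rfl⟩, by simpa using hx⟩, rfl⟩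
    · exact ⟨⟨⟨v, mem_C1.2 h1⟩, by simpa using hy⟩, rfl⟩
    · exact ⟨⟨⟨x * y, mem_C1.2 (by rw [mul_assoc, h1])⟩, by simpa using hxy⟩, rfl⟩
    · exact ⟨⟨⟨v, mem_C1.2 h2⟩, by simpa using hw⟩, rfl⟩
  have h6 := (Set.ncard_le_ncard h5).trans (Finite.card_range_le _)
  omega

theorem one_class_of_few_central (hI : ∀ z : G, ¬ IsIsolatedInvolution z) (S : Sylow 2 G) {x : G}
    (hx : orderOf x = 2) (hf : Few x) (hS : (S : Subgroup G) ≤ centralizer ({x} : Set G))
    {u : G} (hu : orderOf u = 2) : IsConj x u := by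
  obtain ⟨y, hyS, hyx, hy⟩ := exists_conj_ne_of_not_isolated S hx hS (hI x)
  have hy2 : orderOf y = 2 := by obtain ⟨g, rfl⟩ := isConj_iff.1 hy; rw [ord_conj, hx]
  have h3 : ∀ w ∈ (S : Subgroup G), orderOf w = 2 → w = x ∨ w = y ∨ w = x * y := fun w hw h2 => by
    by_cases e : w = x
    · exact .inl e
    · exact .inr (hf y w hy2 h2 (mem_C1.1 (hS hyS)) (mem_C1.1 (hS hw)) hyx e)
  obtain ⟨g, hg⟩ := exists_conj_mem_sylow S hu
  have hg2 : orderOf (g * u * g⁻¹) = 2 := by rw [ord_conj, hu]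
  have hgu : IsConj (g * u * g⁻¹) u := (isConj_iff.2 ⟨g, rfl⟩).symm
  rcases h3 _ hg hg2 with e | e | e
  · exact e ▸ hgu
  · exact hy.trans (e ▸ hgu)
  by_contra hn
  have hw : ∀ w ∈ (S : Subgroup G), IsConj (g * u * g⁻¹) w → w = g * u * g⁻¹ := fun w hw hc => by
    have h2 : orderOf w = 2 := by obtain ⟨k, rfl⟩ := isConj_iff.1 hc; rw [ord_conj, hg2]
    rcases h3 w hw h2 with a | a | a
    · exact absurd ((a ▸ hc.symm).trans hgu) hn
    · exact absurd (hy.trans ((a ▸ hc.symm).trans hgu)) hn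
    · rw [a, e]
  have hc : (S : Subgroup G) ≤ centralizer ({g * u * g⁻¹} : Set G) := fun s hs => by
    have := hw _ (mul_mem (mul_mem hs hg) (inv_mem hs)) (isConj_iff.2 ⟨s, rfl⟩)
    exact mem_C1.2 (mul_inv_eq_iff_eq_mul.1 this).symm
  obtain ⟨v, hv, h1, h2⟩ := exists_conj_ne_of_not_isolated S hg2 hc (hI _)
  exact h1 (hw v hv h2)

theorem exists_sq_eq_invol {T : Subgroup G} (hT : IsPGroup 2 T) {w : G} (hw : w ∈ T)
    (h : w * w ≠ 1) : ∃ c ∈ T, orderOf (c * c) = 2 := by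
  obtain ⟨k, hk⟩ := (IsPGroup.iff_orderOf.1 hT) ⟨w, hw⟩
  rw [orderOf_mk] at hk
  have h2 : 2 ≤ k := by
    by_contra hc
    apply h
    rw [← pow_two, ← orderOf_dvd_iff_pow_eq_one, hk]
    interval_cases k <;> simp
  obtain ⟨m, rfl⟩ := Nat.exists_eq_add_of_le' h2
  refine ⟨w ^ 2 ^ m, pow_mem hw _, ?_⟩
  rw [← pow_add, ← two_mul, ← pow_succ', orderOf_pow_of_dvd (by positivity)
    (hk ▸ pow_dvd_pow 2 (by omega)), hk, pow_succ', Nat.mul_div_cancel _ (by positivity)]

theorem card_four {x y : G} (hx : orderOf x = 2) (hy : orderOf y = 2) (hne : y ≠ x)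
    (h : x * y = y * x) : Nat.card (zpowers x ⊔ zpowers y : Subgroup G) = 4 := by
  rw [Solv.card_zpowers_sup_zpowers h (Solv.zpowers_inf_eq_bot_of_prime Nat.prime_two
    (by rw [← hy, pow_orderOf_eq_one]) fun hc => hne (invol_unique_zpowers hc (mem_zpowers x) hy hx)),
    hx, hy]

omit [Finite G] in
theorem mem_four {x y w : G} (hx : orderOf x = 2) (hy : orderOf y = 2) (h : x * y = y * x) :
    w ∈ zpowers x ⊔ zpowers y ↔ w = 1 ∨ w = x ∨ w = y ∨ w = x * y := by
  constructor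
  · intro hw
    obtain ⟨a, ha, b, hb, rfl⟩ := (mem_sup_of_le_normalizer (le_normalizer_of_le_centralizer (by
      rw [centralizer_zpowers]; exact zpowers_le.2 (mem_C1.2 h.symm)))).1 hw
    rcases (Transfer.mem_zpowers_iff_of_sq (mul_self_of_ord hx)).1 ha with rfl | rfl <;>
    rcases (Transfer.mem_zpowers_iff_of_sq (mul_self_of_ord hy)).1 hb with rfl | rfl <;> simp
  · rintro (rfl | rfl | rfl | rfl)
    · exact one_mem _
    · exact mem_sup_left (mem_zpowers _)
    · exact mem_sup_right (mem_zpowers _)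
    · exact mul_mem (mem_sup_left (mem_zpowers _)) (mem_sup_right (mem_zpowers _))

theorem central_of_few_aux (hG : ∀ H : Subgroup G, H.index ≠ 2)
    (hI : ∀ z : G, ¬ IsIsolatedInvolution z) (S : Sylow 2 G) {u z : G} (hu : orderOf u = 2)
    (hf : Few u) (huS : u ∈ (S : Subgroup G)) (hz : orderOf z = 2) (hzS : z ∈ (S : Subgroup G))
    (hzc : (S : Subgroup G) ≤ centralizer ({z} : Set G))
    (hi : ((S : Subgroup G) ⊓ centralizer ({u} : Set G)).relIndex S = 2)
    (hn : ∀ s ∈ (S : Subgroup G), s * u * s⁻¹ = u ∨ s * u * s⁻¹ = u * z) : IsConj u z := by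
  by_contra hc
  have hzu : z ≠ u := fun e => hc (e ▸ IsConj.refl _)
  have huz : u * z = z * u := (mem_C1.1 (hzc huS)).symm
  have hs : ∃ s ∈ (S : Subgroup G), s * u * s⁻¹ = u * z := by
    by_contra h
    push Not at h
    have : (S : Subgroup G) ≤ (S : Subgroup G) ⊓ centralizer ({u} : Set G) := fun s hs =>
      ⟨hs, mem_C1.2 (mul_inv_eq_iff_eq_mul.1 ((hn s hs).resolve_right (h s hs))).symm⟩
    rw [relIndex_eq_one.2 this] at hi
    omega
  obtain ⟨s, -, hs⟩ := hs
  have hout : ∀ v, v ≠ z → IsConj z v → u * v ≠ v * u := fun v h1 h2 h3 => by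
    have hv : orderOf v = 2 := by obtain ⟨k, rfl⟩ := isConj_iff.1 h2; rw [ord_conj, hz]
    by_cases e : v = u
    · exact hc (e ▸ h2.symm)
    rcases hf z v hz hv huz h3 hzu e with a | a
    · exact h1 a
    · exact hc ((isConj_iff.2 ⟨s, hs.trans a.symm⟩).trans h2.symm)
  obtain ⟨v, hvS, hvz, hv⟩ := exists_conj_ne_of_not_isolated S hz hzc (hI z)
  have hv2 : orderOf v = 2 := by obtain ⟨k, rfl⟩ := isConj_iff.1 hv; rw [ord_conj, hz]
  obtain ⟨g, hg, hgS⟩ := exists_extremal S hzc hv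
    (T := (S : Subgroup G) ⊓ centralizer ({v} : Set G)) (S.isPGroup'.to_le inf_le_left) inf_le_right
  have hsq : ∀ s ∈ (S : Subgroup G), u * (s * s) = s * s * u := fun s hs => by
    have := mul_self_mem_of_index_two (H := ((S : Subgroup G) ⊓
      centralizer ({u} : Set G)).subgroupOf S) hi ⟨s, hs⟩
    exact mem_C1.1 (mem_inf.1 (mem_subgroupOf.1 this)).2
  have hns : ∀ c ∈ (S : Subgroup G), v * c = c * v → c * c ≠ z := fun c hc1 hc2 e => by
    have h1 : g * c * g⁻¹ ∈ (S : Subgroup G) := hgS (conj_mem_cj.2 ⟨hc1, mem_C1.2 hc2⟩)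
    refine hout (g * z * g⁻¹) (fun a => hvz ?_) (isConj_iff.2 ⟨g, rfl⟩) ?_
    · simpa using hg.trans a.symm
    · have := hsq _ h1
      rwa [show g * c * g⁻¹ * (g * c * g⁻¹) = g * z * g⁻¹ by rw [← e]; group] at this
  have huv := hout v hvz hv
  have hinv : ∀ w, orderOf w = 2 → u * w = w * u → v * w = w * v → w = z := fun w h1 h2 h3 => by
    by_cases e : w = u
    · exact absurd (e ▸ h3.symm) huv
    rcases hf z w hz h1 huz h2 hzu e with a | a
    · exact a
    · refine absurd ?_ huv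
      rw [a, ← mul_assoc, mul_assoc u, mem_C1.1 (hzc hvS), ← mul_assoc] at h3
      exact (mul_right_cancel h3).symm
  have hT : ∀ w ∈ (S : Subgroup G), u * w = w * u → v * w = w * v → w = 1 ∨ w = z :=
    fun w h1 h2 h3 => by
    by_cases e : w * w = 1
    · by_cases e1 : w = 1
      · exact .inl e1
      · exact .inr (hinv w (ord_of_mul_self e e1) h2 h3)
    · obtain ⟨c, hc1, hc2⟩ := exists_sq_eq_invol (T := (S : Subgroup G) ⊓
        centralizer ({u} : Set G) ⊓ centralizer ({v} : Set G))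
        (S.isPGroup'.to_le (inf_le_left.trans inf_le_left)) ⟨⟨h1, mem_C1.2 h2⟩, mem_C1.2 h3⟩ e
      exact absurd (hinv _ hc2 (mem_C1.1 (mul_mem hc1.1.2 hc1.1.2))
        (mem_C1.1 (mul_mem hc1.2 hc1.2))) (hns c hc1.1.1 (mem_C1.1 hc1.2))
  have hzv : z * v = v * z := mem_C1.1 (hzc hvS)
  obtain ⟨a, -, ha⟩ := cyc_of_selfcent_four (V := zpowers z ⊔ zpowers v) S.isPGroup'
    (lt_of_le_of_ne (sup_le (zpowers_le.2 hzS) (zpowers_le.2 hvS)) fun e => by
      rcases (mem_four hz hv2 hzv).1 (e ▸ huS) with a | a | a | a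
      · exact ne_one_of_ord hu a
      · exact hzu a.symm
      · exact huv (by rw [a])
      · exact huv (by rw [a, ← mul_assoc, ← hzv]))
    (card_four hz hv2 hvz hzv) fun w hw => by
      have h1 : v * w = w * v := hw.2 v (mem_sup_right (mem_zpowers v))
      rw [mem_four hz hv2 hzv]
      by_cases e : u * w = w * u
      · rcases hT w hw.1 e h1 with a | a
        · exact .inl a
        · exact .inr (.inl a)
      · have h2 := (mul_mem_iff_of_index_two (H := ((S : Subgroup G) ⊓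
          centralizer ({u} : Set G)).subgroupOf S) hi (a := ⟨w, hw.1⟩) (b := ⟨v, hvS⟩)).2
          ⟨fun a => absurd (mem_C1.1 (mem_inf.1 (mem_subgroupOf.1 a)).2) e,
            fun a => absurd (mem_C1.1 (mem_inf.1 (mem_subgroupOf.1 a)).2) huv⟩
        have h3 : u * (w * v) = w * v * u := mem_C1.1 (mem_inf.1 (mem_subgroupOf.1 h2)).2
        have h4 : w = w * v * v := by rw [mul_assoc, mul_self_of_ord hv2, mul_one]
        rcases hT _ (mul_mem hw.1 hvS) h3 (by rw [← mul_assoc, h1]) with a | a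
        · rw [a, one_mul] at h4; exact .inr (.inr (.inl h4))
        · rw [a] at h4; exact .inr (.inr (.inr h4))
  exact hc (one_class_of_cyc hG S ha hu hz)

theorem central_of_few (hG : ∀ H : Subgroup G, H.index ≠ 2) (hI : ∀ z : G, ¬ IsIsolatedInvolution z)
    (S : Sylow 2 G) {x : G} (hx : orderOf x = 2) (hf : Few x) :
    ∃ z, (S : Subgroup G) ≤ centralizer ({z} : Set G) ∧ IsConj x z := by
  obtain ⟨z, hzS, hz, hzc⟩ := exists_central_invol S hx
  by_cases hA : ∀ A ≤ (S : Subgroup G), (S : Subgroup G) ≤ normalizer (A : Set G) →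
      IsMulCommutative A → IsCyclic A
  · by_cases hc : IsCyclic S
    · obtain ⟨g, hg⟩ := exists_conj_mem_sylow S hx
      exact ⟨_, le_centralizer_singleton_iff.2 (isMulCommutative_iff_le.1 inferInstance hg),
        isConj_iff.2 ⟨g, rfl⟩⟩
    · obtain ⟨a, b, m, h1, -, h2, h3, -⟩ := Solv.two_group_normal_form S.isPGroup' hA hc
      refine ⟨z, hzc, one_class_of_cyc hG S (a := a) ?_ hx hz⟩
      have := relIndex_mul_card (K := zpowers a) (M := S) (h2 ▸ le_sup_left)
      rw [Nat.card_zpowers, h1, h3, pow_succ' 2 (m + 1)] at this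
      exact Nat.eq_of_mul_eq_mul_right (by positivity) this
  push Not at hA
  obtain ⟨A, h1, h2, h3, h4⟩ := hA
  obtain ⟨E, hEA, hE, hEc, hE2, hEn⟩ := Solv.exists_normal_elementary_sq_of_abelian (p := 2)
    S.isPGroup'.isNilpotent h3 (S.isPGroup'.to_le h1) h1 h2 h4
  have hES := hEA.trans h1
  have hEe : IsElementaryAbelian 2 E := ⟨hEc, hE2⟩
  obtain ⟨z, hz1, hz2⟩ := exists_mem_ne_one (inf_centralizer_ne_bot_of_isNilpotent
    S.isPGroup'.isNilpotent hES hEn (ne_bot_of_pow_le_card (p := 2) (k := 1) hE.ge))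
  have hz := IsElementaryAbelian.orderOf_eq hEe hz1.1 hz2
  have hzc : (S : Subgroup G) ≤ centralizer ({z} : Set G) := le_centralizer_singleton_iff.2 hz1.2
  obtain ⟨u, huE, hu1⟩ : ∃ u ∈ E, u ∉ zpowers z := by
    by_contra h
    push Not at h
    have := card_le_of_le (show E ≤ zpowers z from h)
    rw [Nat.card_zpowers, hz, hE] at this
    omega
  have hu := IsElementaryAbelian.orderOf_eq hEe huE fun e => hu1 (e ▸ one_mem _)
  have huz : u ≠ z := fun e => hu1 (e ▸ mem_zpowers _)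
  have hzu : z * u = u * z := mem_C1.1 (hzc (hES huE))
  have hEeq : zpowers z ⊔ zpowers u = E := eq_of_le_of_card_ge
    (sup_le (zpowers_le.2 hz1.1) (zpowers_le.2 huE)) (by rw [card_four hz hu huz hzu, hE]; rfl)
  have hi := relIndex_cent_le_two S.isPGroup' hE hEn huE (ne_one_of_ord hu)
  have hi0 := relIndex_ne_zero' ((S : Subgroup G) ⊓ centralizer ({u} : Set G)) S
  obtain ⟨g, hg⟩ : ∃ g : G, g * x * g⁻¹ ∈ (S : Subgroup G) ⊓ centralizer ({u} : Set G) := by
    by_cases e : ((S : Subgroup G) ⊓ centralizer ({u} : Set G)).relIndex S = 1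
    · obtain ⟨g, hg⟩ := exists_conj_mem_sylow S hx
      exact ⟨g, relIndex_eq_one.1 e hg⟩
    · exact exists_conj_mem_of_index_two hG S (by omega) hx
  have hxy : IsConj x (g * x * g⁻¹) := isConj_iff.2 ⟨g, rfl⟩
  have hy2 : orderOf (g * x * g⁻¹) = 2 := by rw [ord_conj, hx]
  have hfy := hf.conj g
  generalize g * x * g⁻¹ = y at hg hxy hy2 hfy
  have hyE : y ∈ E := by
    by_contra hn
    rcases hfy z u hz hu (mem_C1.1 (hzc hg.1)).symm (mem_C1.1 hg.2).symm
      (fun e => hn (e ▸ hz1.1)) (fun e => hn (e ▸ huE)) with a | a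
    · exact huz a
    · exact hn ((E.mul_mem_cancel_right (mem_inf.1 hz1).1).1 (a ▸ huE))
  by_cases hyz : y = z
  · exact ⟨z, hzc, hyz ▸ hxy⟩
  by_cases e : ((S : Subgroup G) ⊓ centralizer ({y} : Set G)).relIndex S = 1
  · exact ⟨y, (relIndex_eq_one.1 e).trans inf_le_right, hxy⟩
  have hj := relIndex_cent_le_two S.isPGroup' hE hEn hyE (ne_one_of_ord hy2)
  have hj0 := relIndex_ne_zero' ((S : Subgroup G) ⊓ centralizer ({y} : Set G)) S
  refine ⟨z, hzc, hxy.trans (central_of_few_aux hG hI S hy2 hfy hg.1 hz (hES hz1.1) hzc (by omega)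
    fun s hs => ?_)⟩
  have h5 := conj_mem_of_le_normalizer hEn hs hyE
  by_cases e1 : s * y * s⁻¹ = y
  · exact .inl e1
  refine .inr ((hfy z _ hz (by rw [ord_conj, hy2]) (mem_C1.1 (hzc hg.1)).symm
    (mem_C1.1 (IsElementaryAbelian.le_centralizer_singleton hEe hyE h5)) (Ne.symm hyz) e1).resolve_left
    fun a => hyz ?_)
  calc y = s⁻¹ * (s * y * s⁻¹) * s := by group
    _ = z := by rw [a, mul_assoc, mem_C1.1 (hzc hs)]; group

theorem one_class_of_few (hG : ∀ H : Subgroup G, H.index ≠ 2)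
    (hI : ∀ z : G, ¬ IsIsolatedInvolution z) {x : G} (hx : orderOf x = 2) (hf : Few x) :
    (∃ S : Sylow 2 G, (S : Subgroup G) ≤ centralizer ({x} : Set G)) ∧
      ∀ u v : G, orderOf u = 2 → orderOf v = 2 → IsConj u v := by
  obtain ⟨S⟩ : Nonempty (Sylow 2 G) := inferInstance
  obtain ⟨z, h1, h2⟩ := central_of_few hG hI S hx hf
  obtain ⟨g, rfl⟩ := isConj_iff.1 h2
  have h3 : ((g⁻¹ • S : Sylow 2 G) : Subgroup G) ≤ centralizer ({x} : Set G) := by
    rw [Sylow.coe_subgroup_smul, ← cj_smul, cj_le_iff, inv_inv, cj_centralizer_singleton]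
    exact h1
  exact ⟨⟨_, h3⟩, fun u v hu hv => (one_class_of_few_central hI _ hx hf h3 hu).symm.trans
    (one_class_of_few_central hI _ hx hf h3 hv)⟩

theorem simple_facts [IsSimpleGroup G] (h : Nat.card G ≠ 2) :
    (∀ H : Subgroup G, H.index ≠ 2) ∧ ∀ z : G, ¬ IsIsolatedInvolution z := by
  refine ⟨fun H hH => ?_, fun z hz => h ?_⟩
  · rcases (normal_of_index_eq_two hH).eq_bot_or_eq_top with rfl | rfl
    · exact h (by simpa using hH)
    · simp at hH
  · rw [← hz.1, ← Nat.card_zpowers, Transfer.not_isolated_of_simple hz, card_top]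

end Cfsg.Agent.Ez
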