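import Cfsg.Agent.Lib.Ez.A3
import Cfsg.Agent.S4481
import Cfsg.Agent.S4482
import Cfsg.Agent.Lib.Perm.Small
import Cfsg.Agent.Lib.Solv.PCyc
import Cfsg.Agent.Lib.Transfer.Rank
import Cfsg.Agent.Lib.Transfer.BS

set_option autoImplicit false

namespace Cfsg.Agent.Ez

open Subgroup Cfsg.Agent.Comp DihedralGroup
open scoped commutatorElement Pointwise

universe u
variable {G : Type u} [Group G]

/-- The centralizer of `φ (r 2)` is the dihedral group of order 8 embedded by `φ`. -/
structure D8C (φ : DihedralGroup 4 →* G) : Prop where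
  inj : Function.Injective φ
  cen : centralizer ({φ (r 2)} : Set G) = φ.range

theorem d4_cent : ∀ d : DihedralGroup 4, d ≠ 1 → (∀ e, d * e = e * d) → d = r 2 := by decide

theorem exists_d8c {z : G} (hz : orderOf z = 2)
    (e : centralizer ({z} : Set G) ≃* DihedralGroup 4) : ∃ φ, D8C (G := G) φ ∧ φ (r 2) = z := by
  let φ : DihedralGroup 4 →* G := (centralizer ({z} : Set G)).subtype.comp e.symm.toMonoidHom
  have h1 : Function.Injective φ := Subtype.val_injective.comp e.symm.injective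
  have h2 : centralizer ({z} : Set G) = φ.range := by
    rw [MonoidHom.range_comp, MonoidHom.range_eq_top.2 e.symm.surjective, ← MonoidHom.range_eq_map,
      range_subtype]
  obtain ⟨d, hd⟩ : z ∈ φ.range := h2 ▸ mem_C1.2 rfl
  obtain rfl := d4_cent d (fun a => ne_one_of_ord hz (by rw [← hd, a, map_one])) fun x => h1 (by
    rw [map_mul, map_mul, hd]; exact mem_C1.1 (h2 ▸ ⟨x, rfl⟩))
  exact ⟨φ, ⟨h1, hd ▸ h2⟩, hd⟩

namespace D8C

variable {φ : DihedralGroup 4 →* G} (h : D8C φ)
include h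

theorem ord (d : DihedralGroup 4) : orderOf (φ d) = orderOf d := orderOf_injective φ h.inj d

theorem ord_z : orderOf (φ (r 2)) = 2 := by
  rw [h.ord]; exact orderOf_eq_prime (by decide) (by decide)

theorem ord_sr (i : ZMod 4) : orderOf (φ (sr i)) = 2 := by rw [h.ord, orderOf_sr]

theorem card : Nat.card φ.range = 8 := by
  rw [← Nat.card_congr (φ.ofInjective h.inj).toEquiv, nat_card]

theorem eq_z {w : G} (hw : orderOf w = 2) (hc : φ.range ≤ centralizer ({w} : Set G)) :
    w = φ (r 2) := by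
  obtain ⟨d, rfl⟩ : w ∈ φ.range := h.cen ▸ mem_C1.2 (mem_C1.1 (hc ⟨_, rfl⟩)).symm
  rw [d4_cent d (fun a => ne_one_of_ord hw (by rw [a, map_one])) fun x => h.inj (by
    rw [map_mul, map_mul]; exact mem_C1.1 (hc ⟨x, rfl⟩))]

theorem ne_z (i : ZMod 4) : φ (sr i) ≠ φ (r 2) := fun e => by simpa using h.inj e

theorem comm (d : DihedralGroup 4) : φ (r 2) * φ d = φ d * φ (r 2) := mem_C1.1 (h.cen ▸ ⟨d, rfl⟩)

theorem mem_V {i : ZMod 4} {w : G} : w ∈ zpowers (φ (r 2)) ⊔ zpowers (φ (sr i)) ↔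
    w = 1 ∨ w = φ (r 2) ∨ w = φ (sr i) ∨ w = φ (r 2) * φ (sr i) :=
  mem_four h.ord_z (h.ord_sr i) (h.comm _)

theorem cent_pair (i : ZMod 4) : centralizer ({φ (r 2), φ (sr i)} : Set G) =
    zpowers (φ (r 2)) ⊔ zpowers (φ (sr i)) := by
  ext w
  rw [h.mem_V, mem_centralizer_iff]
  simp only [Set.mem_insert_iff, Set.mem_singleton_iff, forall_eq_or_imp, forall_eq]
  constructor
  · rintro ⟨h1, h2⟩
    obtain ⟨d, rfl⟩ : w ∈ φ.range := h.cen ▸ mem_C1.2 h1
    have h3 : ∀ (i : ZMod 4) (d : DihedralGroup 4), sr i * d = d * sr i →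
      d = 1 ∨ d = r 2 ∨ d = sr i ∨ d = r 2 * sr i := by decide
    rcases h3 i d (h.inj (by simpa only [map_mul] using h2)) with a | a | a | a <;> rw [a] <;>
      simp only [map_one, map_mul, true_or, or_true]
  · have := h.comm (sr i)
    rintro (rfl | rfl | rfl | rfl)
    · simp
    · exact ⟨rfl, this.symm⟩
    · exact ⟨this, rfl⟩
    · exact ⟨by rw [mul_assoc, ← this], by rw [← mul_assoc, ← this]⟩

theorem elem_V (i : ZMod 4) : IsElementaryAbelian 2 (zpowers (φ (r 2)) ⊔ zpowers (φ (sr i))) :=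
  IsElementaryAbelian.sup (isElementaryAbelian_zpowers (by rw [← h.ord_z, pow_orderOf_eq_one]))
    (isElementaryAbelian_zpowers (by rw [← h.ord_sr i, pow_orderOf_eq_one])) (by
      rw [centralizer_zpowers]; exact zpowers_le.2 (mem_C1.2 (h.comm _).symm))

theorem conj_sr (i : ZMod 4) : IsConj (φ (sr i)) (φ (r 2) * φ (sr i)) := by
  have : ∀ i : ZMod 4, r 1 * sr i * (r 1)⁻¹ = (r 2 * sr i : DihedralGroup 4) := by decide
  exact isConj_iff.2 ⟨φ (r 1), by rw [← map_inv, ← map_mul, ← map_mul, this, map_mul]⟩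

theorem closure_eq : closure ({φ (r 1), φ (sr 0)} : Set G) = φ.range := by
  rw [MonoidHom.range_eq_map, ← Transfer.dihedral_closure_eq_top 4, MonoidHom.map_closure,
    Set.image_pair]

variable [Finite G]

theorem card_V (i : ZMod 4) : Nat.card (zpowers (φ (r 2)) ⊔ zpowers (φ (sr i)) : Subgroup G) = 4 :=
  card_four h.ord_z (h.ord_sr i) (h.ne_z i) (h.comm _)

theorem sylow : ∃ S : Sylow 2 G, (S : Subgroup G) = φ.range := by
  obtain ⟨S, hS⟩ := (IsPGroup.of_card (p := 2) (n := 3) h.card).exists_le_sylow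
  obtain ⟨w, -, h1, h2⟩ := exists_central_invol S h.ord_z
  exact ⟨S, le_antisymm (by rwa [h.eq_z h1 (hS.trans h2), h.cen] at h2) hS⟩

theorem normalizer_eq : normalizer (φ.range : Set G) ≤ φ.range := fun g hg => by
  have h1 := h.eq_z (w := g * φ (r 2) * g⁻¹) (by rw [ord_conj, h.ord_z]) (by
    rw [← cj_centralizer_singleton, h.cen, cj_eq_self_iff.2 hg])
  exact h.cen ▸ mem_C1.2 (mul_inv_eq_iff_eq_mul.1 h1).symm

theorem order_of_fused (h0 : IsConj (φ (r 2)) (φ (sr 0))) (h1 : IsConj (φ (r 2)) (φ (sr 3))) :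
    Nat.card G = 168 ∨ Nat.card G = 360 := by
  obtain ⟨S, hS⟩ := h.sylow
  obtain ⟨M, hM⟩ := Transfer.exists_isPModular Nat.prime_two
  have o1 : orderOf (φ (r 1)) = 2 ^ (3 - 1) := by rw [h.ord, orderOf_r_one]; rfl
  have m1 : ∀ d, φ d ∈ (S : Subgroup G) := fun d => hS ▸ ⟨d, rfl⟩
  obtain ⟨-, χ₁, χ₂, χ₃, χ', δ, δ₂, δ₃, hδ, -, -, -, a1, -, -, -, -, -, -, a2, a3, -⟩ :=
    S4481.result M hM 3 le_rfl S ⟨hS ▸ (φ.ofInjective h.inj).symm⟩ (φ (r 1)) (m1 _) o1
      Complex.I Complex.isPrimitiveRoot_I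
  have e1 : φ (r 1) ^ 2 ^ (3 - 2) = φ (r 2) := by rw [← map_pow]; rfl
  have e2 : φ (r 1) * φ (sr 0) = φ (sr 3) := by rw [← map_mul]; rfl
  obtain ⟨b1, b2⟩ := S4482.result M hM 3 le_rfl S (φ (r 1)) (φ (sr 0)) (m1 _) (m1 _) o1
    (h.ord_sr 0) (by rw [← map_inv, ← map_mul, ← map_mul, ← map_inv]; rfl)
    (h.closure_eq.trans hS.symm) (by rw [e1, e2]; exact ⟨h0, h1⟩) χ₁ (by rw [a2]; simp) a1 δ hδ
    fun l a b => (a3 l a b).1
  rw [e1, e2, h.cent_pair, h.cent_pair, h.card_V, h.card_V, h.cen, h.card] at b2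
  have b3 := (S : Subgroup G).card_mul_index
  have b4 := odd_index_sylow S
  have b5 : 0 < charDegree (χ₁ : G → ℂ) := Nat.pos_of_ne_zero (Blk.charDegree_ne_zero χ₁)
  rw [hS, h.card] at b3
  rw [hS] at b4
  rw [← b3] at b2 ⊢
  generalize charDegree (χ₁ : G → ℂ) = x at *
  generalize φ.range.index = m at *
  obtain ⟨y, hy⟩ : ∃ y : ℕ, (x : ℤ) = y + δ := ⟨((x : ℤ) - δ).toNat, by omega⟩
  have b6 : (m : ℤ) * y ^ 2 = 32 * ((y + δ) * (y + 2 * δ)) := by
    have : (x : ℚ) = y + δ := by exact_mod_cast hy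
    rw [this] at b2
    push_cast at b2
    have b7 : (m : ℚ) * y ^ 2 = 32 * ((y + δ) * (y + 2 * δ)) := by linarith
    exact_mod_cast b7
  have b7 : (y : ℤ) ∣ 64 := ⟨m * y - 32 * y - 96 * δ, by
    rcases hδ with rfl | rfl <;> linarith⟩
  have b8 : y ∣ 2 ^ 6 := by exact_mod_cast b7
  obtain ⟨k, hk, rfl⟩ := (Nat.dvd_prime_pow Nat.prime_two).1 b8
  obtain ⟨n, rfl⟩ := b4
  push_cast at b6
  interval_cases k <;> rcases hδ with rfl | rfl <;> omega

theorem simple_of_fused (h0 : IsConj (φ (r 2)) (φ (sr 0))) (h1 : IsConj (φ (r 2)) (φ (sr 3))) :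
    IsSimpleGroup G := by
  obtain ⟨S, hS⟩ := h.sylow
  have : Nontrivial G := ⟨_, 1, ne_one_of_ord h.ord_z⟩
  have hone : ∀ u : G, orderOf u = 2 → IsConj (φ (r 2)) u := fun u hu => by
    obtain ⟨g, hg⟩ := exists_conj_mem_sylow S hu
    rw [hS] at hg
    obtain ⟨d, hd⟩ := hg
    refine IsConj.trans ?_ (isConj_iff.2 ⟨g, hd.symm⟩).symm
    have h3 : ∀ d : DihedralGroup 4, d ≠ 1 → d * d = 1 →
      d = r 2 ∨ d = sr 0 ∨ d = r 2 * sr 0 ∨ d = sr 3 ∨ d = r 2 * sr 3 := by decide
    have h4 : orderOf d = 2 := by rw [← h.ord, hd, ord_conj, hu]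
    rcases h3 d (ne_one_of_ord h4) (mul_self_of_ord h4) with a | a | a | a | a <;> rw [a]
    · exact h0
    · exact map_mul φ _ _ ▸ h0.trans (h.conj_sr 0)
    · exact h1
    · exact map_mul φ _ _ ▸ h1.trans (h.conj_sr 3)
  refine ⟨fun N hN => ?_⟩
  rcases Nat.even_or_odd (Nat.card N) with he | ho
  · obtain ⟨t, ht, ht2⟩ := Transfer.exists_invol_mem he
    have h3 : ∀ u, orderOf u = 2 → u ∈ N := fun u hu => by
      obtain ⟨g, rfl⟩ := isConj_iff.1 ((hone t ht2).symm.trans (hone u hu))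
      exact hN.conj_mem t ht g
    have h4 : (S : Subgroup G) ≤ N := by
      rw [hS, ← h.closure_eq, closure_le, Set.insert_subset_iff, Set.singleton_subset_iff]
      refine ⟨?_, h3 _ (h.ord_sr 0)⟩
      have := mul_mem (h3 _ (h.ord_sr 0)) (h3 _ (h.ord_sr 1))
      rwa [← map_mul] at this
    refine .inr (top_le_iff.1 ?_)
    rw [← Sylow.normalizer_sup_eq_top' S h4]
    exact sup_le ((hS ▸ h.normalizer_eq).trans (hS ▸ h4)) le_rfl
  · refine .inl (le_bot_iff.1 (le_of_forall_centralizer (p := 2)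
      (A := zpowers (φ (r 2)) ⊔ zpowers (φ (sr 0))) ?_ (h.card_V 0).ge le_normalizer_of_normal
      (Nat.coprime_two_right.2 ho) fun a ha ha1 => (eq_bot_of_coprime ?_).le))
    · exact h.elem_V 0
    · obtain ⟨g, rfl⟩ := isConj_iff.1 (hone a (ord_of_mul_self (by
        rw [← pow_two, (h.elem_V 0).2 a ha]) ha1))
      rw [Transfer.card_centralizer_conj, h.cen, h.card]
      exact Nat.Coprime.pow_right 3 (Nat.coprime_two_right.2 ho)

theorem simple_order (hG : ∀ H : Subgroup G, H.index ≠ 2) :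
    IsSimpleGroup G ∧ (Nat.card G = 168 ∨ Nat.card G = 360) := by
  obtain ⟨S, hS⟩ := h.sylow
  have h1 : (zpowers (φ (r 1))).relIndex S = 2 := by
    have := relIndex_mul_card (zpowers_le.2 (show φ (r 1) ∈ φ.range from ⟨_, rfl⟩))
    rw [Nat.card_zpowers, h.ord, orderOf_r_one, h.card] at this
    rw [hS]; omega
  have h2 := fun i => one_class_of_cyc hG S h1 h.ord_z (h.ord_sr i)
  exact ⟨h.simple_of_fused (h2 0) (h2 3), h.order_of_fused (h2 0) (h2 3)⟩

theorem V_le (i : ZMod 4) : zpowers (φ (r 2)) ⊔ zpowers (φ (sr i)) ≤ φ.range :=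
  sup_le (zpowers_le.2 ⟨_, rfl⟩) (zpowers_le.2 ⟨_, rfl⟩)

theorem perm_of_mixed {i : ZMod 4} (h0 : IsConj (φ (r 2)) (φ (sr i)))
    (h1 : ¬ IsConj (φ (r 2)) (φ (sr (i + 1)))) :
    Nonempty (G ≃* Equiv.Perm (Fin 4)) ∨ Nonempty (G ≃* Equiv.Perm (Fin 5)) := by
  obtain ⟨S, hS⟩ := h.sylow
  have hV4 := h.card_V i
  have hE := h.elem_V i
  have hVS := h.V_le i
  have hm := fun w => h.mem_V (i := i) (w := w)
  have hCV := h.cent_pair i
  set V := zpowers (φ (r 2)) ⊔ zpowers (φ (sr i)) with hV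
  set z := φ (r 2) with hz
  have hz2 : orderOf z = 2 := h.ord_z
  have hC : centralizer ({z} : Set G) = φ.range := h.cen
  have hzV : z ∈ V := (hm _).2 (by simp)
  have htV : φ (sr i) ∈ V := (hm _).2 (by simp)
  have hcj : ∀ w ∈ V, w ≠ 1 → IsConj z w := fun w hw h2 => by
    rcases (hm w).1 hw with a | a | a | a <;> rw [a]
    · exact absurd a h2
    · exact h0
    · exact h0.trans (h.conj_sr i)
  have hi : V.relIndex φ.range = 2 := by
    have := relIndex_mul_card hVS
    rw [hV4, h.card] at this; omega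
  have hp : IsPGroup 2 V := IsPGroup.of_card (n := 2) hV4
  have hu2 := h.ord_sr (i + 1)
  obtain ⟨M, hMn, hM2, huM⟩ := (Transfer.thompson_transfer (odd_index_sylow S) (hS ▸ hi)
    (u := φ (sr (i + 1))) (by rw [← hu2, pow_orderOf_eq_one]) (hS ▸ ⟨_, rfl⟩)).resolve_right
    fun ⟨g, hg⟩ => h1 ((hcj _ hg (ne_one_of_ord (by rw [ord_conj, hu2]))).trans
      (isConj_iff.2 ⟨g, rfl⟩).symm)
  have hzM : z ∈ M := by
    have := sq_mem_of_index_two hM2 (φ (r 1))
    rwa [← map_pow] at this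
  have hVM : V ≤ M := fun w hw => by
    by_cases e : w = 1
    · exact e ▸ one_mem _
    obtain ⟨g, rfl⟩ := isConj_iff.1 (hcj w hw e)
    exact hMn.conj_mem z hzM g
  have hMS : M ⊓ φ.range = V := by
    refine (eq_of_le_of_card_ge (le_inf hVM hVS) ?_).symm
    have a1 := card_lt_of_lt (lt_of_le_of_ne (inf_le_right (a := M) (b := φ.range))
      fun e => huM (mem_inf.1 (e.ge ⟨sr (i + 1), rfl⟩)).1)
    have a2 := card_dvd_of_le (inf_le_right (a := M) (b := φ.range))
    rw [h.card] at a1 a2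
    obtain ⟨k, hk⟩ := a2
    rw [hV4]
    by_contra hc
    have : k < 2 := by nlinarith
    interval_cases k <;> omega
  have hsup : φ.range ⊔ M = ⊤ := by
    refine eq_top_iff.2 fun g _ => ?_
    by_cases e : g ∈ M
    · exact mem_sup_right e
    · have := (mul_mem_iff_of_index_two hM2 (a := φ (sr (i + 1))) (b := g)).2 (by simp [huM, e])
      exact (mul_mem_cancel_left (mem_sup_left (show φ _ ∈ φ.range from ⟨_, rfl⟩))).1 (mem_sup_right this)
  have hiM : V.relIndex M = φ.range.index := by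
    have a1 := relIndex_mul_index hVM
    have a2 := relIndex_mul_index hVS
    rw [hM2] at a1; rw [hi] at a2; omega
  have hodd : Odd φ.range.index := hS ▸ odd_index_sylow S
  have hSM : SylIn 2 V M := sylIn_of_not_dvd hVM hp (by
    rw [hiM]; exact fun e => Nat.not_even_iff_odd.2 hodd (even_iff_two_dvd.2 e))
  have h15 : φ.range.index ≤ 15 := by
    obtain ⟨P, hP'⟩ := hSM.exists_sylow
    have hP : (P : Subgroup M) = V.subgroupOf M := by
      rw [← hP', subgroupOf, comap_map_eq_self_of_injective M.subtype_injective]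
    have hK : IsKleinFour (P : Subgroup M) := hP ▸ ⟨(card_subgroupOf hVM).trans hV4,
      (Monoid.exponent_eq_of_mulEquiv (subgroupOfEquivOfLe hVM)).trans
        (Transfer.klein_of_elem hE hV4).exponent_two⟩
    have hzP : (⟨z, hzM⟩ : M) ∈ (P : Subgroup M) := by rw [hP]; exact hzV
    have hnc : ¬ HasNormalPComplement 2 M := fun hn => by
      obtain ⟨g, hg⟩ := isConj_iff.1 h0
      obtain ⟨m, hm, c, hc, rfl⟩ := mem_sup_of_normal_left.1 (sup_comm φ.range M ▸ hsup ▸ mem_top g)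
      have a1 : m * z * m⁻¹ = φ (sr i) := by
        rw [← hg, mul_assoc m c, ← mem_C1.1 (hC.ge hc)]; simp [mul_assoc]
      exact h.ne_z i (congrArg Subtype.val (Transfer.eq_of_isConj_of_hasNPC_of_abelian P
        hK.isMulCommutative hn hzP (b := ⟨_, hVM htV⟩) (by rw [hP]; exact htV)
        (isConj_iff.2 ⟨⟨m, hm⟩, Subtype.ext a1⟩))).symm
    have e : centralizer ({⟨z, hzM⟩} : Set M) = P := by
      ext w
      rw [hP, mem_subgroupOf, ← hMS, mem_inf, ← hC, mem_C1, mem_C1, Subtype.ext_iff]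
      simp
    have := klein_index_le P hK (fun s t => Transfer.klein_sylow_isConj P hK hnc) hnc hzP
      (by simpa using hz2) (e.le.trans (le_centralizer_iff_isMulCommutative.2 hK.isMulCommutative))
    rwa [e, hP, ← relIndex, hiM] at this
  have hSN : φ.range ≤ normalizer (V : Set G) :=
    Solv.le_normalizer_of_relIndex_prime (IsPGroup.of_card (n := 3) h.card) hVS hi
  have h3 : φ.range.relIndex (normalizer (V : Set G)) = 3 := by
    have a1 := relIndex_cent_lt le_rfl hzV (ne_one_of_ord hz2)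
    have a2 := Odd.of_dvd_nat hodd (relIndex_dvd_index_of_le hSN)
    rw [hC, hV4] at a1
    have a3 : φ.range.relIndex (normalizer (V : Set G)) ≠ 1 := fun e => by
      obtain ⟨g, hg⟩ := isConj_iff.1 h0
      have b1 : Nat.card (centralizer ({φ (sr i)} : Set G)) = 8 := by
        rw [← hg, Transfer.card_centralizer_conj, hC, h.card]
      have b2 := IsElementaryAbelian.le_centralizer_singleton hE htV
      have b3 := Solv.le_normalizer_of_relIndex_prime (IsPGroup.of_card (p := 2) (n := 3) b1) b2 (by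
        have := relIndex_mul_card b2
        rw [hV4, b1] at this; omega)
      exact h.ne_z i (h.eq_z (h.ord_sr i) (eq_of_le_of_card_ge (b3.trans (relIndex_eq_one.1 e))
        (by rw [b1, h.card])).ge)
    obtain ⟨k, hk⟩ := a2
    omega
  have hcore : ∀ K : Subgroup G, K.Normal → K ≤ normalizer (V : Set G) → ¬ V ≤ K → K = ⊥ :=
    fun K hK a1 a2 => by
      have a3 : K ⊓ V = ⊥ := by
        refine eq_bot_iff.2 fun w hw => by_contra fun e => a2 fun y hy => ?_
        by_cases e' : y = 1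
        · exact e' ▸ one_mem _
        obtain ⟨g, rfl⟩ := isConj_iff.1 ((hcj w hw.2 e).symm.trans (hcj y hy e'))
        exact hK.conj_mem w hw.1 g
      have a4 : K ≤ centralizer (V : Set G) := commutator_eq_bot_iff_le_centralizer.1
        (le_bot_iff.1 (a3 ▸ le_inf (commutator_le_left_of_le_normalizer le_normalizer_of_normal)
          (commutator_le_right_of_le_normalizer a1)))
      rw [← a3, left_eq_inf, ← hCV]
      exact a4.trans (centralizer_le (by
        rw [Set.insert_subset_iff, Set.singleton_subset_iff]; exact ⟨hzV, htV⟩))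
  have hperm : ∀ (H : Subgroup G) (n : ℕ), H.normalCore = ⊥ → H.index = n →
      Nat.card G = n.factorial → Nonempty (G ≃* Equiv.Perm (Fin n)) := fun H n a1 a2 a3 =>
    Perm.Small.iso_perm_of_faithful (α := G ⧸ H) a2 (fun g hg => by
      rw [← mem_bot, ← a1, normalCore_eq_ker]
      exact Equiv.ext hg) a3
  have hG := φ.range.card_mul_index
  have hi3 := relIndex_mul_index hSN
  rw [h3] at hi3
  rw [h.card, ← hi3] at hG
  by_cases hN : normalizer (V : Set G) = ⊤
  · left
    rw [hN, index_top] at hG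
    clear hi3 h15
    have : Fact (Nat.Prime 3) := ⟨Nat.prime_three⟩
    obtain ⟨P⟩ : Nonempty (Sylow 3 G) := inferInstance
    have hP : Nat.card (P : Subgroup G) = 3 := by
      rw [P.card_eq_multiplicity, ← hG]; decide +kernel
    have a1 := card_sylow_modEq_one 3 G
    have a2 := P.card_dvd_index
    have a3 := (P : Subgroup G).card_mul_index
    rw [P.card_eq_index_normalizer] at a1 a2
    rw [show (P : Subgroup G).index = 8 by rw [hP, ← hG] at a3; omega] at a2
    have a4 : (normalizer ((P : Subgroup G) : Set G)).index ≠ 1 := fun e => by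
      have := hcore P (normalizer_eq_top_iff.1 (index_eq_one.1 e)) (hN ▸ le_top) fun e' => by
        have := card_dvd_of_le e'
        rw [hV4, hP] at this; omega
      rw [this, card_bot] at hP; omega
    have a5 : (normalizer ((P : Subgroup G) : Set G)).index = 4 := by
      have := Nat.le_of_dvd (by norm_num) a2
      generalize (normalizer ((P : Subgroup G) : Set G)).index = n at *
      interval_cases n <;> simp_all [Nat.ModEq]
    refine hperm _ 4 (hcore _ inferInstance (hN ▸ le_top) fun e => ?_) a5 hG.symm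
    have a6 := card_dvd_of_le (e.trans (normalCore_le _))
    have a7 := (normalizer ((P : Subgroup G) : Set G)).card_mul_index
    rw [a5, ← hG] at a7
    rw [hV4] at a6
    omega
  · right
    have a1 := hcore _ inferInstance (normalCore_le _) fun e => hN (normalizer_eq_top_iff.2
      (normal_of_cj_le fun g => hSM.le_of_normalizer (isPGroup_cj_iff.2 hp)
        (cj_le_of_mem hVM (le_normalizer_of_normal (mem_top g)))
        ((cj_le_of_mem e (le_normalizer_of_normal (mem_top g))).trans (normalCore_le _))))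
    have a2 := Transfer.card_dvd_factorial_of_normalCore a1
    have a3 : (normalizer (V : Set G)).index ≠ 1 := fun e => hN (index_eq_one.1 e)
    have a4 : (normalizer (V : Set G)).index = 5 := by
      rw [← hi3] at hodd h15
      rw [← hG] at a2
      generalize (normalizer (V : Set G)).index = n at *
      have : n ≤ 5 := by omega
      interval_cases n <;> simp_all [Nat.factorial] <;> omega
    exact hperm _ 5 a1 a4 (by rw [← hG, a4]; rfl)

theorem classify : φ.range ⊔ oddCore G = ⊤ ∨ Nonempty (G ≃* Equiv.Perm (Fin 4)) ∨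
    Nonempty (G ≃* Equiv.Perm (Fin 5)) ∨
    IsSimpleGroup G ∧ (Nat.card G = 168 ∨ Nat.card G = 360) := by
  have hc : ∀ i, IsConj (φ (sr i)) (φ (sr (i + 2))) := fun i => by
    have := h.conj_sr i
    rwa [← map_mul, show r 2 * sr i = sr (i + 2) from
      (by decide : ∀ i : ZMod 4, r 2 * sr i = (sr (i + 2) : DihedralGroup 4)) i] at this
  by_cases h0 : IsConj (φ (r 2)) (φ (sr 0)) <;> by_cases h1 : IsConj (φ (r 2)) (φ (sr 3))
  · exact .inr (.inr (.inr ⟨h.simple_of_fused h0 h1, h.order_of_fused h0 h1⟩))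
  · exact .inr (or_assoc.1 (.inl (h.perm_of_mixed h0 fun e => h1 (e.trans (hc 1)))))
  · exact .inr (or_assoc.1 (.inl (h.perm_of_mixed h1 h0)))
  left
  rw [← h.cen]
  refine Transfer.zstar_sup ⟨h.ord_z, fun g hg => ?_⟩
  obtain ⟨d, hd⟩ : g * φ (r 2) * g⁻¹ ∈ φ.range := h.cen ▸ mem_C1.2 hg.eq
  have h2 : IsConj (φ (r 2)) (φ d) := isConj_iff.2 ⟨g, hd.symm⟩
  have h3 : ∀ d : DihedralGroup 4, d ≠ 1 → d * d = 1 →
    d = r 2 ∨ d = sr 0 ∨ d = sr 2 ∨ d = sr 3 ∨ d = sr 1 := by decide
  have h4 : orderOf d = 2 := by rw [← h.ord, hd, ord_conj, h.ord_z]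
  rcases h3 d (ne_one_of_ord h4) (mul_self_of_ord h4) with rfl | rfl | rfl | rfl | rfl
  · exact hd.symm
  · exact absurd h2 h0
  · exact absurd (h2.trans (hc 2)) h0
  · exact absurd h2 h1
  · exact absurd (h2.trans (hc 1)) h1

end D8C

end Cfsg.Agent.Ez
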