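import Cfsg.Agent.Lib.Ez.A2
import Cfsg.Agent.Lib.Perm.Dick5

set_option autoImplicit false

namespace Cfsg.Agent.Ez

open Subgroup Cfsg.Agent.Perm.GL2 Matrix

/-- Properties of the involution of `SL₂(q)`, `q` odd, for a subgroup. -/
structure SLJ {G : Type*} [Group G] (L : Subgroup G) (j : G) : Prop where
  ex : ∃ x ∈ L, x * x = j
  sq : ∀ x ∈ L, x * x = 1 → x = 1 ∨ x = j
  conj : ∀ x ∈ L, ∀ y ∈ L, x * x = j → y * y = j → ∃ g ∈ L, g * x * g⁻¹ = y
  comm : ∀ x ∈ L, ∀ c ∈ L, ∀ d ∈ L, x * x = j → c * x = x * c → d * x = x * d → c * d = d * c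
  inv : ∀ x ∈ L, ∀ b ∈ L, x * x = j → b * x * b⁻¹ = x⁻¹ → b * b = j

section SL
variable {F : Type*} [Field F]

theorem sl_sq_of_trace {x : SL2 F} (h : (x : M2 F).trace = 0) : x * x = -1 := by
  apply Subtype.ext
  change (x : M2 F) * x = -1
  rw [cayley, h, x.2]; simp

theorem sl_trace_of_sq {x : SL2 F} (h : x * x = -1) : (x : M2 F).trace = 0 := by
  have h1 : (x : M2 F) * x = -1 := congrArg Subtype.val h
  rw [cayley, x.2, one_smul, sub_eq_neg_self, smul_eq_zero] at h1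
  refine h1.resolve_right fun e => ?_
  have := x.2
  rw [e] at this; simp at this

theorem sl_not_scal (h2 : (2 : F) ≠ 0) {x : SL2 F} (h : x * x = -1) : ¬ IsScal (x : M2 F) :=
  fun ⟨_, a, b⟩ => by
    have h1 := sl_trace_of_sq h
    rw [trace_fin_two, ← b, ← two_mul] at h1
    rcases sq_eq_one_of_eq a b with c | c <;> simp [c, h2] at h1

theorem sl_sq_one (h2 : (2 : F) ≠ 0) {x : SL2 F} (h : x * x = 1) : x = 1 ∨ x = -1 := by
  have h1 : (x : M2 F) * x = 1 := congrArg Subtype.val h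
  rw [cayley, x.2, one_smul, sub_eq_iff_eq_add, m2_ext_iff] at h1
  simp only [Matrix.smul_apply, smul_eq_mul, Matrix.add_apply, one_apply_eq, ne_eq, zero_ne_one,
    not_false_eq_true, one_apply_ne, add_zero, mul_eq_zero, one_ne_zero] at h1
  obtain ⟨a, b, c, d⟩ := h1
  have ht : (x : M2 F).trace ≠ 0 := fun e => h2 (by rw [e] at a; linear_combination -a)
  have e : (x : M2 F) 0 0 = (x : M2 F) 1 1 := mul_left_cancel₀ ht (a.trans d.symm)
  rcases sq_eq_one_of_eq (c.resolve_left ht) e with f | f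
  · exact .inl (Subtype.ext (m2_ext f (b.resolve_left ht) (c.resolve_left ht) (e ▸ f)))
  · refine .inr (Subtype.ext (m2_ext ?_ ?_ ?_ ?_)) <;>
      simp [f, ← e, b.resolve_left ht, c.resolve_left ht]

theorem sl_conj [Finite F] (h2 : (2 : F) ≠ 0) {x y : SL2 F} (hx : x * x = -1) (hy : y * y = -1) :
    IsConj x y := by
  have ht := (sl_trace_of_sq hx).trans (sl_trace_of_sq hy).symm
  rcases classify_SL x with a | a | ⟨h, a, b⟩ | ⟨h, a, b⟩
  · exact absurd a (sl_not_scal h2 hx)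
  · exact a.isConj_SL ht
  · have h1 := (trace_eq_of_isConj_SL a).symm.trans (sl_trace_of_sq hx)
    rw [trace_fin_two, ← b.2.1, ← two_mul] at h1
    rcases sq_eq_one_of_eq b.1 b.2.1 with c | c <;> simp [c, h2] at h1
  · exact a.trans (b.isConj_SL (sl_not_scal h2 hy) ((trace_eq_of_isConj_SL a).symm.trans ht))

theorem sl_inv (h2 : (2 : F) ≠ 0) {x b : SL2 F} (hx : x * x = -1) (h : b * x * b⁻¹ = x⁻¹) :
    b * b = -1 := by
  have h1 : x * b * x⁻¹ = -b := by
    calc x * b * x⁻¹ = x * x * (b * x * b⁻¹) * b * x⁻¹ := by rw [h]; group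
      _ = x * x * (b * x * b⁻¹ * b * x⁻¹) := by group
      _ = -b := by rw [hx]; simp
  have h3 := trace_eq_of_isConj_SL (isConj_iff.2 ⟨x, h1⟩)
  rw [SpecialLinearGroup.coe_neg, trace_neg, eq_neg_iff_add_eq_zero, ← two_mul] at h3
  exact sl_sq_of_trace ((mul_eq_zero.1 h3).resolve_left h2)

theorem slj_of_equiv [Finite F] (h2 : (2 : F) ≠ 0) {G : Type*} [Group G] {L : Subgroup G}
    (e : L ≃* SL2 F) {j : G} (hj : orderOf j = 2) (hL : j ∈ L) : SLJ L j := by
  have h1 : e ⟨j, hL⟩ = -1 := (sl_sq_one h2 (by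
    rw [← map_mul, ← map_one e]; exact congrArg e (Subtype.ext (mul_self_of_ord hj)))).resolve_left
    fun a => ne_one_of_ord hj (congrArg Subtype.val (e.map_eq_one_iff.1 a))
  have h3 : ∀ x : L, (x : G) * x = j ↔ e x * e x = -1 := fun x => by
    rw [← h1, ← map_mul, e.apply_eq_iff_eq, Subtype.ext_iff]; rfl
  refine ⟨?_, fun x hx h => ?_, fun x hx y hy a b => ?_, fun x hx c hc d hd a b b' => ?_,
    fun x hx b hb a c => (h3 ⟨b, hb⟩).2 (sl_inv h2 ((h3 ⟨x, hx⟩).1 a) ?_)⟩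
  · obtain ⟨i, -, hi, -⟩ := exists_quat h2
    exact ⟨e.symm i, (e.symm i).2, (h3 _).2 (by simpa using sl_sq_of_trace hi)⟩
  · rcases sl_sq_one h2 (x := e ⟨x, hx⟩) (by
      rw [← map_mul, ← map_one e]; exact congrArg e (Subtype.ext h)) with a | a
    · exact .inl (congrArg Subtype.val (e.map_eq_one_iff.1 a))
    · exact .inr (congrArg Subtype.val (e.injective (a.trans h1.symm)))
  · obtain ⟨g, hg⟩ := isConj_iff.1 (sl_conj h2 ((h3 ⟨x, hx⟩).1 a) ((h3 ⟨y, hy⟩).1 b))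
    refine ⟨e.symm g, (e.symm g).2, congrArg Subtype.val (e.injective
      (a₁ := e.symm g * ⟨x, hx⟩ * (e.symm g)⁻¹) (a₂ := ⟨y, hy⟩) (by simpa using hg))⟩
  · have h4 : ∀ c : L, (c : G) * x = x * c → (e c : M2 F) * e ⟨x, hx⟩ = e ⟨x, hx⟩ * e c :=
      fun c h => congrArg Subtype.val (show e c * e ⟨x, hx⟩ = e ⟨x, hx⟩ * e c by
        rw [← map_mul, ← map_mul]; exact congrArg e (Subtype.ext h))
    exact congrArg Subtype.val (e.injective (a₁ := ⟨c, hc⟩ * ⟨d, hd⟩) (a₂ := ⟨d, hd⟩ * ⟨c, hc⟩) (by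
      rw [map_mul, map_mul]
      exact Subtype.ext (comm_comm (sl_not_scal h2 ((h3 ⟨x, hx⟩).1 a)) (h4 ⟨c, hc⟩ b)
        (h4 ⟨d, hd⟩ b'))))
  · rw [← map_inv, ← map_mul, ← map_mul, ← map_inv]; exact congrArg e (Subtype.ext c)

end SL

/-- `C(j) = (L ∘ L ^ n)⟨n⟩` with `n² = j`. -/
structure SW {G : Type*} [Group G] (L : Subgroup G) (j n : G) : Prop where
  slj : SLJ L j
  oj : orderOf j = 2
  jL : j ∈ L
  n2 : n * n = j
  cm : ∀ c ∈ L, ∀ d ∈ L, Commute c (MulAut.conj n d)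
  mt : ∀ c ∈ L, ∀ d ∈ L, c = MulAut.conj n d → c = 1 ∨ c = j
  dec : ∀ w, j * w = w * j → ∃ c ∈ L, ∃ d ∈ L, w = c * MulAut.conj n d ∨ w = c * MulAut.conj n d * n

namespace SW

variable {G : Type*} [Group G] {L : Subgroup G} {j n c d c' d' x w : G} (h : SW L j n)
include h

local notation "σ" => MulAut.conj n

theorem sj : σ j = j := by rw [← h.n2]; simp [mul_assoc]

theorem cj (hc : c ∈ L) : Commute c j := h.sj ▸ h.cm c hc j h.jL

theorem jj : j * j = 1 := mul_self_of_ord h.oj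

theorem ss (hc : c ∈ L) : σ (σ c) = c := by
  calc σ (σ c) = (n * n) * c * (n * n)⁻¹ := by simp [mul_assoc]
    _ = c := by rw [h.n2, ← (h.cj hc).eq, mul_inv_cancel_right]

theorem uq (hc : c ∈ L) (hd : d ∈ L) (hc' : c' ∈ L) (hd' : d' ∈ L) (e : c * σ d = c' * σ d') :
    c = c' ∧ d = d' ∨ c = c' * j ∧ d = d' * j := by
  have h1 : c'⁻¹ * c = σ (d' * d⁻¹) := by
    rw [map_mul, map_inv, inv_mul_eq_iff_eq_mul, ← mul_assoc, ← e, mul_inv_cancel_right]
  rcases h.mt _ (mul_mem (inv_mem hc') hc) _ (mul_mem hd' (inv_mem hd)) h1 with a | a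
  · rw [a, eq_comm, MulEquiv.map_eq_one_iff, mul_inv_eq_one] at h1
    exact .inl ⟨(inv_mul_eq_one.1 a).symm, h1.symm⟩
  · rw [a, ← h.sj, (σ).apply_eq_iff_eq, eq_mul_inv_iff_mul_eq] at h1
    exact .inr ⟨inv_mul_eq_iff_eq_mul.1 a, by
      rw [← h1, ← (h.cj hd).eq, mul_assoc, h.jj, mul_one]⟩

theorem sq1 (hc : c ∈ L) (hd : d ∈ L) : c * σ d * (c * σ d) = c * c * σ (d * d) := by
  rw [map_mul, mul_assoc, ← mul_assoc (σ d), ← (h.cm c hc d hd).eq]; simp only [mul_assoc]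

theorem sq2 (hc : c ∈ L) (hd : d ∈ L) :
    c * σ d * n * (c * σ d * n) = c * d * j * σ (d * c) := by
  calc _ = c * σ d * σ c * σ (σ d) * (n * n) := by simp [mul_assoc]
    _ = c * σ (d * c) * (d * j) := by rw [h.ss hd, h.n2, map_mul]; simp only [mul_assoc]
    _ = _ := by
      rw [mul_assoc, ← (h.cm _ (mul_mem hd h.jL) _ (mul_mem hd hc)).eq]; simp only [mul_assoc]

theorem cj1 (hd : d ∈ L) (hx : x ∈ L) : c * σ d * x * (c * σ d)⁻¹ = c * x * c⁻¹ := by
  rw [mul_assoc c, ← (h.cm x hx d hd).eq]; group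

theorem cj2 (hc : c ∈ L) (hd : d ∈ L) (hx : x ∈ L) :
    c * σ d * σ x * (c * σ d)⁻¹ = σ (d * x * d⁻¹) := by
  calc _ = c * σ (d * x * d⁻¹) * c⁻¹ := by simp only [map_mul, map_inv]; group
    _ = _ := by rw [(h.cm c hc _ (mul_mem (mul_mem hd hx) (inv_mem hd))).eq, mul_inv_cancel_right]

theorem cj3 (hc : c ∈ L) (hd : d ∈ L) (hx : x ∈ L) :
    c * σ d * (x * σ x) * (c * σ d)⁻¹ = c * x * c⁻¹ * σ (d * x * d⁻¹) := by
  rw [← h.cj1 hd hx, ← h.cj2 hc hd hx]; group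

theorem conj_u (hx : x ∈ L) (h2 : x * x = j) (hw : orderOf w = 2) (hc0 : j * w = w * j) (hne : w ≠ j) :
    ∃ k, j * k = k * j ∧ k * (x * σ x) * k⁻¹ = w := by
  have hj1 := ne_one_of_ord h.oj
  obtain ⟨c, hc, d, hd, rfl | rfl⟩ := h.dec w hc0
  · have h1 := (h.sq1 hc hd).symm.trans ((mul_self_of_ord hw).trans (show 1 = 1 * σ 1 by simp))
    rcases h.uq (mul_mem hc hc) (mul_mem hd hd) (one_mem _) (one_mem _) h1 with ⟨a, b⟩ | ⟨a, b⟩
    · rcases h.slj.sq c hc a with rfl | rfl <;> rcases h.slj.sq d hd b with rfl | rfl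
      · simp at hw
      · exact absurd (by rw [h.sj, one_mul]) hne
      · exact absurd (by simp) hne
      · rw [h.sj, h.jj] at hw; simp at hw
    · obtain ⟨g, hg, rfl⟩ := h.slj.conj x hx c hc h2 (by simpa using a)
      obtain ⟨k, hk, rfl⟩ := h.slj.conj x hx d hd h2 (by simpa using b)
      exact ⟨g * σ k, ((h.cj hg).symm.mul_right (h.cm j h.jL k hk)).eq, h.cj3 hg hk hx⟩
  · have h1 := (h.sq2 hc hd).symm.trans ((mul_self_of_ord hw).trans (show 1 = 1 * σ 1 by simp))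
    exfalso
    rcases h.uq (mul_mem (mul_mem hc hd) h.jL) (mul_mem hd hc) (one_mem _) (one_mem _) h1 with
      ⟨a, b⟩ | ⟨a, b⟩
    · rw [mul_eq_one_comm.1 b, one_mul] at a; exact hj1 a
    · rw [mul_left_inj, mul_eq_one_comm] at a
      rw [a, one_mul] at b; exact hj1 b.symm

theorem types (hx : x ∈ L) (h2 : x * x = j) (h3 : j * w = w * j)
    (h4 : x * σ x * w = w * (x * σ x)) :
    (∃ c ∈ L, ∃ d ∈ L, c * x = x * c ∧ d * x = x * d ∧ w = c * σ d) ∨
    (w * w = 1 ∧ w * x * w⁻¹ = x⁻¹) ∨ (w * w ≠ x * σ x ∧ w * x * w⁻¹ = σ x) ∨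
    w * x * w⁻¹ = σ x⁻¹ := by
  have hj1 := ne_one_of_ord h.oj
  have hxi : x * j = x⁻¹ := eq_inv_of_mul_eq_one_right (by rw [← mul_assoc, h2, h.jj])
  have hn : σ (x * σ x) = x * σ x := by rw [map_mul, h.ss hx, (h.cm x hx x hx).eq]
  have key : ∀ c ∈ L, ∀ d ∈ L, c * σ d * (x * σ x) * (c * σ d)⁻¹ = x * σ x →
      c * x * c⁻¹ = x ∧ d * x * d⁻¹ = x ∨ c * x * c⁻¹ = x⁻¹ ∧ d * x * d⁻¹ = x⁻¹ :=
    fun c hc d hd e => hxi ▸ h.uq (mul_mem (mul_mem hc hx) (inv_mem hc))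
      (mul_mem (mul_mem hd hx) (inv_mem hd)) hx hx ((h.cj3 hc hd hx).symm.trans e)
  replace h4 := mul_inv_eq_iff_eq_mul.2 h4.symm
  obtain ⟨c, hc, d, hd, rfl | rfl⟩ := h.dec w h3
  · rcases key c hc d hd h4 with ⟨a, b⟩ | ⟨a, b⟩
    · exact .inl ⟨c, hc, d, hd, mul_inv_eq_iff_eq_mul.1 a, mul_inv_eq_iff_eq_mul.1 b, rfl⟩
    · exact .inr (.inl ⟨by rw [h.sq1 hc hd, h.slj.inv x hx c hc h2 a, h.slj.inv x hx d hd h2 b, h.sj,
        h.jj], (h.cj1 hd hx).trans a⟩)
  · have e : c * σ d * n * x * (c * σ d * n)⁻¹ = σ (d * x * d⁻¹) := by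
      rw [← h.cj2 hc hd hx]; simp [mul_assoc]
    rcases key c hc d hd (Eq.trans (by conv_lhs => rw [← hn]
                                       simp [mul_assoc]) h4) with ⟨a, b⟩ | ⟨a, b⟩
    · refine .inr (.inr (.inl ⟨fun e' => ?_, by rw [e, b]⟩))
      have h5 := h.slj.comm x hx c hc d hd h2 (mul_inv_eq_iff_eq_mul.1 a) (mul_inv_eq_iff_eq_mul.1 b)
      rcases h.uq (mul_mem (mul_mem hc hd) h.jL) (mul_mem hd hc) hx hx ((h.sq2 hc hd).symm.trans e')
        with ⟨a, b⟩ | ⟨a, b⟩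
      · rw [h5, b] at a; exact hj1 (by simpa using a)
      · rw [mul_left_inj, h5] at a; rw [a] at b; exact hj1 (by simpa using b)
    · exact .inr (.inr (.inr (by rw [e, b])))

theorem isolated [Finite G] : IsIsolatedInvolution j := by
  classical
  refine ⟨h.oj, fun g hg => by_contra fun hne => ?_⟩
  obtain ⟨x, hx, h2⟩ := h.slj.ex
  have hj1 := ne_one_of_ord h.oj
  have hxi : x * j = x⁻¹ := eq_inv_of_mul_eq_one_right (by rw [← mul_assoc, h2, h.jj])
  have hxs : ∀ y ∈ L, x ≠ σ y := fun y hy e => by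
    rcases h.mt x hx y hy e with a | a <;> rw [a] at h2
    · exact hj1 (by simpa using h2.symm)
    · exact hj1 (by simpa using h2)
  obtain ⟨k, hk, e1⟩ := h.conj_u hx h2 (by rw [ord_conj, h.oj]) hg.eq hne
  set u := x * σ x with hu
  have hju : j * u = u * j := ((h.cj hx).symm.mul_right (h.cm j h.jL x hx)).eq
  have e2 : k⁻¹ * g * j * (k⁻¹ * g)⁻¹ = u := by
    calc _ = k⁻¹ * (g * j * g⁻¹) * k := by group
      _ = u := by rw [← e1]; group
  generalize k⁻¹ * g = a at e2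
  have huj : u ≠ j := fun e => hne (by rw [← e1, e, ← hk, mul_inv_cancel_right])
  obtain ⟨b, hb, e3⟩ := h.conj_u hx h2 (w := a⁻¹ * j * a⁻¹⁻¹) (by rw [ord_conj, h.oj]) (by
    calc _ = a⁻¹ * (a * j * a⁻¹ * j) * a := by group
      _ = _ := by rw [e2, ← hju, ← e2]; group) fun e => huj (by
    rw [← e2]; conv_lhs => rw [← e]
    group)
  have e4 : a * b * j * (a * b)⁻¹ = u := by rw [mul_assoc a b, ← hb, ← e2]; group
  have e5 : a * b * u * (a * b)⁻¹ = j := by
    calc _ = a * (b * u * b⁻¹) * a⁻¹ := by group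
      _ = j := by rw [e3]; group
  generalize a * b = f at e4 e5
  let R : G → Type _ := fun v => {w : G // j * w = w * j ∧ u * w = w * u ∧ w * w = v}
  have c1 : Nat.card (R j) ≤ Nat.card (R u) := Nat.card_le_card_of_injective
    (fun w => ⟨f * w.1 * f⁻¹, by
      have := congrArg (fun y => f * y * f⁻¹) w.2.2.1
      simpa only [← conj_mul, e5] using this, by
      have := congrArg (fun y => f * y * f⁻¹) w.2.1
      simpa only [← conj_mul, e4] using this, by rw [conj_mul, w.2.2.2, e4]⟩)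
    fun w w' e => Subtype.ext (by simpa using congrArg Subtype.val e)
  have hjx : j * x = x * j := (h.cj hx).eq.symm
  have hux : u * x = x * u := by rw [hu, mul_assoc, ← (h.cm x hx x hx).eq]
  have hA : ∀ w w' : R u, w.1 * x = x * w.1 → w'.1 * x = x * w'.1 → Commute w.1 w'.1 := by
    have : ∀ w : R u, w.1 * x = x * w.1 →
        ∃ c ∈ L, ∃ d ∈ L, c * x = x * c ∧ d * x = x * d ∧ w.1 = c * σ d := fun w hw => by
      have e := mul_inv_eq_iff_eq_mul.2 hw
      rcases h.types hx h2 w.2.1 w.2.2.1 with a | ⟨-, a⟩ | ⟨-, a⟩ | a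
      · exact a
      · exact absurd (by simpa using e.symm.trans (a.trans hxi.symm)) hj1
      · exact absurd (e.symm.trans a) (hxs _ hx)
      · exact absurd (e.symm.trans a) (hxs _ (inv_mem hx))
    intro w w' a b
    obtain ⟨c, hc, d, hd, a1, a2, a3⟩ := this w a
    obtain ⟨c', hc', d', hd', b1, b2, b3⟩ := this w' b
    rw [a3, b3]
    exact (Commute.mul_right (h.slj.comm x hx c hc c' hc' h2 a1 b1) (h.cm c hc d' hd')).mul_left
      ((h.cm c' hc' d hd).symm.mul_right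
        (Commute.map (h.slj.comm x hx d hd d' hd' h2 a2 b2 : Commute d d') σ))
  have hB : ∀ w : R u, w.1 * x ≠ x * w.1 → w.1 * x * w.1⁻¹ = σ x⁻¹ := fun w hw => by
    rcases h.types hx h2 w.2.1 w.2.2.1 with ⟨c, hc, d, hd, a1, a2, a3⟩ | ⟨a, -⟩ | ⟨a, -⟩ | a
    · exact absurd (by rw [← mul_inv_eq_iff_eq_mul, a3, h.cj1 hd hx, a1, mul_inv_cancel_right]) hw
    · exact absurd (w.2.2.2.symm.trans a) (ne_one_of_ord (by rw [← e4, ord_conj, h.oj]))
    · exact absurd w.2.2.2 a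
    · exact a
  have mk : ∀ {a b v : G}, v * a = a * v → v * b = b * v → v * (a⁻¹ * b) = a⁻¹ * b * v :=
    fun a b => ((show Commute _ _ from a).inv_right.mul_right b).eq
  let F : R u → R j := fun w =>
    if hw : w.1 * x = x * w.1 then
      have e : ∃ w : R u, w.1 * x = x * w.1 := ⟨w, hw⟩
      ⟨(e.choose.1⁻¹ * w.1)⁻¹ * x, mk (mk e.choose.2.1 w.2.1) hjx, mk (mk e.choose.2.2.1 w.2.2.1) hux, by
        have a1 : Commute (e.choose.1⁻¹ * w.1)⁻¹ x :=
          ((show Commute _ _ from e.choose_spec).inv_left.mul_left hw).inv_left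
        have a2 := (hA _ _ e.choose_spec hw).inv_left
        rw [← pow_two, a1.mul_pow, inv_pow, a2.mul_pow, inv_pow, pow_two, pow_two, pow_two,
          e.choose.2.2.2, w.2.2.2, h2]
        simp⟩
    else ⟨x⁻¹ * w.1, mk hjx w.2.1, mk hux w.2.2.1, by
      calc _ = x⁻¹ * (w.1 * x * w.1⁻¹)⁻¹ * (w.1 * w.1) := by group
        _ = x⁻¹ * (x * σ x) * σ x := by
          rw [hB w hw, w.2.2.2, map_inv, inv_inv, hu, mul_assoc, ← mul_assoc (σ x),
            ← (h.cm x hx x hx).eq, ← mul_assoc]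
        _ = j := by rw [inv_mul_cancel_left, ← map_mul, h2, h.sj]⟩
  have hF : ∀ w : R u, (F w).1 * x = x * (F w).1 ↔ w.1 * x = x * w.1 := fun w => by
    by_cases hw : w.1 * x = x * w.1
    · simp only [F, dif_pos hw, hw, iff_true]
      exact (mk (mk (Exists.choose_spec (p := fun w : R u => w.1 * x = x * w.1) _).symm hw.symm)
        rfl).symm
    · simp only [F, dif_neg hw, hw, iff_false]
      exact fun e => hw (by rw [mul_assoc, inv_mul_eq_iff_eq_mul] at e; simpa using e)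
  refine (card_lt_of_inj_not_surj F (fun w w' e => ?_) fun hs => ?_).not_ge c1
  · have a : w.1 * x = x * w.1 ↔ w'.1 * x = x * w'.1 := by rw [← hF, ← hF, e]
    replace e := congrArg Subtype.val e
    by_cases hw : w.1 * x = x * w.1
    · exact Subtype.ext (by simpa [F, dif_pos hw, dif_pos (a.1 hw)] using e)
    · have hw' : ¬ w'.1 * x = x * w'.1 := fun b => hw (a.2 b)
      simp only [F, dif_neg hw, dif_neg hw'] at e
      exact Subtype.ext (mul_left_cancel e)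
  · have hn : u * n = n * u := by
      rw [eq_comm, ← mul_inv_eq_iff_eq_mul, ← MulAut.conj_apply, hu, map_mul, h.ss hx,
        (h.cm x hx x hx).eq]
    obtain ⟨w, hw⟩ := hs ⟨n, by rw [← h.n2, mul_assoc], hn, h.n2⟩
    have a : w.1 * x ≠ x * w.1 := fun e => hxs x hx (by
      have := (hF w).2 e
      rw [hw] at this
      exact (mul_inv_eq_iff_eq_mul.2 this).symm)
    have b := hB w a
    replace hw := congrArg Subtype.val hw
    simp only [F, dif_neg a] at hw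
    rw [inv_mul_eq_iff_eq_mul.1 hw] at b
    have : σ x = σ x⁻¹ := by
      rw [← b]
      calc σ x = x * σ x * x⁻¹ := by rw [(h.cm x hx x hx).eq, mul_inv_cancel_right]
        _ = _ := by simp [mul_assoc]
    exact hj1 (by simpa using ((σ).injective this).trans hxi.symm)

end SW

end Cfsg.Agent.Ez
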