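import Cfsg.Agent.Lib.Ez.A2
import Cfsg.Agent.Lib.BG.Sec5
import Cfsg.Agent.Lib.Char.Misc
import Cfsg.Agent.Lib.Char.Induce

set_option autoImplicit false

namespace Cfsg.Agent.Ez

open Subgroup Cfsg.Agent.Comp Cfsg.Agent.Char
open scoped commutatorElement Pointwise

universe u
variable {G : Type u} [Group G]

/-- Some conjugate lies in `A`. -/
def InC (A : Subgroup G) (x : G) : Prop := ∃ g, g * x * g⁻¹ ∈ A

theorem InC.of_mem {A : Subgroup G} {x : G} (h : x ∈ A) : InC A x := ⟨1, by simpa using h⟩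

theorem InC.of_isConj {A : Subgroup G} {x y : G} (h : InC A x) (hc : IsConj x y) : InC A y := by
  obtain ⟨g, hg⟩ := h
  obtain ⟨c, rfl⟩ := isConj_iff.1 hc
  exact ⟨g * c⁻¹, by simpa [mul_assoc] using hg⟩

theorem inC_conj {A : Subgroup G} {x g : G} : InC A (g * x * g⁻¹) ↔ InC A x :=
  ⟨fun h => h.of_isConj (isConj_iff.2 ⟨g, rfl⟩).symm, fun h => h.of_isConj (isConj_iff.2 ⟨g, rfl⟩)⟩

theorem InC.zpowers {A : Subgroup G} {x y : G} (h : InC A x) (hy : y ∈ zpowers x) : InC A y := by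
  obtain ⟨g, hg⟩ := h
  obtain ⟨n, rfl⟩ := hy
  exact ⟨g, by simpa using zpow_mem hg n⟩

open Classical in
theorem sum_TI [Fintype G] {A N : Subgroup G} (hA : A ≤ N) (hN : N ≤ normalizer (A : Set G))
    (hTI : ∀ x ∈ A, x ≠ 1 → ∀ g, g * x * g⁻¹ ∈ A → g ∈ N) {F : G → ℂ} (hF : IsClassFunction G F) :
    ∑ g with g ≠ 1 ∧ InC A g, F g = N.index * ∑ g with g ≠ 1 ∧ g ∈ A, F g := by
  let θ : N → ℂ := fun n => if n.1 ≠ 1 ∧ n.1 ∈ A then 1 else 0
  have hθ : IsClassFunction N θ := fun a b => if_congr (and_congr (by simp)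
    ((mem_normalizer_iff.1 (hN b.2) a).symm)) rfl rfl
  have h1 : ∀ g, indFun N θ g = if g ≠ 1 ∧ InC A g then 1 else 0 := fun g => by
    split_ifs with h
    · obtain ⟨h1, c, hc⟩ := h
      have h2 : c * g * c⁻¹ ≠ 1 := by simpa using h1
      rw [← isClassFunction_indFun N θ g c, indFun_apply_of_TI N hθ ⟨_, hA hc⟩ fun x hx _ =>
        if_neg fun e => hx (hTI _ hc h2 x e.2)]
      exact if_pos ⟨h2, hc⟩
    · exact indFun_eq_zero N θ g fun x _ => if_neg fun e => h ⟨by simpa using e.1, x, e.2⟩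
  have h2 := sum_indFun_mul N θ hF
  rw [← sum_extendByZero_mul] at h2
  rw [Finset.sum_filter, Finset.sum_filter]
  convert h2 using 2 with g _
  · rw [h1]; split_ifs <;> simp
  · refine Finset.sum_congr rfl fun g _ => ?_
    rw [extendByZero_eq]
    by_cases e : g ≠ 1 ∧ g ∈ A
    · simp [θ, e, hA e.2]
    · rw [if_neg e]; split_ifs
      · simp only [θ, if_neg e, zero_mul]
      · simp

open Classical in
theorem card_filter_ne_mem [Fintype G] (A : Subgroup G) :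
    (Finset.univ.filter fun g => g ≠ 1 ∧ g ∈ A).card + 1 = Nat.card A := by
  rw [show (Finset.univ.filter fun g => g ≠ 1 ∧ g ∈ A) = (Finset.univ.filter (· ∈ A)).erase 1 by
    ext; simp, Finset.card_erase_add_one (by simp), Nat.card_eq_fintype_card, Fintype.card_subtype]

open Classical in
theorem card_TI [Fintype G] {A N : Subgroup G} (hA : A ≤ N) (hN : N ≤ normalizer (A : Set G))
    (hTI : ∀ x ∈ A, x ≠ 1 → ∀ g, g * x * g⁻¹ ∈ A → g ∈ N) :
    (Finset.univ.filter fun g => g ≠ 1 ∧ InC A g).card + N.index = N.index * Nat.card A := by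
  have h := sum_TI hA hN hTI (IsClassFunction.const 1)
  simp only [Finset.sum_const, nsmul_eq_mul, mul_one] at h
  rw [← card_filter_ne_mem A, mul_add, mul_one]
  exact congrArg (· + _) (by exact_mod_cast h)

theorem exists_frattini_over [Finite G] {N V : Subgroup G} (hs : Group.IsSolvable N) (lt : V < N)
    (hn : N ≤ normalizer (V : Set G)) : ∃ r : ℕ, r.Prime ∧ ∃ R : Subgroup G, IsPGroup r R ∧ R ≤ N ∧
      ¬ R ≤ V ∧ N ≤ normalizer ((V ⊔ R : Subgroup G) : Set G) ∧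
      V ⊔ N ⊓ normalizer (R : Set G) = N := by
  obtain ⟨U, hU, h⟩ := BG.exists_chief_above le_normalizer hn lt
  obtain ⟨r, hr, h1⟩ := h.exists_piN (hU.trans hn) (isSolvable_of_le hU hs)
  have := Fact.mk hr
  obtain ⟨R, hR⟩ := exists_sylIn r U
  have h2 : V ⊔ R = U := le_antisymm (sup_le h.lt.le hR.le) (relIndex_eq_one.1
    ((h1.of_dvd (relIndex_dvd_of_le_left U le_sup_left)).eq_one (BG.piN_compl_singleton'.2
      (hR.not_dvd_relIndex_of_le le_sup_right (sup_le h.lt.le hR.le)))))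
  refine ⟨r, hr, R, hR.isP, hR.le.trans hU, fun e => h.lt.ne (by rw [← h2, sup_eq_left.2 e]),
    h2 ▸ h.nU, ?_⟩
  conv_rhs => rw [← hR.frattini hU h.nU, ← h2, sup_assoc,
    sup_eq_right.2 (le_inf (hR.le.trans hU) le_normalizer)]

/-- Number of ways to write an element as a product of two conjugates of `t`. -/
noncomputable def nf (t g : G) : ℕ :=
  Nat.card {p : G × G // IsConj t p.1 ∧ IsConj t p.2 ∧ p.1 * p.2 = g}

theorem nf_conj (t g c : G) : nf t (c * g * c⁻¹) = nf t g := by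
  have h : ∀ x, IsConj t (c * x * c⁻¹) ↔ IsConj t x := fun x =>
    ⟨fun h => h.trans (isConj_iff.2 ⟨c, rfl⟩).symm, fun h => h.trans (isConj_iff.2 ⟨c, rfl⟩)⟩
  refine (Nat.card_congr (Equiv.subtypeEquiv
    ((MulAut.conj c).toEquiv.prodCongr (MulAut.conj c).toEquiv) fun p => ?_)).symm
  exact and_congr (h _).symm (and_congr (h _).symm (by simp))

theorem nf_eq {t g : G} (ht : orderOf t = 2) :
    nf t g = Nat.card {u : G // IsConj t u ∧ IsConj t (u * g)} := by
  have h : ∀ u, IsConj t u → u * u = 1 := fun u hu => by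
    obtain ⟨c, rfl⟩ := isConj_iff.1 hu
    exact mul_self_of_ord (by rw [ord_conj, ht])
  have h1 : ∀ p : {p : G × G // IsConj t p.1 ∧ IsConj t p.2 ∧ p.1 * p.2 = g}, p.1.1 * g = p.1.2 := by
    rintro ⟨p, a, -, rfl⟩
    rw [← mul_assoc, h _ a, one_mul]
  exact Nat.card_congr ⟨fun p => ⟨p.1.1, p.2.1, (h1 p).symm ▸ p.2.2.1⟩,
    fun u => ⟨(u.1, u.1 * g), u.2.1, u.2.2, by rw [← mul_assoc, h _ u.2.1, one_mul]⟩,
    fun p => Subtype.ext (Prod.ext rfl (h1 p)), fun u => rfl⟩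

theorem sum_nf [Fintype G] (t : G) : ∑ g, nf t g = (centralizer ({t} : Set G)).index ^ 2 := by
  have h := (sum_card_class_mul t t fun _ => 1).trans (sum_classInd_mul_mul isIrrCharacter_one t t)
  simp only [mul_one, div_one] at h
  rw [pow_two]
  exact_mod_cast h

theorem nf_one [Finite G] {t : G} (ht : orderOf t = 2) :
    nf t 1 = (centralizer ({t} : Set G)).index := by
  rw [nf_eq ht, ← card_isConj_eq_index]; simp

/-- The hypothesis of the Brauer--Suzuki--Wall theorem. -/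
structure BSW (t s : G) (K : Subgroup G) : Prop where
  ht : orderOf t = 2
  ab : IsMulCommutative K
  le : K ≤ centralizer {t}
  tK : t ∈ K
  hs : orderOf s = 2
  sH : s ∈ centralizer {t}
  sK : s ∉ K
  sup : K ⊔ zpowers s = centralizer {t}
  cK : K ⊓ centralizer {s} = zpowers t
  inv : ∀ x ∈ K, s * x * s⁻¹ = x⁻¹
  ti : ∀ g, g ∉ centralizer {t} → K ⊓ cj(g, K) = ⊥
  one : ∀ x y : G, orderOf x = 2 → orderOf y = 2 → IsConj x y

/-- Inverted by an involution. -/
def SR (x : G) : Prop := ∃ u, orderOf u = 2 ∧ u * x * u⁻¹ = x⁻¹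

namespace BSW

variable {t s : G} {K : Subgroup G} (h : BSW t s K) {x y w g u : G}
include h

set_option quotPrecheck false in
local notation "H" => centralizer ({t} : Set G)

theorem comm (hx : x ∈ K) (hy : y ∈ K) : x * y = y * x :=
  congrArg Subtype.val (h.ab.is_comm.comm ⟨x, hx⟩ ⟨y, hy⟩)

variable [Finite G]

theorem sN : zpowers s ≤ normalizer (K : Set G) :=
  zpowers_le.2 (mem_normalizer_of_conj_mem fun x hx => h.inv x hx ▸ inv_mem hx)

theorem HN : H ≤ normalizer (K : Set G) := h.sup ▸ sup_le le_normalizer h.sN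

theorem mem_H : w ∈ H ↔ w ∈ K ∨ w * s ∈ K := by
  refine ⟨fun hw => ?_, fun hw => hw.elim (h.le ·) fun a => (mul_mem_cancel_right h.sH).1 (h.le a)⟩
  obtain ⟨a, ha, b, hb, rfl⟩ := (mem_sup_of_le_normalizer' h.sN).1 (h.sup ▸ hw)
  rcases (Transfer.mem_zpowers_iff_of_sq (mul_self_of_ord h.hs)).1 hb with rfl | rfl
  · exact .inl (by simpa using ha)
  · exact .inr (by rwa [mul_assoc, mul_self_of_ord h.hs, mul_one])

theorem out (hw : w ∈ H) (hK : w ∉ K) : orderOf w = 2 ∧ ∀ x ∈ K, w * x * w⁻¹ = x⁻¹ := by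
  have h1 := (h.mem_H.1 hw).resolve_left hK
  have h2 := mul_self_of_ord h.hs
  obtain ⟨a, rfl⟩ : ∃ a, w = a * s := ⟨w * s, by rw [mul_assoc, h2, mul_one]⟩
  rw [mul_assoc, h2, mul_one] at h1
  refine ⟨ord_of_mul_self ?_ fun e => hK (e ▸ one_mem _), fun x hx => ?_⟩
  · calc a * s * (a * s) = a * (s * a * s⁻¹) * (s * s) := by group
      _ = 1 := by rw [h.inv a h1, h2]; group
  · calc a * s * x * (a * s)⁻¹ = a * (s * x * s⁻¹) * a⁻¹ := by group
      _ = _ := by rw [h.inv x hx, h.comm h1 (inv_mem hx)]; group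

theorem eq_t (hx : x ∈ K) (h2 : orderOf x = 2) : x = t := by
  refine invol_unique_zpowers (h.cK ▸ mem_inf.2 ⟨hx, mem_C1.2 ?_⟩) (mem_zpowers t) h2 h.ht
  rw [← mul_inv_eq_iff_eq_mul, h.inv x hx, inv_eq_of_mul_eq_one_right (mul_self_of_ord h2)]

theorem mem_of_conj (hx : x ∈ K) (h1 : x ≠ 1) (hg : g * x * g⁻¹ ∈ K) : g ∈ H :=
  by_contra fun e => h1 (by simpa using (h.ti g e).le (mem_inf.2 ⟨hg, conj_mem_cj.2 hx⟩))

theorem inC_invol (hu : orderOf u = 2) : InC K u := (InC.of_mem h.tK).of_isConj (h.one _ _ h.ht hu)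

theorem inC_of_mem (hw : w ∈ H) : InC K w :=
  (em (w ∈ K)).elim InC.of_mem fun e => h.inC_invol (h.out hw e).1

theorem inC_of_comm (hy : InC K y) (h1 : y ≠ 1) (hc : x * y = y * x) : InC K x := by
  obtain ⟨g, hg⟩ := hy
  refine (inC_conj (g := g)).1 (h.inC_of_mem (h.mem_of_conj hg (by simpa using h1) ?_))
  rwa [conj_mul, hc, ← conj_mul, mul_inv_cancel_right]

theorem relIndex_K : K.relIndex H = 2 := by
  refine index_eq_two_iff.2 ⟨⟨s, h.sH⟩, fun b => ?_⟩
  rw [mem_subgroupOf, mem_subgroupOf, coe_mul, xor_comm, xor_iff_not_iff]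
  exact fun e => h.sK ((mul_mem_cancel_left ((h.mem_H.1 b.2).elim id e.2)).1
    ((h.mem_H.1 b.2).elim e.1 id))

theorem card_H : Nat.card H = 2 * Nat.card K := by rw [← relIndex_mul_card h.le, h.relIndex_K]

theorem even_K : 2 ∣ Nat.card K := h.ht ▸ orderOf_dvd_natCard _ h.tK

theorem not_dvd_index {r : ℕ} (hr : r.Prime) (hd : r ∣ 2 * Nat.card K) : ¬ r ∣ (H).index := by
  have := Fact.mk hr
  have h1 : r ∣ Nat.card K := ((Nat.Prime.dvd_mul hr).1 hd).elim
    (fun e => e.trans h.even_K) id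
  obtain ⟨y, hy, ho⟩ := exists_mem_orderOf_eq h1
  have hy1 : y ≠ 1 := fun e => hr.one_lt.ne' (by rw [← ho, e, orderOf_one])
  obtain ⟨S, hS⟩ := (isPGroup_zpowers_of_orderOf_eq ho).exists_le_sylow
  obtain ⟨z, -, hz, hc⟩ := exists_central_orderOf S.isPGroup'
    fun e => hy1 (mem_bot.1 (e ▸ hS (mem_zpowers y)))
  obtain ⟨g, hg⟩ := h.inC_of_comm (.of_mem hy) hy1 (mem_C1.1 (hc (hS (mem_zpowers y))))
  have h2 : cj(g, (S : Subgroup G)) ≤ H := ((cj_mono g hc).trans (cj_centralizer_singleton g z).le).trans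
    fun w hw => h.mem_of_conj hg (fun e => hr.one_lt.ne' (by rw [← hz, ← ord_conj g, e, orderOf_one]))
      (by rwa [← mem_C1.1 hw, mul_inv_cancel_right])
  simpa using ((sylIn_top S).cj_of_mem (le_normalizer (mem_top g))).not_dvd_relIndex_of_le h2 le_top

theorem coprime_index : (H).index.Coprime (2 * Nat.card K) :=
  Nat.coprime_of_dvd fun _ hr a b => h.not_dvd_index hr b a

theorem inC_of_prime (ho : (orderOf y).Prime) (hd : orderOf y ∣ 2 * Nat.card K) : InC K y := by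
  have := Fact.mk ho
  obtain ⟨P, hP⟩ := exists_sylIn (orderOf y) H
  obtain ⟨g, -, hg⟩ := (hP.trans_of_not_dvd le_top (by simpa using h.not_dvd_index ho hd)).exists_cj_le
    (isPGroup_zpowers_of_orderOf_eq rfl) le_top
  exact inC_conj.1 (h.inC_of_mem (hP.le (hg (conj_mem_cj.2 (mem_zpowers y)))))

theorem coprime_cent (hx : ¬ InC K x) :
    (Nat.card (centralizer ({x} : Set G))).Coprime (2 * Nat.card K) :=
  Nat.coprime_of_dvd fun r hr a b => by
    have := Fact.mk hr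
    obtain ⟨y, hy, rfl⟩ := exists_mem_orderOf_eq a
    exact hx (h.inC_of_comm (h.inC_of_prime hr b) (fun e => Nat.not_prime_one (by simpa [e] using hr)) (mem_C1.1 hy))

theorem odd_cent (hx : ¬ InC K x) : Odd (Nat.card (centralizer ({x} : Set G))) :=
  Nat.coprime_two_right.1 (h.coprime_cent hx).coprime_mul_right_right

theorem card_cent (hu : orderOf u = 2) : Nat.card (centralizer ({u} : Set G)) = 2 * Nat.card K := by
  obtain ⟨g, rfl⟩ := isConj_iff.1 (h.one _ _ h.ht hu)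
  rw [Transfer.card_centralizer_conj, h.card_H]

theorem inverts {A : Subgroup G} (hA : (Nat.card A).Coprime (2 * Nat.card K)) (hu : orderOf u = 2)
    (hn : u ∈ normalizer (A : Set G)) (hy : y ∈ A) : u * y * u⁻¹ = y⁻¹ := by
  obtain ⟨k, -, h1, c, hc, h2, rfl⟩ := exists_inv_mul_cent
    (Nat.coprime_two_right.1 hA.coprime_mul_right_right) (mul_self_of_ord hu) hn hy
  have := eq_bot_of_coprime (h.card_cent hu ▸ hA)
  rw [mem_bot.1 (this.le (mem_inf.2 ⟨hc, mem_C1.2 h2⟩)), mul_one, h1]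

theorem inverts_cent (hx : ¬ InC K x) (hu : orderOf u = 2) (hi : u * x * u⁻¹ = x⁻¹)
    (hy : y ∈ centralizer {x}) : u * y * u⁻¹ = y⁻¹ :=
  h.inverts (h.coprime_cent hx) hu (cj_eq_self_iff.1 (by
    rw [cj_centralizer_singleton, hi, ← centralizer_zpowers, zpowers_inv, centralizer_zpowers])) hy

theorem cent_comm (hx : ¬ InC K x) (hr : SR x) (hy : y ∈ centralizer {x})
    (hw : w ∈ centralizer {x}) : y * w = w * y := by
  obtain ⟨u, hu, hi⟩ := hr
  have h1 := h.inverts_cent hx hu hi (mul_mem hy hw)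
  rw [← conj_mul, h.inverts_cent hx hu hi hy, h.inverts_cent hx hu hi hw, ← mul_inv_rev] at h1
  exact (inv_injective h1).symm

theorem cent_eq (hx : ¬ InC K x) (hr : SR x) (hy : y ∈ centralizer {x}) (h1 : y ≠ 1) :
    ¬ InC K y ∧ SR y ∧ centralizer ({y} : Set G) = centralizer {x} := by
  have h2 : ¬ InC K y := fun e => hx (h.inC_of_comm e h1 (mem_C1.1 hy))
  have h3 : SR y := hr.imp fun u hu => ⟨hu.1, h.inverts_cent hx hu.1 hu.2 hy⟩
  exact ⟨h2, h3, le_antisymm
    (fun w hw => mem_C1.2 (h.cent_comm h2 h3 (mem_C1.2 (mem_C1.1 hy).symm) hw))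
    fun w hw => mem_C1.2 (h.cent_comm hx hr hy hw)⟩

theorem isConj_iff_ord : IsConj t u ↔ orderOf u = 2 :=
  ⟨fun e => by obtain ⟨g, rfl⟩ := isConj_iff.1 e; rw [ord_conj, h.ht], h.one _ _ h.ht⟩

theorem inv_of_nf (h1 : IsConj t u) (h2 : IsConj t (u * x)) : u * x * u⁻¹ = x⁻¹ := by
  have a := mul_self_of_ord (h.isConj_iff_ord.1 h1)
  have b := mul_self_of_ord (h.isConj_iff_ord.1 h2)
  rw [inv_eq_of_mul_eq_one_right a, eq_inv_iff_mul_eq_one, ← b]; group

theorem nf_K (hx : x ∈ K) (h1 : x ≠ 1) : nf t x = Nat.card K := by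
  have key : ∀ u, IsConj t u ∧ IsConj t (u * x) ↔ u * s ∈ K := fun u => by
    refine ⟨fun ⟨a, b⟩ => (h.mem_H.1 (h.mem_of_conj hx h1 (h.inv_of_nf a b ▸ inv_mem hx))).resolve_left
      fun e => h1 ?_, fun e => ?_⟩
    · have := (h.eq_t e (h.isConj_iff_ord.1 a)).trans
        (h.eq_t (mul_mem e hx) (h.isConj_iff_ord.1 b)).symm
      simpa using this
    · have a := h.mem_H.2 (.inr e)
      have b : u ∉ K := fun c => h.sK ((mul_mem_cancel_left c).1 e)
      exact ⟨h.isConj_iff_ord.2 (h.out a b).1, h.isConj_iff_ord.2 (h.out (mul_mem a (h.le hx))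
        fun c => b ((mul_mem_cancel_right hx).1 c)).1⟩
  rw [nf_eq h.ht]
  exact Nat.card_congr ((Equiv.mulRight s).subtypeEquiv key)

theorem sr_of_nf (h1 : nf t x ≠ 0) : SR x := by
  rw [nf_eq h.ht] at h1
  obtain ⟨u, a, b⟩ := (Nat.card_ne_zero.1 h1).1
  exact ⟨u, h.isConj_iff_ord.1 a, h.inv_of_nf a b⟩

theorem nf_le : nf t x ≤ Nat.card (centralizer ({x} : Set G)) := by
  by_cases h1 : nf t x = 0
  · omega
  obtain ⟨v, -, hv⟩ := h.sr_of_nf h1
  rw [nf_eq h.ht]
  refine Nat.card_le_card_of_injective (fun u => ⟨v⁻¹ * u.1, mem_C1.2 ?_⟩)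
    fun a b e => Subtype.ext (by simpa using e)
  have := (h.inv_of_nf u.2.1 u.2.2).trans hv.symm
  calc x * (v⁻¹ * u.1) = v⁻¹ * (v * x * v⁻¹) * u.1 := by group
    _ = _ := by rw [← this]; group

end BSW

end Cfsg.Agent.Ez
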