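import Cfsg.Agent.Lib.Ez.A6
import Cfsg.Agent.Lib.Ez.A4
import Cfsg.Agent.Lib.Char.LinChar
import Cfsg.Agent.Lib.Char.CycTI

set_option autoImplicit false

namespace Cfsg.Agent.Ez

open Subgroup Cfsg.Agent.Comp Cfsg.Agent.Char
open scoped commutatorElement Pointwise ComplexConjugate

universe u
variable {G : Type u} [Group G]

theorem sum_nf_dirr [Fintype G] (t : G) {p : G → ℂ} (hp : IsDirr G p) :
    ∑ g, (nf t g : ℂ) * p g = (centralizer ({t} : Set G)).index ^ 2 * (p t ^ 2 / p 1) := by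
  have key : ∀ χ, IsIrrCharacter G χ →
      ∑ g, (nf t g : ℂ) * χ g = (centralizer ({t} : Set G)).index ^ 2 * (χ t ^ 2 / χ 1) :=
    fun χ h => by rw [pow_two, pow_two, ← sum_classInd_mul_mul h, ← sum_card_class_mul]; rfl
  rcases hp with h | h
  · exact key p h
  · have := key _ h
    simp only [Pi.neg_apply, mul_neg, Finset.sum_neg_distrib, neg_sq, div_neg, neg_inj] at this
    exact this

/-- Character data in the Brauer--Suzuki--Wall situation. -/
structure CD [Fintype G] (t : G) (K : Subgroup G) (p r : G → ℂ) (d : ℤ) : Prop where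
  hp : IsDirr G p
  hr : IsDirr G r
  p1 : classInner p (fun _ => 1) = 0
  out : ∀ x, ¬ (x ≠ 1 ∧ InC K x) → 1 + p x = r x
  hd : p 1 = d
  ord : ((centralizer ({t} : Set G)).index : ℤ) * (d - 1) ^ 2 = 2 * Nat.card K ^ 2 * (d * (d + 1))

namespace BSW

variable {t s : G} {K : Subgroup G} (h : BSW t s K)
include h

set_option quotPrecheck false in
local notation "H" => centralizer ({t} : Set G)

theorem exists_lin [Finite G] (hk : 4 < Nat.card K) : ∃ l m : K →* ℂˣ, l⁻¹ ≠ l ∧ m⁻¹ ≠ m ∧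
    l ⟨t, h.tK⟩ = 1 ∧ m ⟨t, h.tK⟩ = -1 := by
  classical
  let _ : CommGroup K := { (inferInstance : Group K) with mul_comm := h.ab.is_comm.comm }
  obtain ⟨e⟩ := CommGroup.monoidHom_mulEquiv_of_hasEnoughRootsOfUnity K ℂ
  set τ : K := ⟨t, h.tK⟩
  have h1 : ∀ w : K →* ℂˣ, w⁻¹ = w → w = 1 ∨ w = e.symm τ := fun w hw => by
    by_cases a : e w = 1
    · exact .inl (e.map_eq_one_iff.1 a)
    refine .inr (e.eq_symm_apply.2 (Subtype.ext (h.eq_t (e w).2 ?_)))
    rw [orderOf_coe]
    exact ord_of_mul_self (by rw [← map_mul, inv_eq_iff_mul_eq_one.1 hw, map_one]) a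
  have h2 : ∀ w : K →* ℂˣ, w τ = 1 ∨ w τ = -1 := fun w => by
    have : w τ * w τ = 1 := by
      rw [← map_mul, show τ * τ = 1 from Subtype.ext (mul_self_of_ord h.ht), map_one]
    exact (mul_self_eq_one_iff.1 (congrArg Units.val this)).imp Units.ext Units.ext
  obtain ⟨m, hm⟩ := CommGroup.exists_apply_ne_one_of_hasEnoughRootsOfUnity K ℂ (a := τ)
    fun a => ne_one_of_ord h.ht (congrArg Subtype.val a)
  replace hm := (h2 m).resolve_left hm
  obtain ⟨l, h3, h4⟩ : ∃ l : K →* ℂˣ, l τ = 1 ∧ l⁻¹ ≠ l := by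
    by_contra hc
    push Not at hc
    have : (Finset.univ : Finset (K →* ℂˣ)) ⊆ {1, e.symm τ, m, m * e.symm τ} := fun w _ => by
      rcases h2 w with a | a
      · rcases h1 w (hc w a) with b | b <;> simp [b]
      · rcases h1 (m⁻¹ * w) (hc _ (by simp [a, hm])) with b | b <;>
          simp [(inv_mul_eq_iff_eq_mul (a := m)).1 b]
    have := (Finset.card_le_card this).trans Finset.card_le_four
    rw [Finset.card_univ, ← Nat.card_eq_fintype_card, Nat.card_congr e.toEquiv] at this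
    omega
  have h5 : ∀ w : K →* ℂˣ, w τ = -1 → w⁻¹ = w → w = e.symm τ := fun w a b =>
    (h1 w b).resolve_left fun c => by
      rw [c, MonoidHom.one_apply, Units.ext_iff] at a; norm_num at a
  by_cases a : m⁻¹ = m
  · refine ⟨l, m * l, h4, fun b => h4 ?_, h3, by simp [hm, h3]⟩
    have := (h5 _ (by simp [hm, h3]) b).trans (h5 m hm a).symm
    rw [(mul_eq_left (a := m)).1 this, lc_inv_one]
  · exact ⟨l, m, h4, a, h3, hm⟩

variable [Fintype G]

theorem ind_K (θ : K → ℂ) {x : K} (hx : x ≠ 1) : indFun K θ x = θ x + θ x⁻¹ := by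
  classical
  have h1 : ∀ g : G, extendByZero K θ (g * x * g⁻¹) =
      (if g ∈ K then θ x else 0) + if g * s ∈ K then θ x⁻¹ else 0 := fun g => by
    by_cases a : g ∈ K
    · rw [h.comm a x.2, mul_inv_cancel_right, extendByZero_coe, if_pos a,
        if_neg fun b => h.sK ((mul_mem_cancel_left a).1 b), add_zero]
    by_cases b : g * s ∈ K
    · rw [(h.out (h.mem_H.2 (.inr b)) a).2 x x.2, if_neg a, if_pos b, zero_add]
      exact extendByZero_coe K θ x⁻¹
    · rw [if_neg a, if_neg b, add_zero, extendByZero_of_not_mem]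
      exact fun c => (h.mem_H.1 (h.mem_of_conj x.2 (fun e => hx (Subtype.ext e)) c)).elim a b
  have h2 : ∀ c : ℂ, ∑ g : G, (if g ∈ K then c else 0) = Nat.card K * c := fun c => by
    rw [← Finset.sum_filter, Finset.sum_const, nsmul_eq_mul, Nat.card_eq_fintype_card,
      Fintype.card_subtype]
  rw [indFun_apply', Finset.sum_congr rfl fun g _ => h1 g, Finset.sum_add_distrib,
    show ∑ g, (if g * s ∈ K then θ x⁻¹ else 0) = _ from
      Equiv.sum_comp (Equiv.mulRight s) (fun g => if g ∈ K then θ x⁻¹ else 0), h2, h2]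
  field_simp [card_ne_zero' K]

theorem inner_ind [Fintype K] {θ : K → ℂ} (h0 : θ 1 = 0) (θ' : K → ℂ) :
    classInner (indFun K θ) (indFun K θ') = classInner θ (θ' + fun x => θ' x⁻¹) := by
  rw [frobenius_left K θ (isClassFunction_indFun K θ'), classInner, classInner]
  congr 1
  refine Finset.sum_congr rfl fun x _ => ?_
  by_cases a : x = 1
  · simp [a, h0]
  · rw [h.ind_K θ' a]; rfl

theorem sum_nf_ind [Fintype K] {θ : K → ℂ} (h0 : θ 1 = 0) : ∑ g, (nf t g : ℂ) * indFun K θ g =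
    K.index * (Nat.card K ^ 2 * classInner θ fun _ => 1) := by
  rw [Finset.sum_congr rfl fun g _ => mul_comm _ _, sum_indFun_mul K θ (χ := fun g => nf t g)
    fun g c => by simp only [nf_conj], classInner_one_right, pow_two, mul_assoc,
    mul_inv_cancel_left₀ (card_ne_zero' K), Finset.mul_sum _ _ (Nat.card K : ℂ)]
  congr 1
  refine Finset.sum_congr rfl fun x _ => ?_
  by_cases a : x = 1
  · simp [a, h0]
  · rw [h.nf_K x.2 fun e => a (Subtype.ext e), mul_comm]

theorem index_K : K.index = 2 * (H).index := by rw [← relIndex_mul_index h.le, h.relIndex_K]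

theorem cd_of_large (hk : 4 < Nat.card K) : ∃ p r d, CD t K p r d := by
  have := Fintype.ofFinite K
  obtain ⟨l, m, hl, hm, lt, mt⟩ := h.exists_lin hk
  have hτ : (⟨t, h.tK⟩ : K) ≠ 1 := fun a => ne_one_of_ord h.ht (congrArg Subtype.val a)
  have hτ' : (⟨t, h.tK⟩ : K)⁻¹ = ⟨t, h.tK⟩ :=
    Subtype.ext (inv_eq_of_mul_eq_one_right (mul_self_of_ord h.ht))
  have l1 : l ≠ 1 := fun e => hl (by simp [e])
  have m1 : m ≠ 1 := fun e => hm (by simp [e])
  have lm : l ≠ m := fun e => by rw [e, mt, Units.ext_iff] at lt; norm_num at lt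
  have lm' : l ≠ m⁻¹ := fun e => by
    rw [e, MonoidHom.inv_apply, mt, Units.ext_iff] at lt; norm_num at lt
  have lm'' : m ≠ l⁻¹ := fun e => lm' (by simp [e])
  have hi : ∀ a b : K →* ℂˣ, (fun x => (lc a - lc b) x⁻¹) = lc a⁻¹ - lc b⁻¹ := fun a b => by
    ext; simp
  have h0 : ∀ a b : K →* ℂˣ, (lc a - lc b) 1 = 0 := fun a b => by simp
  have hg : ∀ a b : K →* ℂˣ, IsGeneralizedCharacter G (indFun K (lc a - lc b)) := fun a b =>
    ((isIrr_lc a).isGen.sub (isIrr_lc b).isGen).ind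
  set α := indFun K (lc 1 - lc l) with hα
  set β := indFun K (lc l - lc m) with hβ
  have hI : ∀ a b c d : K →* ℂˣ, classInner (indFun K (lc a - lc b)) (indFun K (lc c - lc d)) =
      classInner (lc a - lc b) (lc c - lc d + (lc c⁻¹ - lc d⁻¹)) := fun a b c d => by
    rw [h.inner_ind (h0 a b), hi]
  have hJ : ∀ a b : K →* ℂˣ, classInner (indFun K (lc a - lc b)) (fun _ => 1) =
      classInner (lc a - lc b) (lc 1) := fun a b => frobenius_left K _ (IsClassFunction.const 1)
  simp only [classInner_add_right, classInner_sub_left, classInner_sub_right, classInner_lc] at hI hJ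
  have aa : rip α α = 3 := rip_eq_of_classInner (by
    rw [hI]; simp [l1, l1.symm, hl.symm, eq_comm (a := (1 : K →* ℂˣ))]; norm_num)
  have bb : rip β β = 2 := rip_eq_of_classInner (by
    rw [hI]; simp [hl.symm, hm.symm, lm, lm.symm, lm', lm'']; norm_num)
  have ba : rip β α = -1 := rip_eq_of_classInner (by
    rw [hI]; simp [hl.symm, l1, m1, lm.symm, lm''])
  have a1 : rip α (fun _ => 1) = 1 := rip_eq_one (by rw [hJ]; simp [l1])
  have b1 : rip β (fun _ => 1) = 0 := rip_eq_zero (by rw [hJ]; simp [l1, m1])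
  have o1 := (isIrrCharacter_one (G := G)).rip_self
  have αt : α t = 0 := (h.ind_K _ hτ).trans (by simp [hτ', lt])
  have βt : β t = 4 := (h.ind_K _ hτ).trans (by simp [hτ', lt, mt]; norm_num)
  have hJ0 : ((H).index : ℂ) ≠ 0 := Nat.cast_ne_zero.2 index_ne_zero_of_finite
  have β1 : β 1 = 0 := by rw [hβ, indFun_one, h0, mul_zero]
  obtain ⟨χ, ψ, hχ, hψ, hne, e⟩ := (hg l m).exists_sub_of_norm_two bb β1
  change β = _ at e
  have c1 : χ 1 = ψ 1 := sub_eq_zero.1 (e ▸ β1 :)
  have c2 : χ t - ψ t = 4 := (e ▸ βt :)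
  have c3 : χ t = 2 ∧ ψ t = -2 := by
    have := h.sum_nf_ind (h0 l m)
    rw [← lc_one, classInner_sub_left, classInner_lc, classInner_lc, if_neg l1, if_neg m1, ← hβ,
      e] at this
    simp only [Pi.sub_apply, mul_sub, Finset.sum_sub_distrib, sum_nf_dirr t hχ.isDirr,
      sum_nf_dirr t hψ.isDirr, c1, sub_self] at this
    have h1 := hψ.apply_one_ne_zero
    field_simp at this
    rw [mul_zero, mul_eq_zero, sq_sub_sq, c2] at this
    have h2 := this.resolve_left (pow_ne_zero _ hJ0)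
    exact ⟨by linear_combination h2 / 8 + c2 / 2, by linear_combination h2 / 8 - c2 / 2⟩
  have c4 : rip χ (fun _ => 1) = 0 := hχ.rip_of_ne isIrrCharacter_one fun a => by
    rw [a] at c3; norm_num at c3
  have c5 : rip ψ (fun _ => 1) = 0 := hψ.rip_of_ne isIrrCharacter_one fun a => by
    rw [a] at c3; norm_num at c3
  have g1 := (hg 1 l).sub (isIrrCharacter_one (G := G)).isGen
  obtain ⟨v, hv, v1, v2⟩ := (hg l m).neg.exists_dirr_of_rip_pos g1 (by
    rw [← hα, ← hβ]; simp [ba, b1])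
  rw [← hα] at v2 g1
  rw [← hβ, e] at v1
  have v3 : v t = -2 ∧ rip v (fun _ => 1) = 0 := by
    rcases hv.trichotomy hχ.isDirr with a | a | a
    · rw [a] at v1; simp [hχ.rip_self, hψ.rip_of_ne hχ hne.symm] at v1; linarith
    · rw [a]; simp [c3.1, c4]
    rcases hv.trichotomy hψ.isDirr with b | b | b
    · rw [b]; exact ⟨c3.2, c5⟩
    · rw [b] at v1; simp [hψ.rip_self, hχ.rip_of_ne hψ hne] at v1; linarith
    · simp [rip_comm _ v, rip_eq_zero a, rip_eq_zero b] at v1; linarith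
  have n2 : rip (α - fun _ => 1) (α - fun _ => 1) = 2 := by
    simp [aa, a1, o1, rip_comm (fun _ => 1) α]; norm_num
  have v4 : rip (α - fun _ => 1) v = 1 := by
    rcases hv.rip_mem g1 (by rw [n2]; norm_num) with a | a | a <;> linarith
  have hp : IsDirr G (α - (fun _ => 1) - v) := (g1.sub hv.isGen).isDirr (by
    rw [rip_sub_left, rip_sub_right _ _ v, rip_sub_right v, n2, rip_comm v, v4, hv.rip_self]
    norm_num)
  obtain ⟨d, hd⟩ := hp.isGen.exists_degree
  have α0 : ∀ x, ¬ (x ≠ 1 ∧ InC K x) → α x = 0 := fun x hx => indFun_eq_zero K _ x fun g a => by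
    rw [show (⟨_, a⟩ : K) = 1 from Subtype.ext (by_contra fun b => hx ⟨by simpa using b, g, a⟩), h0]
  refine ⟨_, -v, d, hp, hv.neg, hp.isGen.classInner_eq_zero isIrrCharacter_one.isGen
    (by simp [a1, o1, v3.2]), fun x hx => by simp [α0 x hx, sub_eq_add_neg], hd, ?_⟩
  have e1 := h.sum_nf_ind (h0 1 l)
  have e2 := sum_nf_dirr t hp
  have e3 := sum_nf_dirr t hv
  have e4 := sum_nf_dirr t (isIrrCharacter_one (G := G)).isDirr
  have e5 : v 1 = -(d + 1) := by
    have := α0 1 (by simp)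
    simp only [Pi.sub_apply, this] at hd
    linear_combination -hd
  have e6 := hp.apply_one_ne_zero
  have e7 := hv.apply_one_ne_zero
  rw [← lc_one, classInner_sub_left, classInner_lc, classInner_lc, if_pos rfl, if_neg l1, ← hα,
    h.index_K] at e1
  rw [hd] at e2 e6
  simp only [Pi.sub_apply, mul_sub, Finset.sum_sub_distrib, e1, e3, e4, αt, v3.1, e5] at e2
  rw [e5, neg_ne_zero] at e7
  field_simp at e2
  have : ((H).index : ℂ) * (d - 1) ^ 2 = 2 * Nat.card K ^ 2 * (d * (d + 1)) := by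
    push_cast at e2
    exact mul_left_cancel₀ hJ0 (by linear_combination -e2)
  exact_mod_cast this

theorem card_pair {w : G} (hw : w ∈ H) (hK : w ∉ K) :
    Nat.card (centralizer ({t, w} : Set G)) = 4 := by
  obtain ⟨h1, h2⟩ := h.out hw hK
  have h3 : ∀ y ∈ K, w * y = y * w → y ∈ zpowers t := fun y hy e => by
    have := h2 y hy
    rw [e, mul_inv_cancel_right, eq_inv_iff_mul_eq_one] at this
    by_cases a : y = 1
    · exact a ▸ one_mem _
    · exact h.eq_t hy (ord_of_mul_self this a) ▸ mem_zpowers _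
  rw [← card_four h.ht h1 (fun e => hK (e ▸ h.tK)) (mem_C1.1 hw)]
  congr 3
  refine le_antisymm (fun y hy => ?_) (sup_le (zpowers_le.2 ?_) (zpowers_le.2 ?_))
  · have a := hy t (by simp)
    have b := hy w (by simp)
    by_cases c : y ∈ K
    · exact mem_sup_left (h3 y c b)
    · have d := mul_mem ((h.mem_H.1 (mem_C1.2 a)).resolve_left c)
        (inv_mem ((h.mem_H.1 hw).resolve_left hK))
      rw [mul_inv_rev, mul_assoc, mul_inv_cancel_left] at d
      exact (mul_mem_cancel_right (inv_mem (mem_sup_right (mem_zpowers w)))).1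
        (mem_sup_left (h3 _ d (by rw [← mul_assoc, b]; group)))
  · rintro _ (rfl | rfl)
    · rfl
    · exact (mem_C1.1 hw).symm
  · rintro _ (rfl | rfl)
    · exact mem_C1.1 hw
    · rfl

theorem cd_of_four (hk : Nat.card K = 4) : ∃ p r d, CD t K p r d := by
  obtain ⟨σ, hσ, h1⟩ : ∃ σ ∈ K, σ ∉ zpowers t := by
    by_contra hc
    push Not at hc
    have := card_le_of_le hc
    rw [Nat.card_zpowers, h.ht] at this; omega
  have h2 : σ * σ ≠ 1 := fun e => h1 (by
    by_cases a : σ = 1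
    · exact a ▸ one_mem _
    · exact h.eq_t hσ (ord_of_mul_self e a) ▸ mem_zpowers _)
  have o1 : orderOf σ = 2 ^ (3 - 1) := orderOf_eq_prime_pow (by rwa [pow_one, pow_two])
    (orderOf_dvd_iff_pow_eq_one.1 (by simpa [hk] using orderOf_dvd_natCard K hσ))
  have h3 : zpowers σ = K := eq_of_le_of_card_ge (zpowers_le.2 hσ) (by rw [Nat.card_zpowers, hk, o1]; rfl)
  have e1 : σ ^ 2 ^ (3 - 2) = t := h.eq_t (pow_mem hσ _) (by rw [orderOf_pow, o1]; rfl)
  have h8 : Nat.card H = 2 ^ 3 := by rw [h.card_H, hk]; rfl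
  let S := (sylIn_of_not_dvd le_top (IsPGroup.of_card h8)
    (by simpa using h.not_dvd_index Nat.prime_two (by simp))).toSylowTop
  obtain ⟨M, hM⟩ := Transfer.exists_isPModular Nat.prime_two
  obtain ⟨-, χ₁, χ₂, χ₃, χ', δ, δ₂, δ₃, hδ, -, -, -, a1, -, -, -, -, -, -, a2, a3, a4⟩ :=
    S4481.result M hM 3 le_rfl S (o1 ▸ Solv.nonempty_dihedral_of_gens (h3 ▸ h.sK)
      (h3 ▸ h.sup.symm) (by rw [← h.hs, pow_orderOf_eq_one]) (h.inv σ hσ)) σ (h.le hσ) o1
      Complex.I Complex.isPrimitiveRoot_I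
  have b0 : σ * s ∉ K := fun e => h.sK ((mul_mem_cancel_left hσ).1 e)
  have b0' := mul_mem (h.le hσ) h.sH
  obtain ⟨-, b2⟩ := S4482.result M hM 3 le_rfl S σ s (h.le hσ) h.sH o1 h.hs (h.inv σ hσ) (by
      rw [← Set.singleton_union, Subgroup.closure_union, ← zpowers_eq_closure, ← zpowers_eq_closure, h3]
      exact h.sup)
    (by rw [e1]; exact ⟨h.one _ _ h.ht h.hs, h.one _ _ h.ht (h.out b0' b0).1⟩) χ₁
    (by rw [a2]; simp) a1 δ hδ fun l a b => (a3 l a b).1
  rw [e1, h.card_pair h.sH h.sK, h.card_pair b0' b0, h8, ← (H).index_mul_card, h8] at b2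
  have hδ' : (δ : ℂ) = 1 ∨ (δ : ℂ) = -1 := by rcases hδ with rfl | rfl <;> simp
  refine ⟨(δ : ℂ) • χ₁.1, (δ : ℂ) • (χ' ⟨0, by norm_num⟩).1, δ * charDegree χ₁.1,
    χ₁.2.isDirr.sign_smul hδ', (χ' _).2.isDirr.sign_smul hδ', by
      rw [classInner_smul_left, χ₁.2.classInner_of_ne isIrrCharacter_one a1, mul_zero],
    fun x hx => (a4 x ?_ _).2, by simp [Blk.cast_deg], ?_⟩
  · by_cases e : x = 1
    · simp [e]
    · exact odd_orderOf_of_mem (h.odd_cent fun a => hx ⟨e, a⟩) (mem_C1.2 rfl)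
  · have : (((H).index : ℤ) : ℚ) * ((δ * charDegree χ₁.1 : ℤ) - 1) ^ 2 =
        2 * (4 : ℕ) ^ 2 * ((δ * charDegree χ₁.1 : ℤ) * ((δ * charDegree χ₁.1 : ℤ) + 1)) := by
      rcases hδ with rfl | rfl <;> push_cast at b2 ⊢ <;> linarith
    rw [hk]
    exact_mod_cast this

end BSW

end Cfsg.Agent.Ez
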