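import Cfsg.Agent.Lib.Ez.A7
import Cfsg.Agent.Lib.Char.Codeg

set_option autoImplicit false

namespace Cfsg.Agent.Ez

open Subgroup Cfsg.Agent.Comp Cfsg.Agent.Char Finset
open scoped commutatorElement Pointwise ComplexConjugate

universe u
variable {G : Type u} [Group G] [Fintype G]

open _root_.Classical in
/-- Elements outside the conjugates of `K` of order prime to `m`. -/
noncomputable def T1 (K : Subgroup G) (m : ℕ) : Finset G :=
  univ.filter fun x => ¬ InC K x ∧ (orderOf x).Coprime m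

open _root_.Classical in
/-- Elements outside the conjugates of `K` of order not prime to `m`. -/
noncomputable def T2 (K : Subgroup G) (m : ℕ) : Finset G :=
  univ.filter fun x => ¬ InC K x ∧ ¬ (orderOf x).Coprime m

theorem mem_T1 {K : Subgroup G} {m : ℕ} {x : G} :
    x ∈ T1 K m ↔ ¬ InC K x ∧ (orderOf x).Coprime m := by simp [T1]

theorem mem_T2 {K : Subgroup G} {m : ℕ} {x : G} :
    x ∈ T2 K m ↔ ¬ InC K x ∧ ¬ (orderOf x).Coprime m := by simp [T2]

/-- Numerical data in the Brauer--Suzuki--Wall situation. -/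
structure ND (t : G) (K : Subgroup G) (q m : ℕ) : Prop where
  qm : q = 2 * Nat.card K + 1 ∧ m = Nat.card K + 1 ∨ q + 1 = 2 * Nat.card K ∧ m + 1 = Nat.card K
  idx : (centralizer ({t} : Set G)).index = q * m
  dich : ∀ x, ¬ InC K x → (orderOf x).Coprime q ∨ (orderOf x).Coprime m
  n1 : (T1 K m).card + 1 = q ^ 2

theorem dirr_eq_zero {p : G → ℂ} (hp : IsDirr G p) {c n n' : ℕ} (h1 : p 1 = n ∨ p 1 = -n)
    (hc : c * n = Nat.card G) (hcn : c.Coprime n') {x : G} (hx : ¬ (orderOf x).Coprime n') :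
    p x = 0 := by
  obtain ⟨ε, hε, χ, hχ, rfl⟩ := hp.exists_eq_sign
  obtain ⟨l, hl, a, b⟩ := Nat.Prime.not_coprime_iff_dvd.1 hx
  have h2 : charDegree χ = n := by
    rw [Pi.smul_apply, smul_eq_mul, ← hχ.isCharacter.cast_charDegree] at h1
    have := hχ.charDegree_pos
    have h3 : (charDegree χ : ℤ) = n ∨ (charDegree χ : ℤ) = -n := by
      rcases hε with rfl | rfl
      · exact_mod_cast (by simpa using h1 : (charDegree χ : ℂ) = n ∨ (charDegree χ : ℂ) = -n)
      · exact_mod_cast (by simpa [neg_eq_iff_eq_neg, or_comm] using h1 :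
          (charDegree χ : ℂ) = n ∨ (charDegree χ : ℂ) = -n)
    omega
  rw [Pi.smul_apply, eq_zero_of_not_dvd_codeg hχ (h2 ▸ hc) hl
    (fun e => hl.one_lt.ne' (Nat.eq_one_of_dvd_coprimes hcn e b)) a, smul_zero]

namespace BSW

variable {t s : G} {K : Subgroup G} (h : BSW t s K)
include h

set_option quotPrecheck false in
local notation "H" => centralizer ({t} : Set G)

open _root_.Classical in
theorem sum_split (m : ℕ) {F : G → ℂ} (hF : IsClassFunction G F) : ∑ g, F g =
    F 1 + (H).index * ∑ g with g ≠ 1 ∧ g ∈ K, F g + ∑ g ∈ T1 K m, F g + ∑ g ∈ T2 K m, F g := by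
  rw [← sum_TI h.le h.HN (fun x a b g => h.mem_of_conj a b) hF, T1, T2, sum_filter, sum_filter,
    sum_filter, ← Fintype.sum_ite_eq' 1 F, ← sum_add_distrib, ← sum_add_distrib, ← sum_add_distrib]
  refine sum_congr rfl fun g _ => ?_
  by_cases a : g = 1
  · simp [a, InC.of_mem K.one_mem]
  · by_cases b : InC K g <;> by_cases c : (orderOf g).Coprime m <;> simp [a, b, c]

theorem card_G {q m : ℕ} (hi : (H).index = q * m) : Nat.card G = 2 * Nat.card K * (q * m) := by
  rw [← h.card_H, ← hi, card_mul_index]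

theorem not_coprime {q m : ℕ} (hi : (H).index = q * m) {x : G} (hx : x ∈ T1 K m) :
    ¬ (orderOf x).Coprime q := fun e => by
  obtain ⟨a, b⟩ := mem_T1.1 hx
  have := (((h.coprime_cent a).coprime_dvd_left (orderOf_dvd_natCard _ (mem_C1.2 rfl))).mul_right
    (e.mul_right b)).eq_one_of_dvd (h.card_G hi ▸ orderOf_dvd_natCard x)
  exact a (orderOf_eq_one_iff.1 this ▸ InC.of_mem K.one_mem)

theorem nd_of_cd {p r : G → ℂ} {d : ℤ} (c : CD t K p r d) : ∃ q m, ND t K q m := by
  classical
  have hk : 0 < Nat.card K := Nat.card_pos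
  have h1 := c.ord
  obtain ⟨e, he⟩ : (2 * Nat.card K : ℤ) ∣ d - 1 := by
    obtain ⟨n, hn⟩ := Int.even_mul_succ_self d
    refine (Int.pow_dvd_pow_iff two_ne_zero).1 (IsCoprime.dvd_of_dvd_mul_left
      (y := ((H).index : ℤ)) ?_ ⟨n, by rw [h1, hn]; ring⟩)
    exact_mod_cast Nat.isCoprime_iff_coprime.2 (h.coprime_index.symm.pow_left 2)
  obtain rfl : d = 1 + 2 * Nat.card K * e := by linarith
  have h2 : ((H).index : ℤ) * e ^ 2 = (1 + 2 * Nat.card K * e) * (1 + Nat.card K * e) :=
    mul_left_cancel₀ (a := (4 * Nat.card K ^ 2 : ℤ)) (by positivity) (by linear_combination h1)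
  have h3 : e = 1 ∨ e = -1 := Int.isUnit_iff.1 (isUnit_of_dvd_one
    ⟨(H).index * e - 3 * Nat.card K - 2 * Nat.card K ^ 2 * e, by linear_combination -h2⟩)
  obtain ⟨q, m, hqm, hd1, hd2⟩ : ∃ q m : ℕ, (q = 2 * Nat.card K + 1 ∧ m = Nat.card K + 1 ∨
      q + 1 = 2 * Nat.card K ∧ m + 1 = Nat.card K) ∧ 1 + 2 * Nat.card K * e = e * q ∧
      1 + Nat.card K * e = e * m := by
    rcases h3 with rfl | rfl
    · exact ⟨_, _, .inl ⟨rfl, rfl⟩, by push_cast; ring, by push_cast; ring⟩
    · exact ⟨2 * Nat.card K - 1, Nat.card K - 1, .inr ⟨by omega, by omega⟩, by omega, by omega⟩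
  have hi : (H).index = q * m := by
    rw [hd1, hd2] at h2
    have : ((H).index : ℤ) = q * m := by rcases h3 with rfl | rfl <;> linarith
    exact_mod_cast this
  have hG := h.card_G hi
  have c1 := hi ▸ h.coprime_index
  have c2 : q.Coprime m := by
    rcases hqm with ⟨a, b⟩ | ⟨a, b⟩
    · exact Nat.coprime_of_dvd fun l hl a' b' => hl.one_lt.ne' (Nat.dvd_one.1
        ((Nat.dvd_add_right a').1 (show q + 1 = m * 2 by omega ▸ b'.mul_right 2)))
    · exact Nat.coprime_of_dvd fun l hl a' b' => hl.one_lt.ne' (Nat.dvd_one.1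
        ((Nat.dvd_add_right (b'.mul_right 2)).1 (show q = m * 2 + 1 by omega ▸ a')))
  have p0 : ∀ x, ¬ (orderOf x).Coprime q → p x = 0 := fun x => dirr_eq_zero c.hp
    (c := 2 * Nat.card K * m) (n := q) (by rw [c.hd, hd1]; rcases h3 with rfl | rfl <;> simp)
    (by rw [hG]; ring) (c1.coprime_mul_right.symm.mul_left c2.symm)
  have p1 : ∀ x, ¬ InC K x → ¬ (orderOf x).Coprime m → p x = -1 := fun x a b => by
    have b1 := c.out x fun e => a e.2
    have b2 := c.out 1 (by simp)
    rw [dirr_eq_zero c.hr (c := q * Nat.card K) (n := 2 * m) ?_ (by rw [hG]; ring)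
      (c2.mul_left c1.coprime_mul_left.coprime_mul_left_right.symm) b] at b1
    · linear_combination b1
    · have : ((1 + Nat.card K * e : ℤ) : ℂ) = (e * m : ℤ) := by rw [hd2]
      rw [← b2, c.hd]
      rcases h3 with rfl | rfl <;> push_cast at this ⊢
      · exact .inl (by linear_combination 2 * this)
      · exact .inr (by linear_combination 2 * this)
  refine ⟨q, m, hqm, hi, fun x hx => by_contra fun a => ?_, ?_⟩
  · rw [not_or] at a
    have := (p0 x a.1).symm.trans (p1 x hx a.2)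
    norm_num at this
  have s1 := h.sum_split m c.hp.isClassFunction
  have s2 := h.sum_split m (c.hp.isClassFunction.map fun z => z * conj z)
  have s3 := h.sum_split m (IsClassFunction.const 1)
  have t1 : ∀ x ∈ T1 K m, p x = 0 := fun x hx => p0 x (h.not_coprime hi hx)
  have t2 : ∀ x ∈ T2 K m, p x = -1 := fun x hx => p1 x (mem_T2.1 hx).1 (mem_T2.1 hx).2
  have u1 : ∑ g, p g = 0 := by
    have := c.p1
    rwa [classInner_one_right, mul_eq_zero, inv_eq_zero, or_iff_right (card_ne_zero' G)] at this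
  have u2 : ∑ g, p g * conj (p g) = Nat.card G := by
    have := c.hp.classInner_self
    rwa [classInner, inv_mul_eq_one₀ (card_ne_zero' G), eq_comm] at this
  rw [u1, sum_eq_zero t1, sum_congr rfl t2] at s1
  rw [u2, sum_eq_zero (s := T1 K m) fun x hx => by rw [t1 x hx, zero_mul],
    sum_congr (s₁ := T2 K m) rfl fun x hx => show p x * conj (p x) = 1 by rw [t2 x hx]; simp] at s2
  have := Fintype.ofFinite K
  obtain ⟨n, hn⟩ := (c.hp.isGen.res K).rip_eq_int (isIrrCharacter_one (G := K)).isGen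
  have u3 : p 1 + ∑ g with g ≠ 1 ∧ g ∈ K, p g = Nat.card K * n := by
    have := (c.hp.isGen.res K).classInner_eq_rip (isIrrCharacter_one (G := K)).isGen
    rw [hn, classInner_one_right, inv_mul_eq_iff_eq_mul₀ (card_ne_zero' K)] at this
    rw [← Complex.ofReal_intCast, ← this, ← sum_subtype (univ.filter (· ∈ K)) (by simp) p,
      ← add_sum_erase _ _ (show 1 ∈ univ.filter (· ∈ K) by simp)]
    congr 2; ext; simp
  have u4 := card_filter_ne_mem K
  have u5 : 0 ≤ (∑ g with g ≠ 1 ∧ g ∈ K, (p g - 1) * conj (p g - 1)).re := by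
    rw [Complex.re_sum]
    exact sum_nonneg fun g _ => by rw [Complex.mul_conj, Complex.ofReal_re]; exact Complex.normSq_nonneg _
  simp only [map_sub, map_one, mul_sub, sub_mul, sum_sub_distrib, mul_one, one_mul, ← map_sum] at u5
  simp only [sum_const, nsmul_eq_mul, mul_one, card_univ, ← Nat.card_eq_fintype_card] at s1 s2 s3 u5
  rw [c.hd] at s1 s2 u3
  rw [hi] at s1 s2 s3
  rw [hG] at s2 s3
  generalize ∑ g with g ≠ 1 ∧ g ∈ K, p g * conj (p g) = S₂ at *
  generalize ∑ g with g ≠ 1 ∧ g ∈ K, p g = S₁ at *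
  generalize (univ.filter fun g => g ≠ 1 ∧ g ∈ K).card = k' at *
  generalize (T1 K m).card = N₁ at *
  generalize (T2 K m).card = N₂ at *
  generalize Nat.card K = k at *
  have v1 : S₁ = (k * n - (1 + 2 * k * e) : ℤ) := by push_cast at u3 ⊢; linear_combination u3
  subst v1
  have v2 : (N₂ : ℤ) = 1 + 2 * k * e + q * m * (k * n - (1 + 2 * k * e)) := by
    have : (N₂ : ℂ) = (1 + 2 * k * e + q * m * (k * n - (1 + 2 * k * e)) : ℤ) := by
      push_cast at s1 ⊢; linear_combination s1
    exact_mod_cast this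
  have v3 : (2 * k * (q * m) : ℤ) = 1 + q * m * k' + N₁ + N₂ := by exact_mod_cast s3
  have v4 : (0 : ℤ) ≤ 2 * k * (q * m) - (1 + 2 * k * e) ^ 2 - N₂ -
      2 * (q * m) * (k * n - (1 + 2 * k * e)) + q * m * k' := by
    have a := congrArg Complex.re s2
    have b := mul_nonneg (Nat.cast_nonneg (α := ℝ) (q * m)) u5
    simp only [map_intCast, Complex.add_re, Complex.sub_re, Complex.mul_re, Complex.natCast_re,
      Complex.natCast_im, Complex.intCast_re, Complex.intCast_im, zero_mul, sub_zero, mul_zero,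
      add_zero] at a b
    have : (0 : ℝ) ≤ (2 * k * (q * m) - (1 + 2 * k * e) ^ 2 - N₂ -
      2 * (q * m) * (k * n - (1 + 2 * k * e)) + q * m * k' : ℤ) := by
      push_cast at a b ⊢; linarith
    exact_mod_cast this
  have v5 : (1 + 2 * k * e : ℤ) ^ 2 + (1 + 2 * k * e) = 2 * (q * m) := by
    rcases h3 with rfl | rfl <;> nlinarith
  have v6 : (k' : ℤ) = k - 1 := by omega
  have v7 : (0 : ℤ) < q * m := by exact_mod_cast hi ▸ Nat.pos_of_ne_zero index_ne_zero_of_finite
  have v8 : 1 + 2 * k * e < (q * m : ℤ) := by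
    rcases h3 with rfl | rfl
    · have : (2 : ℤ) ≤ m := by omega
      nlinarith
    · omega
  have v9 : n = 2 * e + 1 := by
    have a : k * n - (1 + 2 * k * e) ≤ k - 1 := le_of_mul_le_mul_left (by nlinarith) v7
    have b : -1 < k * n - (1 + 2 * k * e) := lt_of_mul_lt_mul_left (a := (q * m : ℤ)) (by nlinarith) v7.le
    have c : n - 2 * e ≤ 1 := le_of_mul_le_mul_left (a := (k : ℤ)) (by linarith) (by omega)
    have d : 0 < n - 2 * e := lt_of_mul_lt_mul_left (a := (k : ℤ)) (by linarith) (by omega)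
    omega
  have : (N₁ : ℤ) + 1 = q ^ 2 := by
    have : (1 + 2 * k * e : ℤ) ^ 2 = q ^ 2 := by rw [hd1]; rcases h3 with rfl | rfl <;> ring
    rw [v9] at v2
    rw [v6] at v3
    linarith
  exact_mod_cast this

end BSW

end Cfsg.Agent.Ez
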