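import Cfsg.Agent.Lib.Ez.A8
import Cfsg.Agent.Lib.FT.Final

set_option autoImplicit false

namespace Cfsg.Agent.Ez

open Subgroup Cfsg.Agent.Comp Cfsg.Agent.Char Finset
open scoped commutatorElement Pointwise

universe u
variable {G : Type u} [Group G]

/-- A trivial intersection subgroup inverted by an involution, with generalized dihedral
normalizer. -/
structure Dih (A : Subgroup G) (u : G) : Prop where
  hu : orderOf u = 2
  nm : u ∉ A
  inv : ∀ a ∈ A, u * a * u⁻¹ = a⁻¹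
  ti : ∀ y ∈ A, y ≠ 1 → ∀ g, g * y * g⁻¹ ∈ A → g ∈ A ⊔ zpowers u

namespace Dih

variable {A : Subgroup G} {u : G} (h : Dih A u)
include h

theorem comm {x y : G} (hx : x ∈ A) (hy : y ∈ A) : x * y = y * x := by
  have h1 := h.inv _ (mul_mem hx hy)
  rw [← conj_mul, h.inv x hx, h.inv y hy, ← mul_inv_rev] at h1
  exact (inv_injective h1).symm

theorem ab : IsMulCommutative A := ⟨⟨fun a b => Subtype.ext (h.comm a.2 b.2)⟩⟩

theorem conj (g : G) : Dih cj(g, A) (g * u * g⁻¹) := by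
  refine ⟨by rw [ord_conj, h.hu], fun e => h.nm (conj_mem_cj.1 e), ?_, ?_⟩
  · rintro _ ⟨a, ha, rfl⟩
    simp only [MulEquiv.coe_toMonoidHom, MulAut.conj_apply]
    rw [conj_inv (a := a), ← h.inv a ha]; group
  · rintro _ ⟨y, hy, rfl⟩ h1 c hc
    have := h.ti y hy (fun e => h1 (by simp [e])) (g⁻¹ * c * g) (by
      simpa [mul_assoc] using mem_cj.1 hc)
    rw [← cj_zpowers, ← cj_sup]
    exact mem_cj.2 this

variable [Finite G]

theorem le_nm {X : Subgroup G} (hX : X ≤ A) : A ⊔ zpowers u ≤ normalizer (X : Set G) :=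
  sup_le (fun a ha => mem_normalizer_of_conj_mem fun x hx => by
    rwa [h.comm ha (hX hx), mul_inv_cancel_right])
    (zpowers_le.2 (mem_normalizer_of_conj_mem fun x hx => h.inv x (hX hx) ▸ inv_mem hx))

theorem nm_eq {X : Subgroup G} (hX : X ≤ A) (h1 : X ≠ ⊥) :
    normalizer (X : Set G) = A ⊔ zpowers u := by
  obtain ⟨y, hy, h2⟩ := X.bot_or_exists_ne_one.resolve_left h1
  exact le_antisymm (fun g hg => h.ti y (hX hy) h2 g (hX (conj_mem_of_mem_normalizer hg hy)))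
    (h.le_nm hX)

theorem mem_of_odd {w : G} (hw : w ∈ A ⊔ zpowers u) (ho : Odd (orderOf w)) : w ∈ A := by
  obtain ⟨a, ha, b, hb, rfl⟩ := (mem_sup_of_le_normalizer' (le_sup_right.trans (h.le_nm le_rfl))).1 hw
  have h2 := mul_self_of_ord h.hu
  rcases (Transfer.mem_zpowers_iff_of_sq h2).1 hb with rfl | rfl
  · simpa using ha
  have : (a * b) ^ 2 = 1 := by
    calc (a * b) ^ 2 = a * (b * a * b⁻¹) * (b * b) := by rw [pow_two]; group
      _ = 1 := by rw [h.inv a ha, h2]; group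
  rw [orderOf_eq_one_iff.1 ((Nat.coprime_two_right.2 ho).eq_one_of_dvd
    (orderOf_dvd_of_pow_eq_one this))]
  exact one_mem _

theorem concl (X : Subgroup G) (hX : X ≤ A) (h1 : X ≠ ⊥) :
    normalizer (X : Set G) = normalizer (A : Set G) ∧ ∃ u : G, orderOf u = 2 ∧ u ∉ A ∧
      (∀ d ∈ A, u * d * u⁻¹ = d⁻¹) ∧ normalizer (A : Set G) = A ⊔ zpowers u :=
  have h2 := h.nm_eq le_rfl fun e => h1 (le_bot_iff.1 (e ▸ hX))
  ⟨(h.nm_eq hX h1).trans h2.symm, u, h.hu, h.nm, h.inv, h2⟩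

end Dih

theorem exists_dih_sup [Finite G] {p : ℕ} [Fact p.Prime] {P : Subgroup G → Prop}
    (hc : ∀ z : G, (orderOf z).Prime → orderOf z ≠ p → ∃ A u, Dih A u ∧ z ∈ A ∧ P A)
    {N V : Subgroup G} (ho : Odd (Nat.card N)) (lt : V < N) (hn : N ≤ normalizer (V : Set G))
    (hm : ∀ R ≤ N, IsPGroup p R → N ≤ normalizer ((V ⊔ R : Subgroup G) : Set G) → R ≤ V) :
    ∃ A, P A ∧ V ⊔ N ⊓ A = N := by
  obtain ⟨r, hr, R, h1, h2, h3, h4, h5⟩ := exists_frattini_over (PF.odd_solvable ho) lt hn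
  have := Fact.mk hr
  have h6 : R ≠ ⊥ := fun e => h3 (e ▸ bot_le)
  obtain ⟨z, hz, rfl, h7⟩ := exists_central_orderOf h1 h6
  obtain ⟨A, u, hA, hzA, hP⟩ := hc z hr fun e => h3 (hm R h2 (e ▸ h1) h4)
  have h8 : R ≤ A := fun w hw => hA.mem_of_odd (hA.ti z hzA (fun e => hr.one_lt.ne' (by simp [e])) w
    (by rwa [← mem_C1.1 (h7 hw), mul_inv_cancel_right])) (odd_orderOf_of_mem ho (h2 hw))
  refine ⟨A, hP, le_antisymm (sup_le lt.le inf_le_left) (h5.ge.trans (sup_le_sup_left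
    (fun w hw => ⟨hw.1, hA.mem_of_odd ((hA.nm_eq h8 h6).le hw.2) (odd_orderOf_of_mem ho hw.1)⟩) _))⟩

theorem sylIn_unique [Finite G] {p : ℕ} [hp : Fact p.Prime]
    (hc : ∀ z : G, (orderOf z).Prime → orderOf z ≠ p → ∃ A u, Dih A u ∧ z ∈ A ∧ ¬ p ∣ Nat.card A)
    (ho : ∀ U : Subgroup G, U ≠ ⊥ → IsPGroup p U → Odd (Nat.card (normalizer (U : Set G))))
    (U : Subgroup G) : U ≠ ⊥ → ∀ P Q, SylIn p P ⊤ → SylIn p Q ⊤ → U ≤ P → U ≤ Q → P = Q := by
  induction U using subgroup_induction_gt with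
  | h U ih =>
    intro h1 P Q sP sQ hP hQ
    set N := normalizer (U : Set G)
    have h2 : N ≤ normalizer (Op p N : Set G) := le_normalizer_Op_of_le le_rfl
    have h3 : SylIn p (Op p N) N := by
      rcases (Op_le p N).eq_or_lt with e | lt
      · exact ⟨e.le, isPGroup_Op p N, fun Q _ a b => le_antisymm (b.trans e.ge) a⟩
      obtain ⟨A, hA, e⟩ := exists_dih_sup hc (ho U h1 (sP.isP.to_le hP)) lt h2 fun R a b c =>
        le_sup_right.trans (le_Op (sup_le lt.le a) c (isPGroup_sup' (a.trans h2) (isPGroup_Op p N) b))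
      refine sylIn_of_not_dvd lt.le (isPGroup_Op p N) fun d => hA (d.trans ?_)
      exact (e ▸ relIndex_sup_dvd_card' (inf_le_left.trans h2) :).trans (card_dvd_of_le inf_le_right)
    obtain ⟨R, hR, sR⟩ := exists_sylIn_ge (isPGroup_Op p N) le_top
    have key : ∀ P, SylIn p P ⊤ → U < P → P = R := fun P sP hP => by
      have h4 := lt_inf_normalizer_of_isPGroup sP.isP hP
      exact ih _ h4 (ne_bot_of_gt h4) P R sP sR inf_le_left ((h3.le_of_normalizer
        (sP.isP.to_le inf_le_left) inf_le_right (inf_le_right.trans h2)).trans hR)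
    rcases hP.eq_or_lt with rfl | e
    · exact sP.eq_of_le sQ hQ
    rcases hQ.eq_or_lt with rfl | e'
    · exact (sQ.eq_of_le sP hP).symm
    exact (key P sP e).trans (key Q sQ e').symm

theorem sr_of_isConj_inv [Finite G] {x : G} (h1 : x ≠ 1)
    (ho : Odd (Nat.card (centralizer ({x} : Set G)))) (h : IsConj x x⁻¹) : SR x := by
  obtain ⟨g, hg⟩ := isConj_iff.1 h
  have h2 : g * g ∈ centralizer ({x} : Set G) := mem_C1.2 (by
    calc x * (g * g) = (g * x * g⁻¹)⁻¹ * g * g := by rw [hg]; group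
      _ = g * x⁻¹ * g := by group
      _ = _ := by rw [← hg]; group)
  obtain ⟨n, hn⟩ := odd_orderOf_of_mem ho h2
  have h3 : (g * g) ^ n ∈ centralizer ({x} : Set G) := pow_mem h2 n
  have h4 : (g * (g * g) ^ n) * x * (g * (g * g) ^ n)⁻¹ = x⁻¹ := by
    rw [← hg, mul_assoc g, ← mem_C1.1 h3]; group
  refine ⟨_, ord_of_mul_self ?_ fun e => h1 ?_, h4⟩
  · rw [← pow_orderOf_eq_one (g * g), hn, ← pow_two g]; group
  · rw [e] at h4
    exact sq_inj_of_odd (odd_orderOf_of_mem ho (mem_C1.2 rfl)) (by simp)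
      (by simpa [← eq_inv_iff_mul_eq_one] using h4)

namespace BSW

variable [Fintype G] {t s : G} {K : Subgroup G} (h : BSW t s K) {q m : ℕ} {x y : G}
include h

set_option quotPrecheck false in
local notation "H" => centralizer ({t} : Set G)

theorem dih : Dih K s := ⟨h.hs, h.sK, h.inv, fun _ a b _ c => h.sup ▸ h.mem_of_conj a b c⟩

theorem cent_cop {a b : ℕ} (hd : ∀ x, ¬ InC K x → (orderOf x).Coprime a ∨ (orderOf x).Coprime b)
    (hx : ¬ InC K x) (h1 : ¬ (orderOf x).Coprime a) :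
    (Nat.card (centralizer ({x} : Set G))).Coprime b :=
  Nat.coprime_of_dvd fun r hr c d => by
    have := Fact.mk hr
    obtain ⟨y, hy, rfl⟩ := exists_mem_orderOf_eq c
    have h2 := Commute.orderOf_mul_eq_mul_orderOf_of_coprime (mem_C1.1 hy)
      (((hd x hx).resolve_left h1).coprime_dvd_right d)
    have h3 : ¬ InC K (x * y) := fun e => hx (h.inC_of_comm e (fun e => hr.one_lt.ne'
      (Nat.eq_one_of_mul_eq_one_left (by rw [← h2, e, orderOf_one]))) (by
        rw [mul_assoc, ← mem_C1.1 hy]))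
    rcases hd _ h3 with e | e <;> rw [h2] at e
    · exact h1 e.coprime_mul_right
    · exact hr.one_lt.ne' (e.coprime_mul_left.eq_one_of_dvd d)

theorem cent_dvd (n : ND t K q m) (hx : ¬ InC K x) :
    Nat.card (centralizer ({x} : Set G)) ∣ q * m :=
  (h.coprime_cent hx).dvd_of_dvd_mul_left (h.card_G n.idx ▸ card_subgroup_dvd_card _)

theorem cent_T1 (n : ND t K q m) (hx : x ∈ T1 K m) : Nat.card (centralizer ({x} : Set G)) ∣ q :=
  (h.cent_cop n.dich (mem_T1.1 hx).1 (h.not_coprime n.idx hx)).dvd_of_dvd_mul_right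
    (h.cent_dvd n (mem_T1.1 hx).1)

theorem cent_T2 (n : ND t K q m) (hx : x ∈ T2 K m) : Nat.card (centralizer ({x} : Set G)) ∣ m :=
  (h.cent_cop (fun x a => (n.dich x a).symm) (mem_T2.1 hx).1 (mem_T2.1 hx).2).dvd_of_dvd_mul_left
    (h.cent_dvd n (mem_T2.1 hx).1)

theorem mem_T1_of (n : ND t K q m) (hx : x ∈ T1 K m) (hy : y ∈ centralizer {x}) (h1 : y ≠ 1) :
    y ∈ T1 K m :=
  mem_T1.2 ⟨fun e => (mem_T1.1 hx).1 (h.inC_of_comm e h1 (mem_C1.1 hy)),
    (h.cent_cop n.dich (mem_T1.1 hx).1 (h.not_coprime n.idx hx)).coprime_dvd_left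
      (orderOf_dvd_natCard _ hy)⟩

theorem ti_cent (hx : ¬ InC K x) (hr : SR x) : ∀ y ∈ centralizer ({x} : Set G), y ≠ 1 → ∀ g,
    g * y * g⁻¹ ∈ centralizer ({x} : Set G) →
      g ∈ normalizer (centralizer ({x} : Set G) : Set G) := fun y hy h1 g hg =>
  cj_eq_self_iff.1 (by rw [← (h.cent_eq hx hr hy h1).2.2, cj_centralizer_singleton,
    (h.cent_eq hx hr hg (by simpa using h1)).2.2, (h.cent_eq hx hr hy h1).2.2])

theorem nm_cent (hx : ¬ InC K x) (hi : t * x * t⁻¹ = x⁻¹) :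
    ∃ E ≤ K, t ∈ E ∧ centralizer {x} ⊓ E = ⊥ ∧
      normalizer (centralizer ({x} : Set G) : Set G) = centralizer {x} ⊔ E ∧
      Nat.card E ∣ Nat.card (centralizer ({x} : Set G)) - 1 := by
  set A := centralizer ({x} : Set G)
  have h1 : A ⊓ H = ⊥ := eq_bot_of_coprime (h.card_H ▸ h.coprime_cent hx)
  have h2 : t ∈ normalizer (A : Set G) := mem_normalizer_of_conj_mem fun y hy =>
    h.inverts_cent hx h.ht hi hy ▸ inv_mem hy
  have h3 : ∀ w, orderOf w = 2 → w ∈ normalizer (A : Set G) → w * t ∈ A := fun w a b => mem_C1.2 (by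
    have := h.inverts (h.coprime_cent hx) a b (inv_mem (mem_C1.2 rfl))
    rw [inv_inv, ← hi] at this
    nth_rw 1 [← this]; group)
  refine ⟨normalizer (A : Set G) ⊓ K, inf_le_right, ⟨h2, h.tK⟩, le_bot_iff.1
    (h1 ▸ inf_le_inf_left _ (inf_le_right.trans h.le)), le_antisymm (fun g hg => ?_)
    (sup_le le_normalizer inf_le_left), Solv.card_dvd_sub_one_of_fpf inf_le_left fun e he h4 =>
      (eq_bot_iff_forall _).2 fun a ha => by_contra fun h5 => (h.cent_eq hx ⟨t, h.ht, hi⟩ ha.1 h5).1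
        (h.inC_of_comm (.of_mem he.2) h4 (mem_C1.1 ha.2).symm)⟩
  have h4 : orderOf (g * t * g⁻¹) = 2 := by rw [ord_conj, h.ht]
  have h5 := h3 _ h4 (mul_mem (mul_mem hg h2) (inv_mem hg))
  obtain ⟨c, hc, e⟩ := Transfer.exists_conj_of_odd' (mul_self_of_ord h4) (mul_self_of_ord h.ht)
    (odd_orderOf_of_mem (h.odd_cent hx) h5)
  have h6 : c ∈ A := zpowers_le.2 h5 hc
  have h7 : c * g ∈ normalizer (A : Set G) := mul_mem (le_normalizer h6) hg
  have h8 : c * g ∈ H := mem_C1.2 (by nth_rw 1 [← e]; group)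
  refine (mul_mem_cancel_left (mem_sup_left h6)).1 (mem_sup_right ⟨h7, by_contra fun a => a ?_⟩)
  have := mem_bot.1 (h1.le ⟨h3 _ (h.out h8 a).1 h7, mul_mem h8 (h.le h.tK)⟩)
  rw [eq_inv_of_mul_eq_one_left this]
  exact K.inv_mem h.tK

theorem card_T2 (n : ND t K q m) : (T2 K m).card + q ^ 2 = q * m * (Nat.card K + 1) := by
  classical
  have a := h.sum_split m (IsClassFunction.const 1)
  simp only [sum_const, nsmul_eq_mul, mul_one, card_univ, ← Nat.card_eq_fintype_card] at a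
  rw [h.card_G n.idx, n.idx, ← card_filter_ne_mem K] at a
  rw [← n.n1, ← card_filter_ne_mem K]
  have : 2 * ((univ.filter fun g => g ≠ 1 ∧ g ∈ K).card + 1) * (q * m) = 1 + q * m *
    (univ.filter fun g => g ≠ 1 ∧ g ∈ K).card + (T1 K m).card + (T2 K m).card := by exact_mod_cast a
  linarith

theorem sum_nf_T (n : ND t K q m) : ∑ g ∈ T1 K m, nf t g + ∑ g ∈ T2 K m, nf t g +
    q * m * (Nat.card K ^ 2 + 1) = q * m * (q * m + Nat.card K) := by
  classical
  have a := h.sum_split m (F := fun g => nf t g) fun a b => by simp only [nf_conj]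
  rw [sum_congr (s₁ := univ.filter fun g => g ≠ 1 ∧ g ∈ K) rfl fun g hg => congrArg Nat.cast
    (h.nf_K (mem_filter.1 hg).2.2 (mem_filter.1 hg).2.1)] at a
  simp only [sum_const, nsmul_eq_mul, nf_one h.ht] at a
  have b := sum_nf t
  have c := card_filter_ne_mem K
  rw [n.idx] at a b
  generalize (univ.filter fun g => g ≠ 1 ∧ g ∈ K).card = k' at *
  rw [← c] at a ⊢
  have : ∑ g, nf t g = q * m + q * m * (k' * (k' + 1)) + ∑ g ∈ T1 K m, nf t g +
    ∑ g ∈ T2 K m, nf t g := by exact_mod_cast a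
  linarith

theorem qm_pos (n : ND t K q m) : 0 < q * m := n.idx ▸ Nat.pos_of_ne_zero index_ne_zero_of_finite

theorem nf_T2 (n : ND t K q m) (hx : x ∈ T2 K m) : nf t x ≤ m :=
  h.nf_le.trans (Nat.le_of_dvd (Nat.pos_of_mul_pos_left (h.qm_pos n)) (h.cent_T2 n hx))

theorem one_lt_cent (hx : ¬ InC K x) : 1 < Nat.card (centralizer ({x} : Set G)) :=
  one_lt_card_iff_ne_bot _ |>.2 fun e => hx (mem_bot.1 (e.le (mem_C1.2 rfl)) ▸ .of_mem K.one_mem)

theorem sr_T1 (n : ND t K q m) (hx : x ∈ T1 K m) (hi : t * x * t⁻¹ = x⁻¹) :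
    Nat.card (centralizer ({x} : Set G)) = q ∧ ∃ E ≤ K, t ∈ E ∧ centralizer {x} ⊓ E = ⊥ ∧
      normalizer (centralizer ({x} : Set G) : Set G) = centralizer {x} ⊔ E ∧
      Nat.card E ∣ q - 1 ∧ q ≤ 2 * Nat.card E + 1 := by
  classical
  have hx' := (mem_T1.1 hx).1
  obtain ⟨E, h1, h2, h3, h4, h5⟩ := h.nm_cent hx' hi
  have c1 := card_TI le_normalizer le_rfl (h.ti_cent hx' ⟨t, h.ht, hi⟩)
  have c2 : (univ.filter fun g => g ≠ 1 ∧ InC (centralizer {x}) g).card ≤ (T1 K m).card :=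
    card_le_card fun y hy => by
      obtain ⟨a, g, b⟩ := (mem_filter.1 hy).2
      simpa [mem_T1, inC_conj, ord_conj] using h.mem_T1_of n hx b (by simpa using a)
  have c3 := (normalizer (centralizer ({x} : Set G) : Set G)).index_mul_card
  rw [h.card_G n.idx] at c3
  nth_rw 2 [h4] at c3
  rw [sup_comm, Solv.card_sup_of_disjoint (le_sup_right.trans h4.ge) (inf_comm E _ ▸ h3)] at c3
  have c4 := h.one_lt_cent hx'
  have c5 := n.n1
  have c6 := h.cent_T1 n hx
  have c7 := h.qm_pos n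
  have c8 : 0 < Nat.card K := Nat.card_pos
  have c9 := n.idx ▸ h.coprime_index
  generalize Nat.card (centralizer ({x} : Set G)) = a at *
  generalize (normalizer (centralizer ({x} : Set G) : Set G)).index = i at *
  generalize (univ.filter fun g => g ≠ 1 ∧ InC (centralizer {x}) g).card = c at *
  have d1 : q ^ 2 = 4 * Nat.card K * m + 1 := by
    rcases n.qm with ⟨a, b⟩ | ⟨a, b⟩ <;> nlinarith
  obtain ⟨a, rfl⟩ : ∃ b, a = b + 1 := ⟨a - 1, by omega⟩
  have d2 : q * a ≤ 2 * (Nat.card E * (a + 1)) := by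
    refine Nat.le_of_mul_le_mul_left (c := 2 * Nat.card K * m) ?_ (by
      have := Nat.pos_of_mul_pos_left c7; positivity)
    calc _ = i * a * (Nat.card E * (a + 1)) := by rw [mul_right_comm i, c3]; ring
      _ ≤ 4 * Nat.card K * m * (Nat.card E * (a + 1)) := Nat.mul_le_mul_right _ (by nlinarith)
      _ = _ := by ring
  have d3 := Nat.le_of_dvd (by omega) h5
  obtain ⟨j, rfl⟩ := c6
  have d4 : j = 1 := by
    have a1 : j * a ≤ 2 * Nat.card E := Nat.le_of_mul_le_mul_left (c := a + 1) (by linarith) (by omega)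
    have a2 : j ≤ 2 := Nat.le_of_mul_le_mul_right (c := a) (by omega) (by omega)
    have a3 : Odd j := Nat.coprime_two_right.1
      c9.coprime_mul_right.coprime_mul_left.coprime_mul_right_right
    obtain ⟨_, _⟩ := a3
    omega
  subst d4
  refine ⟨(mul_one _).symm, E, h1, h2, h3, h4, by rwa [mul_one], ?_⟩
  have : a ≤ 2 * Nat.card E := Nat.le_of_mul_le_mul_left (c := a + 1) (by linarith) (by omega)
  omega

end BSW

end Cfsg.Agent.Ez
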