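import Cfsg.Agent.Lib.Ez.A9
import Cfsg.Agent.Lib.Perm.Ac3
import Cfsg.Agent.Lib.Perm.Dick9
import Cfsg.Agent.Lib.Transfer.AutS
import Cfsg.Agent.Lib.Transfer.Ext
import Cfsg.Agent.Lib.Transfer.A2

set_option autoImplicit false

namespace Cfsg.Agent.Ez

open Subgroup Cfsg.Agent.Comp Cfsg.Agent.Perm.GL2
open scoped commutatorElement Pointwise

universe u
variable {G : Type u} [Group G] [Finite G]

theorem exists_index_two_of_mod (h : Nat.card G % 4 = 2) : ∃ H : Subgroup G, H.index = 2 := by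
  obtain ⟨P⟩ : Nonempty (Sylow 2 G) := inferInstance
  obtain ⟨k, hk⟩ := P.isPGroup'.exists_card_eq
  have h1 : 2 ^ k ∣ Nat.card G := hk ▸ card_subgroup_dvd_card _
  have h2 : k < 2 := lt_of_not_ge fun e => by
    have := (pow_dvd_pow 2 e).trans h1
    omega
  refine Transfer.exists_index_two_of_hasNPC (Nat.even_iff.2 (by omega))
    (Transfer.hasNPC_two_of_isCyclic P (isCyclic_of_card_dvd_prime (p := 2) ?_))
  rw [hk]; interval_cases k <;> simp

theorem exists_relIndex_two {C M : Subgroup G} (h : C ≤ M) (hn : M ≤ normalizer (C : Set G))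
    (h2 : C.relIndex M % 4 = 2) : ∃ X, C ≤ X ∧ X ≤ M ∧ X.relIndex M = 2 := by
  have := (normal_subgroupOf_iff_le_normalizer h).2 hn
  obtain ⟨H, hH⟩ := exists_index_two_of_mod (G := M ⧸ C.subgroupOf M) h2
  refine ⟨(H.comap (QuotientGroup.mk' _)).map M.subtype, fun c hc => ⟨⟨c, h hc⟩, ?_, rfl⟩,
    map_subtype_le _, ?_⟩
  · change QuotientGroup.mk' _ _ ∈ H
    rw [QuotientGroup.mk'_apply, (QuotientGroup.eq_one_iff _).2 (mem_subgroupOf.2 hc)]
    exact one_mem _
  · rw [relIndex, subgroupOf, comap_map_eq_self_of_injective M.subtype_injective,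
      index_comap_of_surjective _ (QuotientGroup.mk'_surjective _), hH]

theorem not_npc_of_simple [IsSimpleGroup G] (hna : ¬ IsMulCommutative G) :
    ¬ HasNormalPComplement 2 G := fun h => by
  obtain ⟨H, hH⟩ := Transfer.exists_index_two_of_hasNPC (Transfer.even_of_simple hna) h
  exact (simple_facts fun e => hna (isCyclic_of_prime_card (p := 2) e).isMulCommutative).1 H hH

theorem psl_of_ac [IsSimpleGroup G] (hna : ¬ IsMulCommutative G)
    (hC : ∀ t : G, orderOf t = 2 → ∀ a b : G, Commute a t → Commute b t → Commute a b) :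
    ∃ n : ℕ, 2 ≤ n ∧ Nonempty (G ≃* PSL2 (GaloisField 2 n)) := by
  obtain ⟨P⟩ : Nonempty (Sylow 2 G) := inferInstance
  have h1 := Perm.Ac.ac_of hC P (fun e => not_npc_of_simple hna (Transfer.hasNPC_two_of_isCyclic P e))
    fun e => by
      rcases e.eq_bot_or_eq_top with a | a
      · exact P.not_dvd_index (by rw [a, index_bot]; exact (Transfer.even_of_simple hna).two_dvd)
      · exact not_npc_of_simple hna ⟨P, ⊥, inferInstance, a ▸ isComplement'_bot_top⟩
  have h2 : center G = ⊥ := (inferInstance : (center G).Normal).eq_bot_or_eq_top.resolve_right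
    fun e => hna (center_eq_top_iff.1 e)
  obtain ⟨F, _, _, h3, h4, ⟨e⟩⟩ := Perm.Ac.TI.exists_psl ⟨h1, fun s t a b c x d e =>
    mem_bot.1 (h2.le (Perm.Ac.AC.zi _ G rfl h1 s t a b c x d e))⟩
  have : CharP F 2 := ringChar_eq_two h4 ▸ ringChar.charP F
  obtain ⟨n, -, hn⟩ := FiniteField.card F 2
  have h5 : 2 ≤ (n : ℕ) := by
    by_contra a
    rw [hn, show (n : ℕ) = 1 by have := n.pos; omega] at h3
    omega
  obtain ⟨e'⟩ := (iso_of_card (K := GaloisField 2 n) (F := F)
    (by rw [GaloisField.card 2 n (by omega), hn])).2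
  exact ⟨n, h5, ⟨e.trans e'.symm⟩⟩

theorem dih_SL {F : Type*} [Field F] [Fintype F] (h2 : (2 : F) = 0) {a : SL2 F} (ha : a * a ≠ 1) :
    ∃ u, Dih (centralizer {a}) u ∧ Odd (Nat.card (centralizer ({a} : Set (SL2 F)))) := by
  have h1 : ∀ x : SL2 F, IsScal (x : M2 F) → x = 1 := fun x hx =>
    mem_bot.1 ((center_SL_even h2).le (isScal_iff_center_SL.1 hx))
  have hr : IsReg (a : M2 F) := by
    rcases classify_reg a with h | h | ⟨b, h, hb⟩
    · exact absurd (by rw [h1 a h, one_mul]) ha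
    · exact h
    obtain ⟨c, rfl⟩ := isConj_iff.1 h
    have := h1 _ ((hb.isScal_pow_iff 2).2 (by simpa using h2))
    exact absurd (by simpa [pow_two] using this) ha
  obtain ⟨w, hw⟩ := hr.exists_inverts
  have h3 : w * w = 1 := by rw [mul_self_of_trace (hr.trace_of_inverts hw), neg_one_eq_one_SL h2]
  have h4 := hr.not_mem_of_inverts hw
  refine ⟨w, ⟨ord_of_mul_self h3 fun e => h4 (e ▸ one_mem _), h4, fun c => hr.inverts hw,
    fun y hy h5 g hg => ?_⟩, ?_⟩
  · have h6 := cent_eq_cent_SL hr.not_scal hy fun e => h5 (h1 y e)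
    rcases hr.eq_or_eq_inv hy hg (isConj_iff.2 ⟨g, rfl⟩) with e | e
    · exact mem_sup_left (h6.le (mem_cent.2 (mul_inv_eq_iff_eq_mul.1 e)))
    · refine (mul_mem_cancel_left (mem_sup_right (inv_mem (mem_zpowers w)))).1
        (mem_sup_left (h6.le (mem_cent.2 ?_)))
      rw [← hr.inverts hw hy] at e
      calc w⁻¹ * g * y = w⁻¹ * (g * y * g⁻¹) * g := by group
        _ = _ := by rw [e]; group
  · have : CharP F 2 := ringChar_eq_two h2 ▸ ringChar.charP F
    have h5 := FiniteField.even_card_of_char_two (ringChar_eq_two h2)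
    have h6 := Fintype.card_pos (α := F)
    rcases hr.card_cent with e | e <;> rw [e, Nat.odd_iff] <;> omega

theorem Dih.nm_le {A H : Subgroup G} {u : G} (h : Dih A u) (ho : Odd (Nat.card A))
    (hH : ¬ IsMulCommutative H) (hn : normalizer (H : Set G) ≤ A ⊔ zpowers u) :
    normalizer (H : Set G) ≤ H := by
  have h2 := mul_self_of_ord h.hu
  have h1 : ∀ g ∈ A ⊔ zpowers u, g ∈ A ∨ g * u⁻¹ ∈ A := fun g =>
    (Transfer.mem_sup_zpowers_iff (h.le_nm le_rfl (mem_sup_right (mem_zpowers u)))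
      (by rw [pow_two, h2]; exact one_mem _)).1
  obtain ⟨w, hw, h3⟩ := SetLike.not_le_iff_exists.1 fun e => hH (Solv.isMulCommutative_of_le e h.ab)
  have h4 := (h1 w (hn (le_normalizer hw))).resolve_left h3
  have h5 : ∀ g ∈ normalizer (H : Set G), g ∈ A → g ∈ H := fun g hg ha => by
    have : g * w * g⁻¹ * w⁻¹ = g * g := by
      calc _ = g * (w * u⁻¹ * (u * g⁻¹ * u⁻¹)) * (w * u⁻¹)⁻¹ := by group
        _ = _ := by rw [h.inv _ (inv_mem ha), h.comm h4 (inv_mem (inv_mem ha))]; group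
    obtain ⟨n, hn⟩ := odd_orderOf_of_mem ho ha
    have e : g = (g * g) ^ (n + 1) := by
      rw [← pow_two, ← pow_mul, show 2 * (n + 1) = 2 * n + 1 + 1 by ring, pow_succ, ← hn,
        pow_orderOf_eq_one, one_mul]
    rw [e, ← this]
    exact pow_mem (mul_mem (conj_mem_of_mem_normalizer hg hw) (inv_mem hw)) _
  intro g hg
  rcases h1 g (hn hg) with a | a
  · exact h5 g hg a
  · exact (mul_mem_cancel_right (inv_mem hw)).1 (h5 _ (mul_mem hg (inv_mem (le_normalizer hw)))
      (by simpa using mul_mem a (inv_mem h4)))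

end Cfsg.Agent.Ez
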