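import Cfsg.Agent.Lib.Ez.B1
import Cfsg.Agent.Lib.Ez.A11
import Cfsg.Agent.Lib.Transfer.Dih
import Cfsg.Agent.Lib.Transfer.Quad
import Cfsg.Agent.Lib.Classical.Zsig

set_option autoImplicit false

namespace Cfsg.Agent.Ez

open Subgroup Cfsg.Agent.Comp Cfsg.Agent.Perm.GL2
open scoped commutatorElement Pointwise

universe u
variable {G : Type u} [Group G] [Finite G]

/-- Basic local data of `PSL₂(q)`. -/
structure L2 (G : Type*) [Group G] (p q : ℕ) : Prop where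
  pp : p.Prime
  pw : ∃ f, 0 < f ∧ q = p ^ f
  card : Nat.card G * Nat.gcd 2 (q - 1) = q * (q + 1) * (q - 1)
  tor : ∀ a : G, a ^ p ≠ 1 → ∃ t s : G, (orderOf t * Nat.gcd 2 (q - 1) = q + 1 ∨
    orderOf t * Nat.gcd 2 (q - 1) = q - 1) ∧ a ∈ zpowers t ∧ s * t * s⁻¹ = t⁻¹ ∧ s ^ 2 = 1 ∧
    s ∉ zpowers t ∧ ∀ g, (g * a * g⁻¹ = a ∨ g * a * g⁻¹ = a⁻¹) → g ∈ zpowers t ∨ g * s ∈ zpowers t

omit [Finite G] in
theorem l2_of_equiv {F : Type*} [Field F] [Fintype F] (e : G ≃* PSL2 F) :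
    L2 G (ringChar F) (Fintype.card F) := by
  obtain ⟨n, hp, hn⟩ := FiniteField.card F (ringChar F)
  have := Fact.mk hp
  let φ : G →* PGL2 F := io.comp e.toMonoidHom
  have h1 : Function.Injective φ := io_injective.comp e.injective
  have h2 : ∀ x ∈ PS F, ∃ a, φ a = x := fun x hx =>
    ⟨e.symm (psEquiv.symm ⟨x, hx⟩), by simp [φ, ← coe_psEquiv]⟩
  have h3 : ∀ a, φ a ∈ PS F := fun a => (psEquiv (e a)).2
  have h4 : ∀ a t, φ a ∈ zpowers (φ t) ↔ a ∈ zpowers t := fun a t => by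
    rw [← MonoidHom.map_zpowers, mem_map_iff_mem h1]
  refine ⟨hp, ⟨n, n.pos, hn⟩, by rw [Nat.card_congr e.toEquiv, card_PSL2_mul], fun a ha => ?_⟩
  obtain ⟨t, s, a1, a2, a3, a4, a5, a6, a7, a8⟩ := torusS (a := φ a) (p := ringChar F)
    (fun e => ha (h1 (by rw [map_pow, e, map_one]))) (h3 a)
  obtain ⟨t, rfl⟩ := h2 t a3
  obtain ⟨s, rfl⟩ := h2 s a4
  rw [orderOf_injective φ h1] at a1
  refine ⟨t, s, a1.imp_right (·.1), (h4 _ _).1 a2, h1 (by simpa using a5), h1 (by simpa using a6),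
    mt (h4 _ _).2 a7, fun g hg => ?_⟩
  simpa only [← map_mul, h4] using a8 (φ g) (h3 g)
    (by simpa only [← map_mul, ← map_inv, h1.eq_iff] using hg)

omit [Finite G] in
theorem refl_of {t s g : G} (h1 : s * t * s⁻¹ = t⁻¹) (h2 : s ^ 2 = 1) (h : g * s ∈ zpowers t) :
    g * g = 1 ∧ ∀ c ∈ zpowers t, g * c * g⁻¹ = c⁻¹ := by
  rw [pow_two] at h2
  obtain ⟨a, rfl⟩ : ∃ a, g = a * s := ⟨g * s, by rw [mul_assoc, h2, mul_one]⟩
  rw [mul_assoc, h2, mul_one] at h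
  refine ⟨by rw [Transfer.mul_self_of_inverts (Transfer.inverts_of_mem_zpowers h1 h), h2],
    fun c hc => ?_⟩
  calc _ = a * (s * c * s⁻¹) * a⁻¹ := by group
    _ = _ := by rw [Transfer.inverts_of_mem_zpowers h1 hc,
      (Char.commute_of_mem_zpowers h (inv_mem hc)).eq, mul_inv_cancel_right]

namespace L2

variable {p q : ℕ} (h : L2 G p q)
include h

theorem coprime : p.Coprime (q + 1) ∧ p.Coprime (q - 1) := by
  obtain ⟨f, a, rfl⟩ := h.pw
  have := Nat.one_le_pow f p h.pp.pos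
  have b := dvd_pow_self p a.ne'
  exact ⟨(Nat.coprime_add_iff_right b).2 (by simp), (Nat.Prime.coprime_iff_not_dvd h.pp).2 fun e =>
    h.pp.one_lt.ne' (Nat.dvd_one.1 ((Nat.dvd_add_right e).1 (by rwa [Nat.sub_add_cancel this])))⟩

theorem cent_uni {a : G} (h1 : a ≠ 1) (h2 : a ^ p = 1) {b : G} (hb : b ∈ centralizer {a}) :
    b ^ p = 1 := by
  by_contra e
  obtain ⟨t, s, a1, a2, a3, a4, -, a6⟩ := h.tor b e
  have := Fact.mk h.pp
  have h3 := orderOf_eq_prime h2 h1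
  have h4 := mul_inv_eq_iff_eq_mul.2 (mem_C1.1 hb)
  rcases a6 a (.inl h4) with c | c
  · have := (h3 ▸ orderOf_dvd_of_mem_zpowers c).mul_right (Nat.gcd 2 (q - 1))
    rcases a1 with d | d <;> rw [d] at this
    · exact h.pp.one_lt.ne' (h.coprime.1.eq_one_of_dvd this)
    · exact h.pp.one_lt.ne' (h.coprime.2.eq_one_of_dvd this)
  obtain ⟨h5, h6⟩ := refl_of a3 a4 c
  obtain rfl : p = 2 := h3.symm.trans (ord_of_mul_self h5 h1)
  exact e (by rw [pow_two, ← eq_inv_iff_mul_eq_one, ← h6 b a2, h4])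

theorem card_dvd {P : Subgroup G} (hP : IsPGroup p P) : Nat.card P ∣ q := by
  have := Fact.mk h.pp
  obtain ⟨k, hk⟩ := hP.exists_card_eq
  have := (card_subgroup_dvd_card P).mul_right (Nat.gcd 2 (q - 1))
  rw [h.card, hk, mul_assoc] at this
  exact hk ▸ ((h.coprime.1.mul_right h.coprime.2).pow_left k).dvd_of_dvd_mul_right this

end L2

theorem prime_or_nine {p f k : ℕ} (hp : p.Prime) (h2 : p ≠ 2) (hf : 0 < f)
    (h : p ^ f = 2 ^ k + 1 ∨ p ^ f + 1 = 2 ^ k) : p ^ f = 9 ∨ (p ^ f).Prime := by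
  by_cases h1 : f = 1
  · exact .inr (by rwa [h1, pow_one])
  have h3 : 2 ∣ p ^ 1 - 1 := by
    obtain ⟨m, rfl⟩ := hp.odd_of_ne_two h2
    simp
  have h4 : ∀ r : ℕ, r.Prime → r ∣ 2 ^ k → r = 2 := fun r a b =>
    (Nat.prime_dvd_prime_iff_eq a Nat.prime_two).1 (a.dvd_of_dvd_pow b)
  rcases h with h | h
  · by_cases h5 : f = 2 ∧ ∃ m, p + 1 = 2 ^ m
    · obtain ⟨rfl, m, hm⟩ := h5
      obtain ⟨p, rfl⟩ : ∃ r, p = r + 1 := ⟨p - 1, by have := hp.pos; omega⟩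
      obtain ⟨j, -, hj⟩ := (Nat.dvd_prime_pow Nat.prime_two).1
        (⟨p + 2, by linarith⟩ : p ∣ 2 ^ k)
      have := hp.two_le
      rcases m with _ | _ | m <;> rcases j with _ | _ | j <;> (try simp only [pow_succ] at hm hj) <;>
        first | omega | simp [hj]
    obtain ⟨r, a, b, c⟩ := Classical.Zsig.zsigmondy p f hp.one_lt (by omega) (fun e => h2 e.1) h5
    rw [h, Nat.add_sub_cancel] at b
    exact absurd (h4 r a b ▸ h3) (c 1 one_pos (by omega))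
  obtain ⟨r, a, b, c⟩ := Classical.Zsig.zsigmondy p (f * 2) hp.one_lt (by omega) (fun e => h2 e.1)
    (by omega)
  rw [pow_mul, sq_sub_one_eq, h] at b
  exact absurd (h4 r a (((Nat.Prime.dvd_mul a).1 b).resolve_right (c f hf (by omega))) ▸ h3)
    (c 1 one_pos (by omega))

theorem BSW.psl [IsSimpleGroup G] {t s : G} {K : Subgroup G} (h : BSW t s K) :
    ∃ (F : Type) (_ : Field F) (_ : Fintype F), (Fintype.card F = 2 * Nat.card K + 1 ∨
      Fintype.card F + 1 = 2 * Nat.card K) ∧ Nonempty (G ≃* PSL2 F) := by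
  have := Fintype.ofFinite G
  obtain ⟨q, m, n⟩ := h.exists_nd
  obtain ⟨Q, D, c⟩ := h.concl
  obtain ⟨F, _, _, ⟨j, h1⟩, ⟨e⟩⟩ := c.psl
  have h2 := (l2_of_equiv e).card
  have h3 := h.two_card n
  have h4 := n.qm
  rw [h1, Nat.add_sub_cancel, Nat.gcd_mul_right_right, mul_comm, h3] at h2
  obtain ⟨q, rfl⟩ : ∃ r, q = r + 1 := ⟨q - 1, by have := Nat.card_pos (α := K); omega⟩
  have h5 : StrictMono fun n : ℕ => (n + 1) * (n + 1 + 1) * n :=
    strictMono_nat_of_lt_succ fun n => by nlinarith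
  have := h5.injective h2
  exact ⟨F, _, _, by omega, ⟨e⟩⟩

theorem bsw_of_dh [IsSimpleGroup G] (hna : ¬ IsMulCommutative G) (S : Sylow 2 G) {a b : G} {n : ℕ}
    (h : Transfer.DH S a b n) (hC : centralizer {a ^ 2 ^ n} ≤ (S : Subgroup G)) :
    BSW (a ^ 2 ^ n) b (zpowers a) := by
  have h1 : (S : Subgroup G) ≤ centralizer {a ^ 2 ^ n} := le_centralizer_singleton_iff.2 h.z_cent
  refine ⟨h.ord_z, inferInstance, h.le.trans h1, h.z_mem, h.ord_b, h1 h.mem_b, h.notMem,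
    h.eq.symm.trans (le_antisymm h1 hC), le_antisymm (fun c hc => ?_) (zpowers_le.2
      ⟨h.z_mem, mem_C1.2 (mem_C1.1 (h1 h.mem_b)).symm⟩), fun c => h.inv', fun g hg => ?_,
    fun x y => one_class_of_cyc (simple_facts fun e => hna
      (isCyclic_of_prime_card (p := 2) e).isMulCommutative).1 S h.a2.idx⟩
  · rcases h.inv_eq hc.1 (h.fix hc.1 (mem_C1.1 hc.2)) with rfl | rfl
    exacts [one_mem _, mem_zpowers _]
  by_contra e
  obtain ⟨u, hu, h2⟩ := Transfer.exists_invol_mem_of_isPGroup (h.pg.to_le (inf_le_left.trans h.le)) e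
  obtain rfl := invol_unique_zpowers hu.1 h.z_mem h2 h.ord_z
  have := invol_unique_zpowers (mem_cj.1 hu.2) h.z_mem (by simpa using (ord_conj g⁻¹ _).trans h2) h2
  exact hg (mem_C1.2 (by nth_rw 2 [← this]; group))

theorem dh_or_qd {R : Subgroup G} (hR : IsPGroup 2 R) {z v : G} (hz : orderOf z = 2)
    (hv : orderOf v = 2) (hne : v ≠ z) (hc : z * v = v * z) (h1 : z ∈ R) (h2 : v ∈ R)
    (h3 : R ⊓ centralizer ((zpowers z ⊔ zpowers v : Subgroup G) : Set G) ≤ zpowers z ⊔ zpowers v) :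
    ∃ a b n, Transfer.DH R a b n ∨ Transfer.QD R a b n := by
  have h4 := card_four hz hv hne hc
  have h5 : zpowers z ⊔ zpowers v ≤ R := sup_le (zpowers_le.2 h1) (zpowers_le.2 h2)
  rcases h5.eq_or_lt with rfl | lt
  · exact ⟨z, v, 0, .inl ⟨⟨hz, fun e => hne (invol_unique_zpowers e (mem_zpowers z) hv hz), rfl,
      mul_self_of_ord hv ▸ one_mem _, .inl (by rw [← hc, mul_inv_cancel_right,
        inv_eq_of_mul_eq_one_right (mul_self_of_ord hz)])⟩, mul_self_of_ord hv,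
      by rw [← hc, mul_inv_cancel_right, inv_eq_of_mul_eq_one_right (mul_self_of_ord hz)]⟩⟩
  obtain ⟨n, hn⟩ := hR.exists_card_eq
  have n3 : 3 ≤ n := by
    have := Comp.card_lt_of_lt lt
    rw [h4, hn] at this
    exact (Nat.pow_lt_pow_iff_right (a := 2) (n := 2) one_lt_two).1 this
  obtain ⟨a, b, h⟩ := Solv.nf2_of_maxClass hn (Solv.maxClass_of_centralizer R n hn (Subgroup.subgroupOf _ R)
    ((Nat.card_congr (subgroupOfEquivOfLe h5).toEquiv).trans h4) fun x hx => h3 ⟨x.2, fun v hv =>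
      congrArg Subtype.val (hx ⟨v, h5 hv⟩ hv)⟩) n3
  have h6 : Transfer.MC (⊤ : Subgroup R) a b (n - 2) := by
    have a1 : b * b ∈ zpowers a := by
      rw [← pow_two]
      rcases h.rel with e | e | e
      exacts [e.1 ▸ one_mem _, e.1 ▸ pow_mem (mem_zpowers a) _, e.2.1 ▸ one_mem _]
    have a2 : b * a * b⁻¹ = a⁻¹ ∨ (2 ≤ n - 2 ∧ b * a * b⁻¹ = a ^ 2 ^ (n - 2) * a⁻¹) := by
      rcases h.rel with e | e | e
      exacts [.inl e.2, .inl e.2, .inr ⟨e.1, by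
        rw [e.2.2, eq_mul_inv_iff_mul_eq, ← pow_succ, Nat.sub_add_cancel Nat.one_le_two_pow]⟩]
    refine ⟨h.ord, h.notMem, (eq_top_of_card_eq _ ?_).symm, a1, a2⟩
    have := normal_of_index_eq_two h.index
    rw [Transfer.card_sup_zpowers (le_normalizer_of_normal (mem_top b)) (pow_two b ▸ a1) h.notMem,
      ← h.index, index_mul_card]
  have h7 := h6.map R.subtype_injective
  rw [← MonoidHom.range_eq_map, range_subtype] at h7
  obtain ⟨s, a1, a2, a3⟩ : ∃ s ∈ R, s ∉ zpowers (a : G) ∧ s * s = 1 := by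
    by_cases e : z ∈ zpowers (a : G)
    · exact ⟨v, h2, fun e' => hne (invol_unique_zpowers e' e hv hz), mul_self_of_ord hv⟩
    · exact ⟨z, h1, e, mul_self_of_ord hz⟩
  have h8 := h7.out a1 a2
  exact ⟨a, s, _, h8.cnj.imp (⟨h8, a3, ·⟩) fun e => ⟨h8, a3, e.1, e.2⟩⟩

end Cfsg.Agent.Ez
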