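import Cfsg.Agent.Lib.Ez.B2

set_option autoImplicit false

namespace Cfsg.Agent.Ez

open Subgroup Cfsg.Agent.Comp Cfsg.Agent.Perm.GL2
open scoped commutatorElement Pointwise

universe u
variable {G : Type u} [Group G] [Finite G]

theorem two_of_no_odd {C : Subgroup G} (h : ∀ y ∈ C, Odd (orderOf y) → y = 1) : IsPGroup 2 C :=
  Solv.isPGroup_of_forall_prime_dvd fun q hq e => by
    have := Fact.mk hq
    obtain ⟨y, hy⟩ := exists_prime_orderOf_dvd_card' q e
    rw [← orderOf_coe] at hy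
    by_contra h2
    exact hq.one_lt.ne' (by rw [← hy, h y y.2 (hy ▸ hq.odd_of_ne_two h2), orderOf_one])

/-- If an involution of `C` inverts no nontrivial odd element it lies in a normal 2-subgroup. -/
theorem exists_nm_two {C : Subgroup G} {v : G} (hv : v ∈ C) (h2 : v * v = 1)
    (h : ∀ a ∈ C, Odd (orderOf a) → v * a * v⁻¹ = a⁻¹ → a = 1) :
    ∃ R ≤ C, IsPGroup 2 R ∧ v ∈ R ∧ C ≤ normalizer (R : Set G) := by
  have h1 : IsPGroup 2 (normalClosure ({⟨v, hv⟩} : Set C)) := by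
    by_contra e
    obtain ⟨a, a1, a2, a3⟩ := Transfer.exists_inverts_odd_of_not_isPGroup (Subtype.ext h2) e
    exact a1 (Subtype.ext (h a a.2 (by rwa [orderOf_coe]) (congrArg Subtype.val a3)))
  refine ⟨_, map_subtype_le _, h1.map C.subtype, ⟨_, subset_normalClosure rfl, rfl⟩, fun g hg => ?_⟩
  refine mem_normalizer_of_conj_mem ?_
  rintro _ ⟨x, hx, rfl⟩
  exact ⟨_, normalClosure_normal.conj_mem x hx ⟨g, hg⟩, rfl⟩

section SC
variable (hH : ∀ H : Subgroup G, ¬ IsCyclic H → centralizer (H : Set G) ≤ H)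
include hH

theorem sc_two {z v : G} (hz : orderOf z = 2) (hv : orderOf v = 2) (hne : v ≠ z)
    (hc : z * v = v * z) : IsPGroup 2 (centralizer ({z} : Set G)) := by
  have hV := hH (zpowers z ⊔ zpowers v) fun e => hne (Perm.Ac.eq_of_isCyclic e
    (mem_sup_right (mem_zpowers v)) (mem_sup_left (mem_zpowers z)) hv hz)
  obtain ⟨R, r1, r2, r3, r4⟩ := exists_nm_two (mem_C1.2 hc) (mul_self_of_ord hv) fun a a1 a2 a3 => by
    have key : v * a = a * v → a = 1 := fun e => Transfer.eq_one_of_odd_of_mul_self a2 (by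
      rw [e, mul_inv_cancel_right] at a3; exact eq_inv_iff_mul_eq_one.1 a3)
    refine key (by_contra fun e => ?_)
    have := hH (zpowers a ⊔ zpowers v) (fun c => e (congrArg Subtype.val (c.isMulCommutative.1.1
      ⟨v, mem_sup_right (mem_zpowers v)⟩ ⟨a, mem_sup_left (mem_zpowers a)⟩)))
      (zpowers_le.1 (le_centralizer_iff.1 ((sup_le (zpowers_le.2 a1) (zpowers_le.2 (mem_C1.2 hc))).trans
        (centralizer_zpowers z).ge)))
    rcases (Transfer.mem_sup_zpowers_iff (Transfer.mem_normalizer_zpowers_of_inv a3)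
      (by rw [pow_two, mul_self_of_ord hv]; exact one_mem _)).1 this with c | c
    · have := Transfer.odd_orderOf_of_mem_zpowers a2 c
      rw [hz] at this; exact absurd this (by decide)
    · have c1 := (Char.commute_of_mem_zpowers c (mem_zpowers a)).eq
      have c2 := mem_C1.1 a1
      refine e (mul_left_cancel (a := z * v⁻¹) ?_)
      rw [← mul_assoc (z * v⁻¹) a, c1, ← mul_assoc, ← mul_assoc, ← c2]; group
  have h1 : centralizer {z} ≤ normalizer (zpowers z : Set G) := fun g hg =>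
    Transfer.mem_normalizer_zpowers (by rw [← mem_C1.1 hg, mul_inv_cancel_right]; exact mem_zpowers z)
  have h2 : IsPGroup 2 (zpowers z ⊔ R : Subgroup G) :=
    (Transfer.isPGroup_two_zpowers (mul_self_of_ord hz)).to_sup_of_normal_left' r2 (r1.trans h1)
  have h3 : zpowers z ⊔ zpowers v ≤ zpowers z ⊔ R := sup_le_sup_left (zpowers_le.2 r3) _
  obtain ⟨a, b, n, h⟩ := dh_or_qd h2 hz hv hne hc (mem_sup_left (mem_zpowers z))
    (mem_sup_right r3) (inf_le_right.trans hV)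
  obtain ⟨h, h4⟩ : Transfer.MC _ a b n ∧ b * b = 1 := h.elim (fun e => ⟨e.toMC, e.sq1⟩) fun e => ⟨e.toMC, e.sq1⟩
  refine two_of_no_odd fun y hy ho => Transfer.eq_one_of_odd_of_mem h2 (h3 (hV
    (centralizer_le (by exact h3) ?_))) ho
  have h5 := le_normalizer_sup h1 r4 hy
  rcases Nat.eq_zero_or_pos n with rfl | hn
  · exact (Transfer.ix2_of_card le_sup_left (by rw [h.card, Nat.card_zpowers, hz]; rfl)).odd_cc h2 ho h5
      ((centralizer_zpowers z).ge hy)
  · by_contra e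
    exact h.not_ess hn (.inr h4) ⟨y, h5, ho, e⟩

theorem sc_psl [IsSimpleGroup G] (hna : ¬ IsMulCommutative G) :
    ∃ (F : Type) (_ : Field F) (_ : Fintype F) (k : ℕ), (Fintype.card F = 2 ^ (k + 2) + 1 ∨
      Fintype.card F + 1 = 2 ^ (k + 2)) ∧ Nonempty (G ≃* PSL2 F) := by
  obtain ⟨h1, h2⟩ := simple_facts (G := G) fun e => hna
    (isCyclic_of_prime_card (p := 2) e).isMulCommutative
  obtain ⟨S⟩ : Nonempty (Sylow 2 G) := inferInstance
  have key : ∀ z, orderOf z = 2 → (S : Subgroup G) ≤ centralizer {z} →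
      centralizer {z} ≤ (S : Subgroup G) ∧ ∃ a b n, Transfer.DH (S : Subgroup G) a b n ∨
        Transfer.QD (S : Subgroup G) a b n := by
    intro z hz hS
    obtain ⟨v, a1, a2, a3⟩ := exists_conj_ne_of_not_isolated S hz hS (h2 z)
    obtain ⟨g, rfl⟩ := isConj_iff.1 a3
    have hv := (ord_conj g z).trans hz
    have hc := mem_C1.1 (hS a1)
    have := (S.is_maximal' (sc_two hH hz hv a2 hc) hS).le
    exact ⟨this, dh_or_qd S.2 hz hv a2 hc (this (mem_C1.2 rfl)) a1 (inf_le_right.trans (hH _ fun e =>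
      a2 (Perm.Ac.eq_of_isCyclic e (mem_sup_right (mem_zpowers _)) (mem_sup_left (mem_zpowers z)) hv hz)))⟩
  obtain ⟨x, hx⟩ := exists_prime_orderOf_dvd_card' 2 (Transfer.even_of_simple hna).two_dvd
  obtain ⟨z, -, hz, hS⟩ := exists_central_invol S hx
  obtain ⟨-, a, b, n, h⟩ := key z hz hS
  have h' : Transfer.MC _ a b n := h.elim (·.toMC) (·.toMC)
  have hC := (key _ h'.ord_z (le_centralizer_singleton_iff.2 h'.z_cent)).1
  rcases h with h | h
  · obtain ⟨F, _, _, a1, a2⟩ := (bsw_of_dh hna S h hC).psl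
    rw [Nat.card_zpowers, h.ord, ← pow_succ'] at a1
    exact ⟨F, _, _, n, a1, a2⟩
  have h3 : ¬ Transfer.Ess (Transfer.Xk a (n - 1) (a * b)) := fun ⟨g, g1, g2, g3⟩ => by
    obtain ⟨t, -, -, e, -⟩ := (h.mc'.q8_X h.one h.sq_ab).exists_t
    have h3 : a ^ 2 ^ n ∈ Transfer.Xk a (n - 1) (a * b) :=
      mem_sup_left (h.pow_le_pow (by omega) (mem_zpowers _))
    have h4 := (e _ (conj_mem_of_mem_normalizer g1 h3) (Transfer.conj_mul_self h.z_mul g)).resolve_left
      (mt conj_eq_one_iff.1 h.z_ne)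
    rw [← (e _ h3 h.z_mul).resolve_left h.z_ne, mul_inv_eq_iff_eq_mul] at h4
    exact g3 (Transfer.eq_one_of_odd_of_mem S.2 (hC (mem_C1.2 h4.symm)) g2 ▸ one_mem _)
  by_cases e : Transfer.Ess (Transfer.Xk a n b)
  · have := h.res_eq_D e h3
    rw [Transfer.pResidual_two_eq_top_iff.2 h1, inf_top_eq] at this
    exact absurd (this ▸ h.mem_a) (h.a_notMem h.one)
  · exact absurd (h.npc e h3) (not_npc_of_simple hna)

end SC

theorem L2.sc {p q : ℕ} (h : L2 G p q) (hq : q ∣ p ^ 2)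
    (h2 : q = 4 ∨ ∃ k, q = 2 ^ k + 1 ∨ q + 1 = 2 ^ k)
    {H : Subgroup G} (hH : ¬ IsCyclic H) : centralizer (H : Set G) ≤ H := fun c hc => by
  have := Fact.mk h.pp
  by_cases h1 : c = 1
  · exact h1 ▸ one_mem _
  have h3 : H ≤ centralizer {c} := fun g hg => mem_C1.2 (hc g hg).symm
  by_cases e : c ^ p = 1
  · have h4 : H ⊔ zpowers c ≤ centralizer {c} := sup_le h3 (zpowers_le.2 (mem_C1.2 rfl))
    have h5 := (h.card_dvd (isPGroup_of_forall fun x hx =>
      ⟨1, (pow_one p).symm ▸ h.cent_uni h1 e (h4 hx)⟩)).trans hq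
    obtain ⟨k, hk, h6⟩ := (Nat.dvd_prime_pow h.pp).1 ((card_dvd_of_le le_sup_left).trans h5)
    obtain rfl : k = 2 := by
      by_contra e
      exact hH (isCyclic_of_card_dvd_prime (p := p) (h6 ▸ by
        simpa using pow_dvd_pow p (show k ≤ 1 by omega)))
    exact (eq_of_le_of_card_ge le_sup_left (h6 ▸ Nat.le_of_dvd (pow_pos h.pp.pos 2) h5)).ge
      (mem_sup_right (mem_zpowers c))
  obtain ⟨t, s, a1, a2, a3, a4, -, a6⟩ := h.tor c e
  have h4 := fun g (hg : g ∈ H) => a6 g (.inl (mul_inv_eq_iff_eq_mul.2 (hc g hg)))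
  have h5 : ∀ x, ∃ g ∈ H, g ∉ zpowers x := fun x =>
    SetLike.not_le_iff_exists.1 fun e => hH (isCyclic_of_le e)
  obtain ⟨g, g1, g2⟩ := h5 t
  have g3 := (h4 g g1).resolve_left g2
  have g4 := (refl_of a3 a4 g3).2 c a2
  rw [hc g g1, mul_inv_cancel_right, eq_inv_iff_mul_eq_one] at g4
  have g5 := ord_of_mul_self g4 h1
  have g6 : p ≠ 2 := by rintro rfl; exact e (by rwa [pow_two])
  obtain ⟨m, hm⟩ := g5 ▸ orderOf_dvd_of_mem_zpowers a2
  obtain ⟨j, hj⟩ : Odd q := by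
    obtain ⟨f, -, rfl⟩ := h.pw
    exact (h.pp.odd_of_ne_two g6).pow
  have g7 : IsPGroup 2 (zpowers t) := by
    rw [hj, Nat.add_sub_cancel, Nat.gcd_mul_right_right] at a1
    obtain ⟨k, hk⟩ : ∃ k, orderOf t ∣ 2 ^ k := by
      obtain ⟨k, hk⟩ := h2.resolve_left (by omega)
      have := orderOf_pos t
      rcases k with _ | _ | k
      · omega
      · exact ⟨1, by rw [show orderOf t = 2 by omega]; rfl⟩
      · exact ⟨k + 2, 2, by rw [pow_succ, pow_succ] at *; omega⟩
    obtain ⟨k, -, hk⟩ := (Nat.dvd_prime_pow Nat.prime_two).1 hk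
    exact IsPGroup.of_card ((Nat.card_zpowers t).trans hk)
  obtain ⟨u, u1, u2⟩ := h5 g
  obtain ⟨w, w1, w2⟩ := Transfer.exists_invol_mem_of_isPGroup (g7.to_le (H := H ⊓ zpowers t)
    inf_le_right) fun b => u2 (by
      rcases h4 u u1 with d | d
      · exact mem_bot.1 (b.le ⟨u1, d⟩) ▸ one_mem _
      · have := mem_bot.1 (b.le ⟨H.mul_mem u1 (H.inv_mem g1), by
          simpa [mul_assoc] using mul_mem d (inv_mem g3)⟩)
        exact mul_inv_eq_one.1 this ▸ mem_zpowers _)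
  exact invol_unique_zpowers w1.2 a2 w2 g5 ▸ w1.1

end Cfsg.Agent.Ez
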