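import Cfsg.Agent.Lib.Ez.B3
import Cfsg.Agent.S3861
import Cfsg.Agent.S3862
import Cfsg.Agent.S0205

set_option autoImplicit false

namespace Cfsg.Agent.Ez

open Subgroup Cfsg.Agent.Comp
open scoped commutatorElement Pointwise

universe u
variable {G : Type u} [Group G] [Finite G]

theorem sol_of_normal_syl2 (P : Sylow 2 G) (h : (P : Subgroup G).Normal) : Group.IsSolvable G :=
  Solv.isSolvable_of_normal_of_quotient (P : Subgroup G) (have := P.2.isNilpotent; inferInstance)
    (S0205.result (odd_index_sylow P))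

theorem exists_two_inverts {x : G} (h : IsConj x x⁻¹) :
    ∃ y k, orderOf y = 2 ^ k ∧ y * x * y⁻¹ = x⁻¹ := by
  obtain ⟨g, hg⟩ := isConj_iff.1 h
  obtain ⟨k, m, ⟨j, rfl⟩, hm⟩ := Nat.exists_eq_two_pow_mul_odd (orderOf_pos g).ne'
  refine ⟨g ^ (2 * j + 1), k, by
    rw [orderOf_pow' _ (by omega), hm, Nat.gcd_mul_left_left, Nat.mul_div_cancel _ (by omega)], ?_⟩
  have : g ^ 2 ∈ centralizer {x} := mem_C1.2 (mul_inv_eq_iff_eq_mul.1 (by
    rw [show g ^ 2 * x * (g ^ 2)⁻¹ = g * (g * x * g⁻¹) * g⁻¹ by rw [pow_two]; group, hg, ← conj_inv,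
      hg, inv_inv])).symm
  have := mem_C1.1 (pow_mem this j)
  rw [pow_succ', pow_mul, mul_assoc g, ← this, ← hg]; group

omit [Finite G] in
theorem index_cent_sub {H : Subgroup G} (x : H) :
    (centralizer ({x} : Set H)).index = (centralizer ({(x : G)} : Set G)).relIndex H := by
  rw [← subgroupOf_centralizer_singleton]; rfl

theorem isPGroup_zpowers_of {p k : ℕ} {x : G} (h : orderOf x = p ^ k) : IsPGroup p (zpowers x) :=
  IsPGroup.of_card ((Nat.card_zpowers x).trans h)

theorem even_index_of_real {x : G} (h : IsConj x x⁻¹) (h1 : x * x ≠ 1) :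
    2 ∣ (centralizer ({x} : Set G)).index := by
  obtain ⟨y, b⟩ := isConj_iff.1 h
  have := Transfer.ix2_sup (U := centralizer {x}) (s := y) (by
    rw [← centralizer_zpowers]
    exact normalizer_le_normalizer_centralizer _ (Transfer.mem_normalizer_zpowers_of_inv b))
    (mem_C1.2 (mul_inv_eq_iff_eq_mul.1 (by
      rw [show y * y * x * (y * y)⁻¹ = y * (y * x * y⁻¹) * y⁻¹ by group, b, ← conj_inv, b,
        inv_inv])).symm) fun e => h1 (eq_inv_iff_mul_eq_one.1 (by
      rw [← b, ← mem_C1.1 e, mul_inv_cancel_right]))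
  exact this.idx ▸ relIndex_dvd_index_of_le this.le

end Cfsg.Agent.Ez
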