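import Cfsg.Agent.Lib.Ez.C1
import Cfsg.Agent.Lib.Solv.FrobCount

set_option autoImplicit false

namespace Cfsg.Agent.Ez

open Subgroup Cfsg.Agent.Comp
open scoped commutatorElement Pointwise

universe u
variable {G : Type u} [Group G] [Finite G]

theorem eq_one_of_primePow_mul {x y : G} (h : Commute x y) (hc : (orderOf x).Coprime (orderOf y))
    (h1 : IsPrimePow (orderOf (x * y))) : x = 1 ∨ y = 1 := by
  rw [h.orderOf_mul_eq_mul_orderOf_of_coprime hc] at h1
  have a := orderOf_pos x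
  have b := orderOf_pos y
  rcases (hc.isPrimePow_dvd_mul h1).1 dvd_rfl with e | e <;> have := Nat.le_of_dvd ‹_› e
  exacts [.inr (orderOf_eq_one_iff.1 (by nlinarith)), .inl (orderOf_eq_one_iff.1 (by nlinarith))]

theorem eq_one_of_out {N : Subgroup G} (h : ∀ x ∉ N, IsPrimePow (orderOf x)) {x y : G} (hx : x ∉ N)
    (h1 : Commute x y) (hc : (orderOf x).Coprime (orderOf y)) : y = 1 :=
  (eq_one_of_primePow_mul h1 hc (h _ fun e => hx (zpowers_le.2 e
    (Solv.mem_zpowers_mul_of_coprime h1 hc)))).resolve_left fun e => hx (e ▸ one_mem _)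

theorem pg_cent_of_out {N : Subgroup G} (h : ∀ x ∉ N, IsPrimePow (orderOf x)) {x : G} (hx : x ∉ N)
    {p k : ℕ} (hp : p.Prime) (h1 : orderOf x = p ^ k) : IsPGroup p (centralizer ({x} : Set G)) :=
  have := Fact.mk hp
  Solv.isPGroup_of_forall_prime_dvd fun q hq e => by
    have := Fact.mk hq
    obtain ⟨y, hy⟩ := exists_prime_orderOf_dvd_card' q e
    rw [← orderOf_coe] at hy
    by_contra h4
    exact hq.one_lt.ne' (by rw [← hy, eq_one_of_out h hx (mem_C1.1 y.2) (by
      rw [hy, h1]; exact ((Nat.coprime_primes hp hq).2 (Ne.symm h4)).pow_left k), orderOf_one])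

end Cfsg.Agent.Ez
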