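import Cfsg.Agent.Lib.Ez.C2
import Cfsg.Agent.Lib.Solv.Fact

set_option autoImplicit false

namespace Cfsg.Agent.Ez

open Subgroup Cfsg.Agent.Comp
open scoped commutatorElement Pointwise

universe u
variable {G : Type u} [Group G] [Finite G]

theorem orb_of_card : (Nat.card G).primeFactors.card + 1 ≤
    Nat.card (MulAction.orbitRel.Quotient (MulAut G) G) ∧
    (Nat.card (MulAction.orbitRel.Quotient (MulAut G) G) ≤ (Nat.card G).primeFactors.card + 1 →
    (∀ x : G, x = 1 ∨ (orderOf x).Prime) ∧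
    ∀ x y : G, orderOf x = orderOf y → ∃ φ : MulAut G, φ x = y) := by
  have h1 : ∀ a : (insert 1 (Nat.card G).primeFactors : Finset ℕ), ∃ x : G, orderOf x = a := by
    rintro ⟨a, ha⟩
    rcases Finset.mem_insert.1 ha with rfl | ha
    · exact ⟨1, orderOf_one⟩
    · have := Fact.mk (Nat.prime_of_mem_primeFactors ha)
      exact exists_prime_orderOf_dvd_card' a (Nat.dvd_of_mem_primeFactors ha)
  choose s hs using h1
  have h2 : ∀ {x y : G}, (Quotient.mk'' x : MulAction.orbitRel.Quotient (MulAut G) G) = Quotient.mk'' y →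
      ∃ φ : MulAut G, φ y = x := fun e => Quotient.exact e
  have h3 : ∀ {x y : G}, (Quotient.mk'' x : MulAction.orbitRel.Quotient (MulAut G) G) = Quotient.mk'' y →
      orderOf x = orderOf y := fun e => by
    obtain ⟨φ, rfl⟩ := h2 e; exact φ.orderOf_eq _
  have h5 : Function.Injective fun a => (Quotient.mk'' (s a) :
      MulAction.orbitRel.Quotient (MulAut G) G) := fun a b e => Subtype.ext
    ((hs a).symm.trans ((h3 e).trans (hs b)))
  have h6 : Nat.card (insert 1 (Nat.card G).primeFactors : Finset ℕ) =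
      (Nat.card G).primeFactors.card + 1 := by
    rw [Nat.card_eq_finsetCard, Finset.card_insert_of_notMem (by simp [Nat.not_prime_one])]
  refine ⟨h6 ▸ Nat.card_le_card_of_injective _ h5, fun h => ?_⟩
  have h4 := (h5.bijective_of_nat_card_le (h6 ▸ h)).2
  refine ⟨fun x => ?_, fun x y e => ?_⟩
  · obtain ⟨⟨a, ha⟩, c⟩ := h4 (Quotient.mk'' x)
    rw [← orderOf_eq_one_iff, ← h3 c, hs]
    exact (Finset.mem_insert.1 ha).imp_right Nat.prime_of_mem_primeFactors
  · obtain ⟨a, c⟩ := h4 (Quotient.mk'' x)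
    obtain ⟨b, d⟩ := h4 (Quotient.mk'' y)
    obtain rfl : a = b := Subtype.ext (by rw [← hs, ← hs, h3 c, h3 d, e])
    exact h2 (d.symm.trans c)

/-- If automorphisms are transitive on elements of each prime order, a normal `p`-subgroup forces
a normal Sylow subgroup. -/
theorem syl_normal_of_orb {p : ℕ} [Fact p.Prime] (h1 : ∀ x : G, x = 1 ∨ (orderOf x).Prime)
    (h2 : ∀ x y : G, orderOf x = orderOf y → ∃ φ : MulAut G, φ x = y) {M : Subgroup G} [M.Normal]
    (hM : IsPGroup p M) (h0 : M ≠ ⊥) (P : Sylow p G) : (P : Subgroup G).Normal := by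
  obtain ⟨x, a, b⟩ := exists_mem_orderOf_eq (dvd_card_of_isPGroup hM h0)
  refine ⟨fun y hy g => ?_⟩
  rcases h1 y with rfl | c
  · simp
  obtain ⟨k, hk⟩ := IsPGroup.exists_pow_eq_one P.2 hy
  obtain ⟨φ, rfl⟩ := h2 x y (b.trans ((Nat.prime_dvd_prime_iff_eq c Fact.out).1
    (c.dvd_of_dvd_pow (orderOf_dvd_of_pow_eq_one hk))).symm)
  have := Normal.map ‹M.Normal› φ.toMonoidHom φ.surjective
  exact (sylIn_top P).le_of_normalizer' (hM.map _) le_top le_normalizer_of_normal
    (this.conj_mem _ (mem_map_of_mem _ a) g)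

omit [Finite G] in
theorem commute_of_mul_selfs {a b : G} (ha : a * a = 1) (hb : b * b = 1) (h : a * b * (a * b) = 1) :
    Commute a b := by
  rw [Commute, SemiconjBy, ← inv_eq_of_mul_eq_one_right h, mul_inv_rev, inv_eq_of_mul_eq_one_right ha,
    inv_eq_of_mul_eq_one_right hb]

end Cfsg.Agent.Ez
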