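import Cfsg.Agent.Lib.Ez.B1

set_option autoImplicit false

namespace Cfsg.Agent.Ez

open Subgroup
open scoped commutatorElement IsMulCommutative

universe u

section
variable {P : Type u} [Group P]

theorem dp_exists_proj {A B : Subgroup P} (h : IsInternalDirectProduct A B ⊤) :
    ∃ π : P →* P, (∀ x, π x ∈ A) ∧ (∀ x, (π x)⁻¹ * x ∈ B) ∧ (∀ a ∈ A, π a = a) ∧
      ∀ b ∈ B, π b = 1 := by
  obtain ⟨-, -, hc, hi, hs⟩ := h
  have hn : B.Normal := by
    refine normalizer_eq_top_iff.1 (top_le_iff.1 ?_)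
    rw [← hs]
    refine sup_le (fun a ha => ?_) le_normalizer
    refine centralizer_le_normalizer _ (mem_centralizer_iff.2 fun b hb => (hc a ha b hb).symm)
  have hd : ∀ x : P, ∃ a ∈ A, a⁻¹ * x ∈ B := fun x => by
    have hx : x ∈ A ⊔ B := hs ▸ mem_top x
    rw [← SetLike.mem_coe, mul_normal] at hx
    obtain ⟨a, ha, b, hb, rfl⟩ := hx
    exact ⟨a, ha, by simpa using hb⟩
  have hu : ∀ x a a' : P, a ∈ A → a' ∈ A → a⁻¹ * x ∈ B → a'⁻¹ * x ∈ B → a = a' := by
    intro x a a' h1 h2 h3 h4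
    have : a⁻¹ * a' ∈ A ⊓ B := mem_inf.2 ⟨mul_mem (inv_mem h1) h2, by
      have := mul_mem h3 (inv_mem h4)
      simpa [mul_assoc] using this⟩
    rw [hi, mem_bot] at this
    exact (inv_mul_eq_one.1 this)
  choose f hf1 hf2 using hd
  refine ⟨MonoidHom.mk' f fun x y => ?_, hf1, hf2, fun a ha => ?_, fun b hb => ?_⟩
  · refine hu (x * y) _ _ (hf1 _) (mul_mem (hf1 x) (hf1 y)) (hf2 _) ?_
    have := mul_mem (hn.conj_mem _ (hf2 x) (f y)⁻¹) (hf2 y)
    convert this using 1; group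
  · exact hu a _ _ (hf1 a) ha (hf2 a) (by simpa using one_mem B)
  · exact hu b _ _ (hf1 b) (one_mem A) (hf2 b) (by simpa using hb)

/-- direct factor with a unique involution that is a commutator -/
structure QFac (m : ℕ) (A B : Subgroup P) (z : P) : Prop where
  dp : IsInternalDirectProduct A B ⊤
  card : Nat.card A = m
  mem : z ∈ A
  ne : z ≠ 1
  sq : z * z = 1
  uniq : ∀ x ∈ A, x * x = 1 → x = 1 ∨ x = z
  comm : ∃ a ∈ A, ∃ b ∈ A, z = ⁅a, b⁆

theorem QFac.central {m : ℕ} {A B : Subgroup P} {z : P} (h : QFac m A B z) : z ∈ center P := by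
  obtain ⟨π, h1, h2, -, -⟩ := dp_exists_proj h.dp
  refine mem_center_iff.2 fun x => ?_
  have e1 : π x * z = z * π x := by
    rcases h.uniq (π x * z * (π x)⁻¹) (mul_mem (mul_mem (h1 x) h.mem) (inv_mem (h1 x))) (by
      calc _ = π x * (z * z) * (π x)⁻¹ := by group
        _ = 1 := by rw [h.sq]; group) with e | e
    · exact absurd (by
        calc z = (π x)⁻¹ * (π x * z * (π x)⁻¹) * π x := by group
          _ = 1 := by rw [e]; group) h.ne
    · calc π x * z = π x * z * (π x)⁻¹ * π x := by group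
        _ = _ := by rw [e]
  have e2 := h.dp.2.2.1 z h.mem _ (h2 x)
  calc x * z = π x * (((π x)⁻¹ * x) * z) := by group
    _ = z * x := by rw [← e2, ← mul_assoc, e1]; group

theorem QFac.map {m : ℕ} {A B : Subgroup P} {z : P} (h : QFac m A B z) (φ : P ≃* P) :
    QFac m (A.map φ.toMonoidHom) (B.map φ.toMonoidHom) (φ z) := by
  obtain ⟨⟨-, -, hc, hi, hs⟩, h2, h3, h4, h5, h6, a, ha, b, hb, h7⟩ := h
  refine ⟨⟨le_top, le_top, ?_, ?_, ?_⟩, ?_, ⟨z, h3, rfl⟩, by simpa using h4,
    by rw [← map_mul, h5, map_one], ?_, φ a, ⟨a, ha, rfl⟩, φ b, ⟨b, hb, rfl⟩,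
    by rw [h7, map_commutatorElement]⟩
  · rintro _ ⟨x, hx, rfl⟩ _ ⟨y, hy, rfl⟩
    rw [← map_mul, ← map_mul, hc x hx y hy]
  · rw [← map_inf _ _ _ φ.injective, hi, Subgroup.map_bot]
  · rw [← Subgroup.map_sup, hs, map_top_of_surjective _ φ.surjective]
  · rw [← h2]; exact card_map_of_injective φ.injective
  · rintro _ ⟨x, hx, rfl⟩ e
    have : x * x = 1 := φ.injective (by rw [map_mul, map_one]; exact e)
    rcases h6 x hx this with rfl | rfl
    · left; simp
    · right; rfl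

theorem comm_mul_central {a b c d : P} (h1 : Commute c a) (h2 : Commute c b) (h3 : Commute c d)
    (h4 : Commute d a) (h5 : Commute d b) : ⁅a * c, b * d⁆ = ⁅a, b⁆ := by
  simp only [commutatorElement_def, mul_inv_rev]
  have e1 : c * (b * d) * c⁻¹ = b * d := by rw [(h2.mul_right h3).eq]; group
  have e2 : d * a⁻¹ * d⁻¹ = a⁻¹ := by rw [h4.inv_right.eq]; group
  calc _ = a * (c * (b * d) * c⁻¹) * a⁻¹ * d⁻¹ * b⁻¹ := by group
    _ = a * b * (d * a⁻¹ * d⁻¹) * b⁻¹ := by rw [e1]; group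
    _ = _ := by rw [e2]

variable [Finite P]

theorem QFac.cent (hP : IsPGroup 2 P) {m : ℕ} {A B A' B' : Subgroup P} {z z' : P}
    (h : QFac m A B z) (h' : QFac m A' B' z') {π : P →* P} (h1 : ∀ x, π x ∈ A) (hz : π z' ≠ 1) :
    ∀ b ∈ B', ∀ a ∈ A, Commute (π b) a := by
  have hinj : Function.Injective (π.comp A'.subtype) := by
    rw [injective_iff_map_eq_one]
    intro x hx
    by_contra hne
    obtain ⟨k, hk⟩ := (IsPGroup.iff_orderOf.1 (hP.to_subgroup A')) x
    have h2 : 2 ∣ orderOf x := by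
      rw [hk]
      refine dvd_pow_self 2 fun e => hne ?_
      rw [e, pow_zero, orderOf_eq_one_iff] at hk; exact hk
    have ho := orderOf_pow_orderOf_div (x := x) (orderOf_pos x).ne' h2
    set y := x ^ (orderOf x / 2)
    have hy : π y = 1 := by
      have : (π.comp A'.subtype) y = 1 := by rw [map_pow, hx, one_pow]
      exact this
    have hyy : (y : P) * y = 1 := by
      have : y ^ 2 = 1 := ho ▸ pow_orderOf_eq_one y
      rw [← coe_mul, ← pow_two, this, coe_one]
    rcases h'.uniq y y.2 hyy with e | e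
    · have : y = 1 := Subtype.ext e
      rw [this, orderOf_one] at ho; omega
    · exact hz (e ▸ hy)
  have hle : (π.comp A'.subtype).range ≤ A := by rintro _ ⟨x, rfl⟩; exact h1 _
  have heq : (π.comp A'.subtype).range = A := by
    refine eq_of_le_of_card_ge hle ?_
    rw [h.card, ← h'.card]
    exact (Nat.card_congr (MonoidHom.ofInjective hinj).toEquiv).le
  intro b hb a ha
  rw [← heq] at ha
  obtain ⟨x, rfl⟩ := ha
  show π b * π x = π x * π b
  rw [← map_mul, ← map_mul, h'.dp.2.2.1 x x.2 b hb]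

theorem QFac.key (hP : IsPGroup 2 P) {m : ℕ} {A B A' B' : Subgroup P} {z z' : P}
    (h : QFac m A B z) (h' : QFac m A' B' z') : z' ∈ B ∨ z' = z := by
  obtain ⟨π, h1, h2, h3, h4⟩ := dp_exists_proj h.dp
  obtain ⟨π', h1', h2', h3', h4'⟩ := dp_exists_proj h'.dp
  by_cases hz : π z' = 1
  · left; simpa [hz] using h2 z'
  right
  have e0 : π z' = z := (h.uniq _ (h1 z') (by rw [← map_mul, h'.sq, map_one])).resolve_left hz
  have hc := h.cent hP h' h1 hz
  have hz' : π' z ≠ 1 := by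
    obtain ⟨a, ha, b, hb, e⟩ := h.comm
    have k : ∀ a ∈ A, ∃ c ∈ A, (∀ y ∈ A, Commute c y) ∧ π (π' a) = a * c := by
      intro a ha
      refine ⟨(π ((π' a)⁻¹ * a))⁻¹, inv_mem (h1 _), fun y hy => (hc _ (h2' a) y hy).inv_left, ?_⟩
      rw [map_mul, h3 a ha, map_inv]; group
    obtain ⟨c, hc1, hc2, hc3⟩ := k a ha
    obtain ⟨d, hd1, hd2, hd3⟩ := k b hb
    intro e1
    have : π (π' z) = z := by
      rw [e, map_commutatorElement, map_commutatorElement, hc3, hd3,
        comm_mul_central (hc2 a ha) (hc2 b hb) (hc2 d hd1) (hd2 a ha) (hd2 b hb)]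
    rw [e1, map_one] at this
    exact h.ne this.symm
  have hc' := h'.cent hP h h1' hz'
  have k : ∀ a ∈ A', ∀ y, Commute ((π a)⁻¹ * a) y := by
    intro a ha y
    have e1 : Commute ((π a)⁻¹ * a) (π y) := (h.dp.2.2.1 _ (h1 y) _ (h2 a)).symm
    have hr := h2 y
    set r := (π y)⁻¹ * y with hrd
    have e2 : Commute a r := by
      have e3 : Commute a ((π' r)⁻¹ * r) := h'.dp.2.2.1 _ ha _ (h2' r)
      have := (hc' r hr a ha).symm.mul_right e3
      simpa using this
    have e3 : Commute (π a) r := h.dp.2.2.1 _ (h1 a) _ hr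
    have := e1.mul_right (e3.inv_left.mul_left e2)
    simpa [hrd] using this
  obtain ⟨a, ha, b, hb, e⟩ := h'.comm
  have e1 := comm_mul_central (a := π a) (b := π b) (k a ha _) (k a ha _) (k a ha ((π b)⁻¹ * b))
    (k b hb _) (k b hb _)
  rw [← e0, e, map_commutatorElement, ← e1]
  simp

theorem QFac.exists_fixed (hP : IsPGroup 2 P) {m : ℕ} {A B : Subgroup P} {z : P}
    (h : QFac m A B z) : ∃ w ∈ center P, orderOf w = 2 ∧ ∀ φ : P ≃* P, φ w = w := by
  classical
  have := Fintype.ofFinite (center P)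
  let X : Finset (center P) := Finset.univ.filter fun x => ∃ A B, QFac m A B (x : P)
  have hX : ∀ x, x ∈ X ↔ ∃ A B, QFac m A B (x : P) := fun x => by simp [X]
  refine ⟨(∏ x ∈ X, x : center P), SetLike.coe_mem _, ?_, fun φ => ?_⟩
  · have := Fact.mk Nat.prime_two
    refine orderOf_eq_prime ?_ ?_
    · rw [← coe_pow, ← Finset.prod_pow, Finset.prod_eq_one, coe_one]
      intro x hx
      obtain ⟨A, B, hx⟩ := (hX x).1 hx
      exact Subtype.ext (by rw [coe_pow, pow_two, hx.sq, coe_one])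
    · intro e
      have hz : (⟨z, h.central⟩ : center P) ∈ X := (hX _).2 ⟨A, B, h⟩
      rw [← Finset.mul_prod_erase X _ hz, coe_mul] at e
      have hB : (∏ x ∈ X.erase ⟨z, h.central⟩, x : center P) ∈ B.subgroupOf (center P) := by
        refine Subgroup.prod_mem _ fun x hx => ?_
        obtain ⟨h1, h2⟩ := Finset.mem_erase.1 hx
        obtain ⟨A', B', h2⟩ := (hX x).1 h2
        exact (h.key hP h2).resolve_right fun e => h1 (Subtype.ext e)
      have hzB : z ∈ A ⊓ B := mem_inf.2 ⟨h.mem, by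
        have := inv_mem (mem_subgroupOf.1 hB)
        rwa [← eq_inv_of_mul_eq_one_left e] at this⟩
      rw [h.dp.2.2.2.1, mem_bot] at hzB
      exact h.ne hzB
  · have hc : ∀ (ψ : P ≃* P) (x : center P), ψ x ∈ center P := fun ψ x =>
      mem_center_iff.2 fun y => by
        obtain ⟨y, rfl⟩ := ψ.surjective y
        rw [← map_mul, ← map_mul, mem_center_iff.1 x.2 y]
    let f : center P →* center P := (φ.toMonoidHom.comp (center P).subtype).codRestrict _ (hc φ)
    have e : f (∏ x ∈ X, x) = ∏ x ∈ X, x := by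
      rw [map_prod]
      refine Finset.prod_nbij' f (fun x => ⟨φ.symm x, hc φ.symm x⟩) (fun x hx => ?_)
        (fun x hx => ?_) (fun x _ => Subtype.ext (φ.symm_apply_apply _))
        (fun x _ => Subtype.ext (φ.apply_symm_apply _)) fun _ _ => rfl
      · obtain ⟨A, B, hx⟩ := (hX x).1 hx
        exact (hX _).2 ⟨_, _, hx.map φ⟩
      · obtain ⟨A, B, hx⟩ := (hX x).1 hx
        exact (hX _).2 ⟨_, _, hx.map φ.symm⟩
    exact congrArg Subtype.val e

end

end Cfsg.Agent.Ez
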