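import Cfsg.Agent.Lib.Ez.B1
import Cfsg.Agent.Lib.Char.LinChar
import Cfsg.Agent.Lib.Char.Integral

set_option autoImplicit false

namespace Cfsg.Agent.Ez

open Subgroup Cfsg.Agent.Char
open scoped ComplexConjugate

universe u
variable {G : Type u} [Group G]

section CC
variable {A : Subgroup G} (hA : ∀ a ∈ A, a ≠ 1 → centralizer ({a} : Set G) = A)
include hA

theorem cc_comm (a b : A) : a * b = b * a := by
  by_cases h : (a : G) = 1
  · rw [show a = 1 from Subtype.ext h]; simp
  · have : (b : G) ∈ centralizer ({(a : G)} : Set G) := by rw [hA a a.2 h]; exact b.2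
    exact Subtype.ext (mem_centralizer_singleton_iff.1 this).symm

theorem cc_nm {a x : G} (ha : a ∈ A) (h1 : a ≠ 1) (hx : x * a * x⁻¹ ∈ A) :
    x ∈ normalizer (A : Set G) := by
  have e := hA _ hx (by simpa using h1)
  refine mem_normalizer_iff.2 fun b => ?_
  conv_lhs => rw [← hA a ha h1]
  conv_rhs => rw [← e]
  simp only [mem_centralizer_singleton_iff]
  constructor
  · intro h
    calc _ = x * (b * a) * x⁻¹ := by group
      _ = _ := by rw [h]; group
  · intro h
    calc b * a = x⁻¹ * (x * b * x⁻¹ * (x * a * x⁻¹)) * x := by group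
      _ = _ := by rw [h]; group

theorem cc_fpf [Finite G] {x : G} (hx : x ∈ normalizer (A : Set G)) (hxA : x ∉ A) {l : A →* ℂˣ}
    (h : l.comp (A.normalizerMonoidHom ⟨x, hx⟩).toMonoidHom = l) : l = 1 := by
  set σ := A.normalizerMonoidHom ⟨x, hx⟩
  have hinj : Function.Injective fun a : A => σ a * a⁻¹ := by
    intro a b e
    by_contra hne
    have h1 : σ (b⁻¹ * a) = b⁻¹ * a := by
      have e' : σ a * a⁻¹ = σ b * b⁻¹ := e
      rw [map_mul, map_inv]
      calc (σ b)⁻¹ * σ a = (σ b)⁻¹ * (σ a * a⁻¹) * a := by group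
        _ = _ := by rw [e']; group
    have h2 : ((b⁻¹ * a : A) : G) ≠ 1 := fun e => hne (inv_mul_eq_one.1 (Subtype.ext e)).symm
    refine hxA (hA _ (b⁻¹ * a).2 h2 ▸ mem_centralizer_singleton_iff.2 ?_)
    have h3 : x * (b⁻¹ * a : A) * x⁻¹ = (b⁻¹ * a : A) := congrArg Subtype.val h1
    exact mul_inv_eq_iff_eq_mul.1 h3
  ext a
  obtain ⟨b, rfl⟩ := Finite.surjective_of_injective hinj a
  have : l (σ b) = l b := DFunLike.congr_fun h b
  simp [this]

theorem cc_deg_eq [Fintype G] [Fintype A] {χ ψ : G → ℂ} (hχ : IsIrrCharacter G χ)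
    (hψ : IsIrrCharacter G ψ) (hne : χ ≠ ψ) {l m : A →* ℂˣ} (hl : l ≠ 1) (hm : m ≠ 1)
    (h1 : classInner (fun a : A => χ a) (lc l) = 1) (h2 : classInner (fun a : A => χ a) (lc m) = 0)
    (h3 : classInner (fun a : A => ψ a) (lc l) = 0)
    (h4 : classInner (fun a : A => ψ a) (lc m) = 1) : χ 1 = ψ 1 := by
  classical
  have hlm : l ≠ m := fun e => by rw [e, h2] at h1; exact zero_ne_one h1
  set α : A → ℂ := lc l - lc m with hα
  have hα1 : α 1 = 0 := by simp [hα]
  have hαα : classInner α α = 2 := by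
    simp only [hα, classInner_sub_left, classInner_sub_right, classInner_lc, if_true, if_neg hlm,
      if_neg hlm.symm]
    norm_num
  have key : ∀ x : G, classInner α (fun a : A => extendByZero A α (x * a * x⁻¹)) =
      if x ∈ A then 2 else 0 := by
    intro x
    split_ifs with hx
    · rw [← hαα]
      congr 1
      funext a
      have : x * a * x⁻¹ = a := by
        have : x * a = a * x := congrArg Subtype.val (cc_comm hA ⟨x, hx⟩ a)
        rw [this]; group
      rw [this, extendByZero_coe]
    by_cases hn : x ∈ normalizer (A : Set G)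
    · set σ := A.normalizerMonoidHom ⟨x, hn⟩ with hσ
      have e : (fun a : A => extendByZero A α (x * a * x⁻¹)) =
          lc (l.comp σ.toMonoidHom) - lc (m.comp σ.toMonoidHom) := by
        funext a
        exact extendByZero_coe A α (σ a)
      have inv : ∀ k : A →* ℂˣ, classInner (fun a : A => χ a) (lc (k.comp σ.toMonoidHom)) =
          classInner (fun a : A => χ a) (lc k) := fun k => by
        rw [← classInner_comp_equiv σ (fun a : A => χ a) (lc k)]
        congr 1
        funext a
        exact (hχ.isClassFunction.apply_conj a x).symm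
      have n1 : l ≠ l.comp σ.toMonoidHom := fun e => hl (cc_fpf hA hn hx e.symm)
      have n2 : m ≠ m.comp σ.toMonoidHom := fun e => hm (cc_fpf hA hn hx e.symm)
      have n3 : l ≠ m.comp σ.toMonoidHom := fun e => by
        have := inv m; rw [← e, h1, h2] at this; exact one_ne_zero this
      have n4 : m ≠ l.comp σ.toMonoidHom := fun e => by
        have := inv l; rw [← e, h1, h2] at this; exact zero_ne_one this
      rw [e]
      simp only [hα, classInner_sub_left, classInner_sub_right, classInner_lc, if_neg n1, if_neg n2,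
        if_neg n3, if_neg n4]
      norm_num
    · have : (fun a : A => extendByZero A α (x * a * x⁻¹)) = 0 := by
        funext a
        by_cases ha : (a : G) = 1
        · rw [ha, mul_one, mul_inv_cancel]; exact (extendByZero_coe A α 1).trans hα1
        · exact extendByZero_of_not_mem _ _ fun h => hn (cc_nm hA a.2 ha h)
      rw [this, classInner_zero_right]
  set θ := indFun A α with hθ
  have hθθ : classInner θ θ = 2 := by
    rw [hθ, frobenius_left A α (isClassFunction_indFun A α)]
    have : (fun a : A => indFun A α a) = (Nat.card A : ℂ)⁻¹ •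
        ∑ x : G, (fun a : A => extendByZero A α (x * a * x⁻¹)) := by
      funext a
      rw [indFun_apply']; simp
    rw [this, classInner_smul_right, classInner_sum_right]
    simp only [key, Finset.sum_ite, Finset.sum_const_zero, add_zero, Finset.sum_const]
    have hc : (Finset.univ.filter fun x : G => x ∈ A).card = Nat.card A := by
      rw [Nat.card_eq_fintype_card, Fintype.card_subtype]
    rw [hc, map_inv₀, map_natCast, nsmul_eq_mul, ← mul_assoc, inv_mul_cancel₀ (card_ne_zero' A),
      one_mul]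
  have k1 : classInner χ θ = 1 := by
    rw [hθ, frobenius_right A α hχ.isClassFunction, hα, classInner_sub_right, h1, h2]; norm_num
  have k2 : classInner ψ θ = -1 := by
    rw [hθ, frobenius_right A α hψ.isClassFunction, hα, classInner_sub_right, h3, h4]; norm_num
  have k3 : classInner θ χ = 1 := by rw [← conj_classInner, k1, map_one]
  have k4 : classInner θ ψ = -1 := by rw [← conj_classInner, k2, map_neg, map_one]
  have k5 : θ - (χ - ψ) = 0 := by
    rw [← classInner_self_eq_zero]
    simp only [classInner_sub_left, classInner_sub_right, hθθ, k1, k2, k3, k4, hχ.classInner_self,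
      hψ.classInner_self, hχ.classInner_of_ne hψ hne, hψ.classInner_of_ne hχ hne.symm]
    norm_num
  have k6 := congrFun k5 1
  rw [Pi.sub_apply, hθ, indFun_one, hα1, mul_zero] at k6
  exact Eq.symm (by simpa [sub_eq_zero] using k6)

theorem cc_isolated [Finite G] [IsSimpleGroup G] (hna : ¬ IsMulCommutative G) {y : G} (hy : y ≠ 1)
    (hi : (centralizer ({y} : Set G)).index = Nat.card A)
    (hc : (Nat.card A).Coprime (Nat.card (centralizer ({y} : Set G)))) (g : G)
    (hg : Commute y (g * y * g⁻¹)) : g * y * g⁻¹ = y := by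
  classical
  have := Fintype.ofFinite G
  have := Fintype.ofFinite A
  set B := centralizer ({y} : Set G) with hB
  have := Fintype.ofFinite B
  set π := indFun B (fun _ => 1) with hπ
  have hπc : IsCharacter G π := isCharacter_one.ind
  have hres : (fun a : A => π a) = regChar A := by
    funext a
    by_cases ha : a = 1
    · rw [ha, regChar_one, coe_one, hπ, indFun_one, hi, mul_one]
    · rw [regChar_of_ne ha]
      refine indFun_eq_zero _ _ _ fun x hx => absurd ?_ ha
      have h1 : orderOf (x * a * x⁻¹) ∣ Nat.card B := B.orderOf_dvd_natCard hx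
      rw [← MulAut.conj_apply, MulEquiv.orderOf_eq, orderOf_coe] at h1
      exact orderOf_eq_one_iff.1 (Nat.eq_one_of_dvd_coprimes hc (orderOf_dvd_natCard a) h1)
  obtain ⟨c, hc1, hc2⟩ := hπc.exists_coeff
  have hone : c (irrOne G) = 1 := by
    have := hc1 (irrOne G)
    rw [hπ, frobenius_left B _ (irrOne G).2.isClassFunction] at this
    have h2 := (isIrrCharacter_one (G := B)).classInner_self
    exact_mod_cast (this.symm.trans h2)
  -- multiplicities on `A`
  have hmul : ∀ (χ : IrrCharacter G) (l : A →* ℂˣ), ∃ n : ℕ,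
      classInner (fun a : A => (χ : G → ℂ) a) (lc l) = n := fun χ l =>
    (χ.2.isCharacter.res A).classInner_eq_nat (isIrr_lc l).isCharacter
  choose e he using hmul
  have hsum : ∀ l, ∑ χ, c χ * e χ l = 1 := fun l => by
    have h1 : classInner (fun a : A => π a) (lc l) = 1 := by
      rw [hres, classInner_regChar_left]; simp
    have h2 : (fun a : A => π a) = ∑ χ : IrrCharacter G, (c χ : ℂ) • fun a : A => (χ : G → ℂ) a := by
      funext a
      conv_lhs => rw [hc2]
      simp
    rw [h2, classInner_sum_left] at h1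
    simp only [classInner_smul_left, he] at h1
    exact_mod_cast h1
  have huniq : ∀ l χ ψ, c χ ≠ 0 → e χ l ≠ 0 → c ψ ≠ 0 → ψ ≠ χ → e χ l = 1 ∧ e ψ l = 0 := by
    intro l χ ψ h1 h2 h3 h4
    have := Finset.add_le_sum (f := fun χ => c χ * e χ l) (s := Finset.univ)
      (fun _ _ => Nat.zero_le _) (Finset.mem_univ χ) (Finset.mem_univ ψ) h4.symm
    rw [hsum] at this
    have a1 : 1 ≤ c χ * e χ l := Nat.pos_of_ne_zero (mul_ne_zero h1 h2)
    have a2 : c χ * e χ l = 1 := by omega
    have a3 : c ψ * e ψ l = 0 := by omega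
    exact ⟨Nat.eq_one_of_mul_eq_one_left a2, (mul_eq_zero.1 a3).resolve_left h3⟩
  have he1 : e (irrOne G) 1 = 1 := by
    have := he (irrOne G) 1
    rw [lc_one] at this
    have h2 := (isIrrCharacter_one (G := A)).classInner_self
    exact_mod_cast (this.symm.trans h2)
  have hex : ∀ χ, c χ ≠ 0 → χ ≠ irrOne G → ∃ l, l ≠ 1 ∧ e χ l ≠ 0 := by
    intro χ h1 h2
    obtain ⟨θ, hθ, hθ2⟩ := χ.2.exists_irr_under A
    obtain ⟨l, hl⟩ := (lcEquiv (cc_comm hA)).surjective ⟨θ, hθ⟩
    have hl' : lc l = θ := congrArg Subtype.val hl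
    have : e χ l ≠ 0 := fun h => hθ2 (by rw [← hl', he, h, Nat.cast_zero])
    refine ⟨l, fun h => this ?_, this⟩
    rw [h]
    exact (huniq 1 (irrOne G) χ (by omega) (by omega) h1 h2).2
  have hdeg : ∀ χ ψ, c χ ≠ 0 → χ ≠ irrOne G → c ψ ≠ 0 → ψ ≠ irrOne G →
      (χ : G → ℂ) 1 = (ψ : G → ℂ) 1 := by
    intro χ ψ h1 h2 h3 h4
    by_cases h : χ = ψ
    · rw [h]
    obtain ⟨l, hl, hl2⟩ := hex χ h1 h2
    obtain ⟨m, hm, hm2⟩ := hex ψ h3 h4
    obtain ⟨a1, a2⟩ := huniq l χ ψ h1 hl2 h3 (Ne.symm h)
    obtain ⟨a3, a4⟩ := huniq m ψ χ h3 hm2 h1 h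
    exact cc_deg_eq hA χ.2 ψ.2 (fun e => h (Subtype.ext e)) hl hm (by rw [he, a1, Nat.cast_one])
      (by rw [he, a4, Nat.cast_zero]) (by rw [he, a2, Nat.cast_zero]) (by rw [he, a3, Nat.cast_one])
  have hsplit : ∀ x, π x = 1 + ∑ χ ∈ Finset.univ.erase (irrOne G), (c χ : ℂ) * (χ : G → ℂ) x := by
    intro x
    conv_lhs => rw [hc2]
    rw [Finset.sum_apply, ← Finset.add_sum_erase _ _ (Finset.mem_univ (irrOne G))]
    simp [hone]
  have hzero : ∀ χ, c χ ≠ 0 → χ ≠ irrOne G → (χ : G → ℂ) y = 0 := by
    intro χ h1 h2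
    obtain ⟨d, -, hd⟩ := χ.2.exists_degree
    have h3 : (Nat.card A : ℂ) = 1 + d * ∑ ψ ∈ Finset.univ.erase (irrOne G), (c ψ : ℂ) := by
      have := hsplit 1
      rw [hπ, indFun_one, hi, mul_one] at this
      rw [this, Finset.mul_sum]
      congr 1
      refine Finset.sum_congr rfl fun ψ hψ => ?_
      by_cases h : c ψ = 0
      · simp [h]
      · rw [hdeg ψ χ h (Finset.mem_erase.1 hψ).1 h1 h2, hd, mul_comm]
    have h4 : Nat.card A = 1 + d * ∑ ψ ∈ Finset.univ.erase (irrOne G), c ψ := by exact_mod_cast h3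
    have h5 : d.Coprime B.index := by
      rw [hi, h4, Nat.coprime_add_mul_left_right]; exact Nat.coprime_one_right _
    refine (χ.2.eq_zero_or_norm_eq_of_coprime hd h5).resolve_right fun h => ?_
    have hk : charKer (χ : G → ℂ) = ⊥ :=
      (χ.2.isCharacter.normal_charKer.eq_bot_or_eq_top).resolve_right
        (χ.2.charKer_ne_top fun e => h2 (Subtype.ext e))
    have := χ.2.isCharacter.mem_charCenter.2 h
    rw [χ.2.charCenter_eq_center hk] at this
    rcases (inferInstance : (center G).Normal).eq_bot_or_eq_top with h | h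
    · rw [h, mem_bot] at this; exact hy this
    · exact hna (center_eq_top_iff.1 h)
  have hy1 : π y = 1 := by
    rw [hsplit, Finset.sum_eq_zero, add_zero]
    intro χ hχ
    by_cases h : c χ = 0
    · simp [h]
    · rw [hzero χ h (Finset.mem_erase.1 hχ).1, mul_zero]
  rw [hπ, indFun_one_eq_card_fixedBy_quotient] at hy1
  have hs : Subsingleton (MulAction.fixedBy (G ⧸ B) y) :=
    (Nat.card_eq_one_iff_unique.1 (by exact_mod_cast hy1)).1
  have hmem : ∀ x : G, x⁻¹ * y * x ∈ B → ((x : G ⧸ B)) ∈ MulAction.fixedBy (G ⧸ B) y := by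
    intro x hx
    rw [MulAction.mem_fixedBy, MulAction.Quotient.smul_coe, QuotientGroup.eq]
    simpa [mul_assoc] using inv_mem hx
  have := hs.elim ⟨_, hmem g⁻¹ (mem_centralizer_singleton_iff.2 (by simpa using hg.symm.eq))⟩
    ⟨_, hmem 1 (mem_centralizer_singleton_iff.2 (by simp))⟩
  have h2 := QuotientGroup.eq.1 (congrArg Subtype.val this)
  rw [inv_inv, mul_one] at h2
  rw [mem_centralizer_singleton_iff.1 h2]; group

end CC

end Cfsg.Agent.Ez
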