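import Cfsg.Agent.Lib.Ez.D2
import Cfsg.Agent.Lib.Ez.B2
import Cfsg.Agent.Lib.BG.Cls2

set_option autoImplicit false

namespace Cfsg.Agent.Ez

open Subgroup Cfsg.Agent.Comp Cfsg.Agent.BG

universe u
variable {G : Type u} [Group G] [Finite G]

/-- the class size of `x` is maximal under divisibility -/
def Mx (x : G) : Prop := ∀ y : G, C1(x).index ∣ C1(y).index → C1(y).index = C1(x).index

theorem Mx.eq_of_le {x y : G} (h : Mx x) (h1 : C1(y) ≤ C1(x)) : C1(y) = C1(x) :=
  C1_eq_of_le h1 (h y (index_dvd_of_le h1))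

theorem Mx.le {x y : G} (h : Mx x) (hc : Commute x y) (ho : (orderOf x).Coprime (orderOf y)) :
    C1(x) ≤ C1(y) := by
  have e := C1_mul_of_coprime hc ho
  rw [← h.eq_of_le (e.le.trans inf_le_left), e]; exact inf_le_right

theorem cop_of_pg {p q : ℕ} (hp : p.Prime) (hq : q.Prime) (hne : p ≠ q) {P Q : Subgroup G}
    (hP : IsPGroup p P) (hQ : IsPGroup q Q) {x y : G} (hx : x ∈ P) (hy : y ∈ Q) :
    (orderOf x).Coprime (orderOf y) := by
  have := Fact.mk hp
  have := Fact.mk hq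
  obtain ⟨i, hi⟩ := IsPGroup.iff_orderOf.1 hP ⟨x, hx⟩
  obtain ⟨j, hj⟩ := IsPGroup.iff_orderOf.1 hQ ⟨y, hy⟩
  rw [← orderOf_coe] at hi hj
  rw [hi, hj]; exact Nat.coprime_pow_primes _ _ hp hq hne

omit [Finite G] in
theorem mem_C1_symm {x y : G} (h : x ∈ C1(y)) : y ∈ C1(x) :=
  mem_centralizer_singleton_iff.2 (mem_centralizer_singleton_iff.1 h).symm

theorem le_of_syl {M K : Subgroup G}
    (h : ∀ q : ℕ, q.Prime → ∃ P, SylIn q P M ∧ P ≤ K) : M ≤ K := by
  have := eq_of_forall_sylIn (H := M ⊓ K) inf_le_left fun q hq _ => by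
    obtain ⟨P, h1, h2⟩ := h q hq
    exact ⟨P, h1, le_inf h1.le h2⟩
  rw [← this]; exact inf_le_right

section
variable (h : ∀ x : G, x ≠ 1 → IsPGroup 2 (zpowers x) → Mx x)
include h

theorem mx_syl {x : G} (h1 : x ≠ 1) (h2 : IsPGroup 2 (zpowers x)) :
    ∃ S, SylIn 2 S ⊤ ∧ x ∈ S ∧ S ≤ C1(x) := by
  obtain ⟨T, k1, k2⟩ := exists_sylIn_ge h2 (C1_le_of_mem_zpowers (mem_zpowers x) |>.trans' (by
    rw [zpowers_le]; exact mem_centralizer_singleton_iff.2 rfl))
  obtain ⟨S, k3, k4⟩ := exists_sylIn_ge k2.isP le_top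
  have hx : x ∈ S := k3 (k1 (mem_zpowers x))
  obtain ⟨u, hu, ho, hS⟩ := exists_central_orderOf k4.isP (fun e => h1 (by rwa [e, mem_bot] at hx))
  have : C1(x) ≤ C1(u) := le_of_syl fun q hq => by
    by_cases e : q = 2
    · subst e; exact ⟨T, k2, k3.trans hS⟩
    obtain ⟨R, hR⟩ := exists_sylIn q C1(x)
    refine ⟨R, hR, fun y hy => mem_C1_symm ((h x h1 h2).le
      (mem_centralizer_singleton_iff.1 (hR.le hy)).symm
      (cop_of_pg Nat.prime_two hq (Ne.symm e) h2 hR.isP (mem_zpowers x) hy) (mem_C1_symm (hS hx)))⟩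
  refine ⟨S, k4, hx, ?_⟩
  rw [(h u (fun e => by rw [e, orderOf_one] at ho; omega)
    (k4.isP.to_le (zpowers_le.2 hu))).eq_of_le this]
  exact hS

theorem mx_pow {x : G} (h2 : IsPGroup 2 (zpowers x)) {k : ℕ} (h1 : x ^ k ≠ 1) :
    C1(x) = C1(x ^ k) :=
  (h _ h1 (h2.to_le (zpowers_le.2 (npow_mem_zpowers x k)))).eq_of_le
    (C1_le_of_mem_zpowers (npow_mem_zpowers x k))

theorem mx_abel {T : Subgroup G} (hT : IsPGroup 2 T) {x : G} (hx : x ∈ T) : T ≤ C1(x) := by
  by_cases hA : ∀ a ∈ T, a ^ 2 = 1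
  · intro y hy
    have := hA _ (mul_mem hy hx)
    rw [mem_centralizer_singleton_iff]
    calc y * x = (y * x)⁻¹ := eq_inv_of_mul_eq_one_left (by rw [← pow_two, this])
      _ = _ := by
        rw [mul_inv_rev, ← eq_inv_of_mul_eq_one_left ((pow_two x).symm.trans (hA x hx)),
          ← eq_inv_of_mul_eq_one_left ((pow_two y).symm.trans (hA y hy))]
  push Not at hA
  obtain ⟨a, ha, ha2⟩ := hA
  have pa := hT.to_le (zpowers_le.2 ha)
  obtain ⟨S, k1, k2, k3⟩ := mx_syl h (fun e => ha2 (by rw [e, one_pow])) pa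
  have inv : ∀ b ∈ S, b ^ 2 = 1 → S ≤ C1(b) := by
    intro b hb hb2 y hy
    have hc : Commute a b := (mem_centralizer_singleton_iff.1 (k3 hb)).symm
    have e : (a * b) ^ 2 = a ^ 2 := by rw [hc.mul_pow, hb2, mul_one]
    have e1 := mx_pow h (k1.isP.to_le (zpowers_le.2 (mul_mem k2 hb))) (e ▸ ha2)
    rw [e, ← mx_pow h pa ha2] at e1
    have := mul_mem (inv_mem (mem_C1_symm (k3 hy))) (mem_C1_symm (e1.ge (k3 hy)))
    exact mem_C1_symm (by simpa using this)
  have ab : ∀ b ∈ S, S ≤ C1(b) := by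
    intro b hb
    by_cases h1 : b = 1
    · intro y _; simp [h1, mem_centralizer_singleton_iff]
    obtain ⟨k, hk⟩ := IsPGroup.iff_orderOf.1 k1.isP ⟨b, hb⟩
    rw [← orderOf_coe] at hk
    have h2 : 2 ∣ orderOf b := by
      rw [hk]; exact dvd_pow_self 2 fun e => h1 (by rwa [e, pow_zero, orderOf_eq_one_iff] at hk)
    have ho := orderOf_pow_orderOf_div (x := b) (orderOf_pos b).ne' h2
    rw [mx_pow h (k1.isP.to_le (zpowers_le.2 hb)) (k := orderOf b / 2)
      (fun e => by rw [e, orderOf_one] at ho; omega)]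
    exact inv _ (pow_mem hb _) (orderOf_dvd_iff_pow_eq_one.1 ho.dvd)
  obtain ⟨g, -, hg⟩ := k1.exists_cj_le hT le_top
  intro y hy
  have := mem_centralizer_singleton_iff.1 (ab _ (hg (conj_mem_cj.2 hx)) (hg (conj_mem_cj.2 hy)))
  rw [mem_centralizer_singleton_iff]
  calc y * x = g⁻¹ * (g * y * g⁻¹ * (g * x * g⁻¹)) * g := by group
    _ = _ := by rw [this]; group

theorem mx_ac (t : G) (ht : orderOf t = 2) (a b : G) (ha : Commute a t) (hb : Commute b t) :
    Commute a b := by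
  have h1 : t ≠ 1 := fun e => by rw [e, orderOf_one] at ht; omega
  have h2 : IsPGroup 2 (zpowers t) := IsPGroup.of_card (n := 1) (by rw [Nat.card_zpowers, ht]; rfl)
  have k : ∀ q : ℕ, q.Prime → q ≠ 2 → ∀ R, SylIn q R C1(t) → ∀ y ∈ R, C1(t) ≤ C1(y) :=
    fun q hq e R hR y hy => (h t h1 h2).le (mem_centralizer_singleton_iff.1 (hR.le hy)).symm
      (cop_of_pg Nat.prime_two hq (Ne.symm e) h2 hR.isP (mem_zpowers t) hy)
  have : C1(t) ≤ Ct(C1(t)) := le_of_syl fun q hq => by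
    obtain ⟨R, hR⟩ := exists_sylIn q C1(t)
    refine ⟨R, hR, fun y hy => mem_centralizer_iff.2 fun z hz => ?_⟩
    suffices C1(t) ≤ C1(y) from mem_centralizer_singleton_iff.1 (this hz)
    by_cases e : q = 2
    · subst e
      refine le_of_syl fun r hr => ?_
      by_cases e : r = 2
      · subst e; exact ⟨R, hR, mx_abel h hR.isP hy⟩
      obtain ⟨R', hR'⟩ := exists_sylIn r C1(t)
      exact ⟨R', hR', fun w hw => mem_C1_symm (k r hr e R' hR' w hw (hR.le hy))⟩
    · exact k q hq e R hR y hy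
  exact mem_centralizer_iff.1 (this (mem_centralizer_singleton_iff.2 hb.eq)) a
    (mem_centralizer_singleton_iff.2 ha.eq)

end

theorem not_commute_of_cop [IsSimpleGroup G] (hna : ¬ IsMulCommutative G) {z w : G} (hz : z ≠ 1)
    (hw : w ≠ 1) (h : C1(z).index.Coprime C1(w).index) : ¬ Commute z w := by
  intro hc
  have h1 : normalClosure {z} ≤ C1(w) := by
    rw [normalClosure, closure_le]
    intro y hy
    obtain ⟨a, rfl, ha⟩ := Group.mem_conjugatesOfSet_iff.1 hy
    obtain ⟨g, rfl⟩ := isConj_iff.1 ha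
    obtain ⟨c, hc1, d, hd, e⟩ := Solv.isProd_top_of_coprime h.symm g trivial
    rw [e]
    have : c * d * a * (c * d)⁻¹ = c * a * c⁻¹ := by
      rw [mul_assoc c, mem_centralizer_singleton_iff.1 hd]; group
    rw [this]
    exact mul_mem (mul_mem hc1 (mem_centralizer_singleton_iff.2 hc.eq)) (inv_mem hc1)
  rcases (normalClosure_normal (s := {z})).eq_bot_or_eq_top with e | e
  · exact hz (mem_bot.1 (e ▸ subset_normalClosure rfl))
  · have := C1_eq_top_iff.1 (top_le_iff.1 (e ▸ h1))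
    rcases (inferInstance : (center G).Normal).eq_bot_or_eq_top with h | h
    · rw [h, mem_bot] at this; exact hw this
    · exact hna (center_eq_top_iff.1 h)

theorem mx_of_three [IsSimpleGroup G] (hna : ¬ IsMulCommutative G)
    (h3 : Set.ncard {m : ℕ | ∃ x : G, x ∉ center G ∧ m = C1(x).index} = 3)
    (x : G) (hx : x ≠ 1) (h2 : IsPGroup 2 (zpowers x)) : Mx x := by
  have hZ : ∀ y : G, y ∈ center G ↔ y = 1 := fun y => by
    rcases (inferInstance : (center G).Normal).eq_bot_or_eq_top with h | h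
    · rw [h, mem_bot]
    · exact absurd (center_eq_top_iff.1 h) hna
  have n1 : ∀ y : G, y ≠ 1 → C1(y).index ≠ 1 := fun y hy e => hy ((hZ y).1 (index_C1_eq_one.1 e))
  have i1 : C1((1 : G)).index = 1 := index_C1_eq_one.2 (one_mem _)
  intro y0 hd
  by_contra hne
  set β := C1(x).index with hβ
  set γ := C1(y0).index with hγ
  have hβ1 : β ≠ 1 := n1 x hx
  have hy0 : y0 ≠ 1 := fun e => hβ1 (by rw [hγ, e, i1] at hd; exact Nat.dvd_one.1 hd)
  obtain ⟨α, hα⟩ : ∃ α, ∀ y : G, y ≠ 1 → C1(y).index = α ∨ C1(y).index = β ∨ C1(y).index = γ := by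
    obtain ⟨a, b, c, -, -, -, e⟩ := Set.ncard_eq_three.1 h3
    have k : ∀ y : G, y ≠ 1 → C1(y).index = a ∨ C1(y).index = b ∨ C1(y).index = c := fun y hy => by
      have : C1(y).index ∈ ({a, b, c} : Set ℕ) := e ▸ ⟨y, mt (hZ y).1 hy, rfl⟩
      simpa using this
    have k1 := k x hx
    have k2 := k y0 hy0
    rw [← hβ] at k1
    rw [← hγ] at k2
    refine ⟨a + b + c - β - γ, fun y hy => ?_⟩
    have := k y hy
    omega
  have hβG : β ∣ Nat.card G := index_dvd_card _
  have hγβ : ¬ γ ∣ β := fun e => hne (Nat.dvd_antisymm e hd)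
  -- `p`-central elements
  have cen : ∀ p : ℕ, p.Prime → p ∣ β → ∃ z : G, orderOf z = p ∧ C1(z).index = α ∧ ¬ p ∣ α := by
    intro p hp hpβ
    have := Fact.mk hp
    obtain ⟨P, hP⟩ := exists_sylIn p (⊤ : Subgroup G)
    obtain ⟨z, -, ho, hz⟩ := exists_central_orderOf hP.isP (fun e => hP.eq_bot_iff.1 e (by
      rw [card_top]; exact hpβ.trans hβG))
    have k := hP.not_dvd_relIndex_of_le hz le_top
    rw [relIndex_top_right] at k
    rcases hα z (fun e => by rw [e, orderOf_one] at ho; exact hp.one_lt.ne ho) with e | e | e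
    · exact ⟨z, ho, e, e ▸ k⟩
    · exact absurd (e ▸ hpβ) k
    · exact absurd (e ▸ hpβ.trans hd) k
  have cop : α.Coprime β := Nat.coprime_of_dvd fun p hp h1 h2 => by
    obtain ⟨z, -, -, h⟩ := cen p hp h2; exact h h1
  have ne1 : ∀ {z : G} {p : ℕ}, p.Prime → orderOf z = p → z ≠ 1 := fun hp ho e => by
    rw [e, orderOf_one] at ho; exact hp.one_lt.ne ho
  have nc : ∀ z w : G, z ≠ 1 → w ≠ 1 → C1(z).index = α → C1(w).index = β → ¬ Commute z w :=
    fun z w h1 h2 h3 h4 => not_commute_of_cop hna h1 h2 (by rw [h3, h4]; exact cop)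
  have mγ : ∀ v : G, C1(v).index = γ → Mx v := by
    intro v hv y hy
    rw [hv] at hy ⊢
    by_cases h1 : y = 1
    · rw [h1, i1] at hy; exact absurd (Nat.dvd_one.1 (hd.trans hy)) hβ1
    rcases hα y h1 with e | e | e
    · exact absurd (cop.symm.eq_one_of_dvd (hd.trans (e ▸ hy))) hβ1
    · exact absurd (e ▸ hy) hγβ
    · exact e
  -- two primes dividing `β`
  obtain ⟨p, hp, p', hp', hpp⟩ : ∃ p ∈ β.primeFactors, ∃ p' ∈ β.primeFactors, p ≠ p' := by
    refine Finset.one_lt_card.1 ?_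
    by_contra hlt
    have h1 : β.primeFactors.card = 1 := by
      have := Finset.card_pos.2 (Nat.nonempty_primeFactors.2
        (show 1 < β by have : β ≠ 0 := index_ne_zero_of_finite; omega))
      omega
    obtain ⟨r, k, hr, -, e⟩ := (isPrimePow_nat_iff _).1 (isPrimePow_iff_card_primeFactors_eq_one.2 h1)
    have := Fact.mk (Char.prime_card_of_simple_of_class_prime_pow hr hx e.symm)
    exact hna (isCyclic_of_prime_card (p := Nat.card G) rfl).isMulCommutative
  have hpd := Nat.dvd_of_mem_primeFactors hp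
  have hpd' := Nat.dvd_of_mem_primeFactors hp'
  replace hp := Nat.prime_of_mem_primeFactors hp
  replace hp' := Nat.prime_of_mem_primeFactors hp'
  have hcard : ∀ z : G, C1(z).index = α → Nat.card (C1(z) ⊓ C1(x) : Subgroup G) * (α * β) =
      Nat.card G := fun z hz => by
    have e := (Solv.isProd_top_of_coprime (H := C1(x)) (K := C1(z))
      (by rw [hz]; exact cop.symm)).relIndex_eq_index
    rw [← card_mul_index (C1(z) ⊓ C1(x)), ← relIndex_mul_index (inf_le_right : C1(z) ⊓ C1(x) ≤ _),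
      inf_relIndex_right, e, hz]
  have only : ∀ {z : G} {p : ℕ}, p.Prime → orderOf z = p → C1(z).index = α → ∀ r : ℕ, r.Prime →
      r ∣ Nat.card (C1(z) ⊓ C1(x) : Subgroup G) → r = p := by
    intro z p hp ho hz r hr hrd
    by_contra hrp
    have := Fact.mk hr
    obtain ⟨⟨v, hv⟩, hvo⟩ := exists_prime_orderOf_dvd_card' r hrd
    rw [← orderOf_coe] at hvo
    have c1 : Commute v z := mem_centralizer_singleton_iff.1 (mem_inf.1 hv).1
    have c2 : Commute v x := mem_centralizer_singleton_iff.1 (mem_inf.1 hv).2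
    rcases hα v (ne1 hr hvo) with e | e | e
    · exact nc v x (ne1 hr hvo) hx e rfl c2
    · exact nc z v (ne1 hp ho) (ne1 hr hvo) hz e c1.symm
    · have := (mγ v e).le c1 (by rw [hvo, ho]; exact (Nat.coprime_primes hr hp).2 hrp)
        (mem_centralizer_singleton_iff.2 c2.symm.eq)
      exact nc z x (ne1 hp ho) hx hz rfl (mem_centralizer_singleton_iff.1 this).symm
  obtain ⟨z, ho, hz, hpα⟩ := cen p hp hpd
  obtain ⟨z₁, ho₁, hz₁, -⟩ := cen p' hp' hpd'
  have hG : Nat.card G = α * β := by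
    have e1 := hcard z hz
    have e2 := hcard z₁ hz₁
    have pos : 0 < α * β := Nat.pos_of_mul_pos_left (a := Nat.card (C1(z) ⊓ C1(x) : Subgroup G))
      (e1 ▸ Nat.card_pos)
    have e3 := Nat.eq_of_mul_eq_mul_right pos (e1.trans e2.symm)
    have : Nat.card (C1(z) ⊓ C1(x) : Subgroup G) = 1 := Nat.eq_one_iff_not_exists_prime_dvd.2
      fun r hr hrd => hpp ((only hp ho hz r hr hrd).symm.trans (only hp' ho₁ hz₁ r hr (e3 ▸ hrd)))
    rw [← e1, this, one_mul]
  have hα0 : 0 < α := Nat.pos_of_mul_pos_right (hG ▸ Nat.card_pos)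
  have hβ0 : 0 < β := Nat.pos_of_mul_pos_left (hG ▸ Nat.card_pos)
  have cα : ∀ v : G, C1(v).index = α → Nat.card C1(v) = β := fun v hv =>
    Nat.eq_of_mul_eq_mul_right hα0 (by rw [← hv, card_mul_index, hG, hv, mul_comm])
  have cβ : ∀ v : G, C1(v).index = β → Nat.card C1(v) = α := fun v hv =>
    Nat.eq_of_mul_eq_mul_right hβ0 (by rw [← hv, card_mul_index, hG, hv])
  have mα : ∀ v : G, C1(v).index = α → Mx v := by
    intro v hv y hy
    rw [hv] at hy ⊢
    have hα1 : α ≠ 1 := hz ▸ n1 z (ne1 hp ho)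
    by_cases h1 : y = 1
    · rw [h1, i1] at hy; exact absurd (Nat.dvd_one.1 hy) hα1
    rcases hα y h1 with e | e | e
    · exact e
    · exact absurd (cop.eq_one_of_dvd (e ▸ hy)) hα1
    · exfalso
      have k1 : Nat.card G ∣ γ := hG ▸ cop.mul_dvd_of_dvd_of_dvd (e ▸ hy) hd
      have k2 := card_mul_index C1(y0)
      rw [Nat.dvd_antisymm (index_dvd_card C1(y0)) k1] at k2
      have k3 := card_eq_one.1 ((Nat.mul_eq_right Nat.card_pos.ne').1 k2)
      exact hy0 (mem_bot.1 (k3 ▸ mem_centralizer_singleton_iff.2 rfl))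
  have tA : ∀ a ∈ C1(z), a ≠ 1 → C1(a).index = α := by
    intro a ha h1
    have c1 : Commute a z := mem_centralizer_singleton_iff.1 ha
    rcases hα a h1 with e | e | e
    · exact e
    · exact absurd c1.symm (nc z a (ne1 hp ho) h1 hz e)
    · exfalso
      have k1 : p ∣ Nat.card C1(a) := ho ▸ C1(a).orderOf_dvd_natCard (mem_C1_symm ha)
      obtain ⟨c, hc⟩ := hd
      have k2 := card_mul_index C1(a)
      rw [e, hc, hG, mul_comm β, ← mul_assoc] at k2
      exact hpα (Nat.eq_of_mul_eq_mul_right hβ0 k2 ▸ k1.mul_right c)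
  have := Fact.mk hp'
  obtain ⟨⟨z', hz'⟩, ho'⟩ := exists_prime_orderOf_dvd_card' (G := C1(z)) p' (cα z hz ▸ hpd')
  rw [← orderOf_coe] at ho'
  have hz'α := tA z' hz' (ne1 hp' ho')
  have eqz : C1(z) = C1(z') := C1_eq_of_le ((mα z hz).le
    (mem_centralizer_singleton_iff.1 hz').symm
    (by rw [ho, ho']; exact (Nat.coprime_primes hp hp').2 hpp)) (hz.trans hz'α.symm)
  have abA : C1(z) ≤ Ct(C1(z)) := le_of_syl fun q hq => by
    obtain ⟨R, hR⟩ := exists_sylIn q C1(z)
    refine ⟨R, hR, fun y hy => mem_centralizer_iff.2 fun w hw => ?_⟩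
    suffices C1(z) ≤ C1(y) from mem_centralizer_singleton_iff.1 (this hw)
    have := Fact.mk hp
    by_cases e : q = p
    · rw [eqz]
      exact (mα z' hz'α).le (mem_centralizer_singleton_iff.1 (eqz.le (hR.le hy))).symm
        (cop_of_pg hp' hq (e ▸ hpp.symm) (IsPGroup.of_card (n := 1)
          (by rw [Nat.card_zpowers, ho', pow_one])) hR.isP (mem_zpowers z') hy)
    · exact (mα z hz).le (mem_centralizer_singleton_iff.1 (hR.le hy)).symm
        (cop_of_pg hp hq (Ne.symm e) (IsPGroup.of_card (n := 1)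
          (by rw [Nat.card_zpowers, ho, pow_one])) hR.isP (mem_zpowers z) hy)
  have hA : ∀ a ∈ C1(z), a ≠ 1 → C1(a) = C1(z) := fun a ha h1 =>
    (C1_eq_of_le (fun w hw => mem_centralizer_singleton_iff.2
      (mem_centralizer_iff.1 (abA ha) w hw)) (hz.trans (tA a ha h1).symm)).symm
  obtain ⟨k, hk⟩ := IsPGroup.iff_orderOf.1 h2 ⟨x, mem_zpowers x⟩
  rw [← orderOf_coe] at hk
  have h2x : 2 ∣ orderOf x := by
    rw [hk]; exact dvd_pow_self 2 fun e => hx (by rwa [e, pow_zero, orderOf_eq_one_iff] at hk)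
  have hot := orderOf_pow_orderOf_div (x := x) (orderOf_pos x).ne' h2x
  set t := x ^ (orderOf x / 2)
  have ht1 := ne1 Nat.prime_two hot
  have htβ : C1(t).index = β := by
    have k1 : C1(t).index ∣ β := index_C1_dvd_of_mem_zpowers (npow_mem_zpowers x _)
    rcases hα t ht1 with e | e | e
    · exact absurd (cop.eq_one_of_dvd (e ▸ k1)) (e ▸ n1 t ht1)
    · exact e
    · exact absurd (e ▸ k1) hγβ
  refine (simple_facts (G := G) fun e => ?_).2 t ⟨hot, cc_isolated hA hna ht1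
    (by rw [htβ, cα z hz]) (by rw [cβ t htβ, cα z hz]; exact cop.symm)⟩
  have := Fact.mk Nat.prime_two
  exact hna (isCyclic_of_prime_card e).isMulCommutative

theorem L2.three {q : ℕ} (h : L2 G 2 q) (hq : 4 ≤ q) (hZ : center G = ⊥) :
    Set.ncard {m : ℕ | ∃ x : G, x ∉ center G ∧ m = C1(x).index} = 3 := by
  obtain ⟨f, hf, e⟩ := h.pw
  have hev : 2 ∣ q := e ▸ dvd_pow_self 2 hf.ne'
  have hg : Nat.gcd 2 (q - 1) = 1 := (Nat.Prime.coprime_iff_not_dvd Nat.prime_two).2 (by omega)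
  have hG := h.card
  rw [hg, mul_one] at hG
  have tor : ∀ a : G, a ^ 2 ≠ 1 → Nat.card C1(a) = q + 1 ∨ Nat.card C1(a) = q - 1 := by
    intro a ha
    obtain ⟨t, s, a1, a2, a3, a4, -, a6⟩ := h.tor a ha
    rw [hg, mul_one] at a1
    have : C1(a) = zpowers t := by
      refine le_antisymm (fun g hg => ?_) (zpowers_le.2 (C1_le_of_mem_zpowers a2
        (mem_centralizer_singleton_iff.2 rfl)))
      have k := mul_inv_eq_iff_eq_mul.2 (mem_centralizer_singleton_iff.1 hg)
      refine (a6 g (.inl k)).resolve_right fun c => ha ?_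
      have := (refl_of a3 a4 c).2 a a2
      rw [k] at this
      rw [pow_two]; exact mul_eq_one_iff_eq_inv.2 this
    rw [this, Nat.card_zpowers]; exact a1
  have uni : ∀ a : G, a ≠ 1 → a ^ 2 = 1 → Nat.card C1(a) = q := by
    intro a h1 h2
    refine Nat.dvd_antisymm (h.card_dvd fun b => ⟨1, Subtype.ext (by
      simpa using h.cent_uni h1 h2 b.2)⟩) ?_
    have pa : IsPGroup 2 (zpowers a) := IsPGroup.of_card (n := 1) (by
      rw [Nat.card_zpowers, orderOf_eq_prime h2 h1]; rfl)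
    obtain ⟨S, k1, k2⟩ := exists_sylIn_ge pa le_top
    have sq : ∀ x ∈ S, x ^ 2 = 1 := fun x hx => by
      by_contra hx2
      obtain ⟨k, hk⟩ := IsPGroup.iff_orderOf.1 k2.isP ⟨x, hx⟩
      rw [← orderOf_coe] at hk
      have k3 : 2 ∣ orderOf x := by
        rw [hk]; exact dvd_pow_self 2 fun e => hx2 (by
          rw [e, pow_zero, orderOf_eq_one_iff] at hk; rw [show x = 1 from hk, one_pow])
      have k4 := k3.trans (C1(x).orderOf_dvd_natCard (mem_centralizer_singleton_iff.2 rfl))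
      rcases tor x hx2 with e | e <;> rw [e] at k4 <;> omega
    have hS : S ≤ C1(a) := fun y hy => by
      have ha := k1 (mem_zpowers a)
      rw [mem_centralizer_singleton_iff]
      calc y * a = (y * a)⁻¹ := eq_inv_of_mul_eq_one_left (by rw [← pow_two, sq _ (mul_mem hy ha)])
        _ = _ := by
          rw [mul_inv_rev, ← eq_inv_of_mul_eq_one_left ((pow_two a).symm.trans h2),
            ← eq_inv_of_mul_eq_one_left ((pow_two y).symm.trans (sq y hy))]
    refine Dvd.dvd.trans ?_ (card_dvd_of_le hS)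
    have k5 := k2.not_dvd_relIndex
    rw [relIndex_top_right] at k5
    refine Nat.Coprime.dvd_of_dvd_mul_right (m := Nat.card S) (n := S.index) ?_ ?_
    · rw [e]; exact ((Nat.Prime.coprime_iff_not_dvd Nat.prime_two).2 k5).pow_left _
    · rw [card_mul_index, hG, mul_assoc]; exact dvd_mul_right _ _
  have ix : ∀ (a : G) (c d : ℕ), 0 < c → Nat.card C1(a) = c → c * d = Nat.card G →
      C1(a).index = d := fun a c d h0 h1 h2 =>
    Nat.eq_of_mul_eq_mul_left h0 (by rw [h2, ← h1, card_mul_index])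
  have ix1 : ∀ a : G, Nat.card C1(a) = q → C1(a).index = (q + 1) * (q - 1) := fun a ha =>
    ix a _ _ (by omega) ha (by rw [hG]; ring)
  have ix2 : ∀ a : G, Nat.card C1(a) = q + 1 → C1(a).index = q * (q - 1) := fun a ha =>
    ix a _ _ (by omega) ha (by rw [hG]; ring)
  have ix3 : ∀ a : G, Nat.card C1(a) = q - 1 → C1(a).index = q * (q + 1) := fun a ha =>
    ix a _ _ (by omega) ha (by rw [hG]; ring)
  have ex : ∀ r : ℕ, r.Prime → r ∣ Nat.card G → ∃ a : G, a ∉ center G ∧ orderOf a = r ∧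
      r ∣ Nat.card C1(a) := fun r hr hd => by
    have := Fact.mk hr
    obtain ⟨a, ha⟩ := exists_prime_orderOf_dvd_card' r hd
    refine ⟨a, fun e => ?_, ha, ha ▸ C1(a).orderOf_dvd_natCard (mem_centralizer_singleton_iff.2 rfl)⟩
    rw [hZ, mem_bot] at e
    rw [e, orderOf_one] at ha; exact hr.one_lt.ne ha
  have odd : ∀ (r : ℕ) (a : G), r.Prime → orderOf a = r → r ≠ 2 → a ^ 2 ≠ 1 := fun r a hr ho h2 e =>
    h2 ((Nat.prime_dvd_prime_iff_eq hr Nat.prime_two).1 (ho ▸ orderOf_dvd_of_pow_eq_one e))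
  have both : ∀ r : ℕ, r.Prime → r ∣ q + 1 → r ∣ q - 1 → False := fun r hr h1 h2 => by
    have : r ∣ 2 := by
      have := (Nat.dvd_sub h1 h2); rwa [show q + 1 - (q - 1) = 2 by omega] at this
    have := (Nat.prime_dvd_prime_iff_eq hr Nat.prime_two).1 this
    subst this; omega
  refine Set.ncard_eq_three.2 ⟨(q + 1) * (q - 1), q * (q - 1), q * (q + 1), ?_, ?_, ?_, ?_⟩
  · intro e; have := Nat.eq_of_mul_eq_mul_right (by omega) e; omega
  · intro e; rw [mul_comm] at e; have := Nat.eq_of_mul_eq_mul_right (by omega) e; omega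
  · intro e; have := Nat.eq_of_mul_eq_mul_left (by omega) e; omega
  ext m
  simp only [Set.mem_insert_iff, Set.mem_singleton_iff]
  constructor
  · rintro ⟨a, ha, rfl⟩
    by_cases h2 : a ^ 2 = 1
    · exact .inl (ix1 a (uni a (fun e => ha (e ▸ one_mem _)) h2))
    · exact .inr ((tor a h2).imp (ix2 a) (ix3 a))
  · rintro (rfl | rfl | rfl)
    · obtain ⟨a, h1, h2, -⟩ := ex 2 Nat.prime_two (by rw [hG, mul_assoc]; exact hev.mul_right _)
      exact ⟨a, h1, (ix1 a (uni a (fun e => h1 (e ▸ one_mem _)) (h2 ▸ pow_orderOf_eq_one a))).symm⟩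
    · obtain ⟨r, hr, hd⟩ := Nat.exists_prime_and_dvd (show q + 1 ≠ 1 by omega)
      obtain ⟨a, h1, h2, h3⟩ := ex r hr (by rw [hG]; exact (hd.mul_left _).mul_right _)
      refine ⟨a, h1, (ix2 a ((tor a (odd r a hr h2 (by rintro rfl; omega))).resolve_right
        fun e => both r hr hd (e ▸ h3))).symm⟩
    · obtain ⟨r, hr, hd⟩ := Nat.exists_prime_and_dvd (show q - 1 ≠ 1 by omega)
      obtain ⟨a, h1, h2, h3⟩ := ex r hr (by rw [hG]; exact hd.mul_left _)
      refine ⟨a, h1, (ix3 a ((tor a (odd r a hr h2 (by rintro rfl; omega))).resolve_left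
        fun e => both r hr (e ▸ h3) hd)).symm⟩

end Cfsg.Agent.Ez
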