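import Cfsg.Agent.Lib.Ez.D3
import Cfsg.Agent.Lib.Char.Misc
import Cfsg.Agent.Lib.Char.Galois

set_option autoImplicit false

namespace Cfsg.Agent.Ez

open Subgroup Cfsg.Agent.Comp Cfsg.Agent.BG Cfsg.Agent.Char Finset
open scoped ComplexConjugate

section Num
variable {ι : Type*} [Fintype ι] [DecidableEq ι]

theorem sum_split2 {M : Type*} [AddCommMonoid M] (f : ι → M) {i j : ι} (h : i ≠ j) :
    ∑ k, f k = f i + f j + ∑ k ∈ (univ.erase i).erase j, f k := by
  rw [add_assoc, add_sum_erase _ _ (mem_erase.2 ⟨h.symm, mem_univ j⟩), add_sum_erase _ _ (mem_univ i)]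

theorem sum_eq_two_terms {M : Type*} [AddCommMonoid M] (f : ι → M) {i j : ι} (h : i ≠ j)
    (h0 : ∀ k, k ≠ i → k ≠ j → f k = 0) : ∑ k, f k = f i + f j := by
  rw [sum_split2 f h, sum_eq_zero, add_zero]
  intro k hk
  exact h0 k (mem_erase.1 (mem_erase.1 hk).2).1 (mem_erase.1 hk).1

theorem exists_of_sum_sq_two (c : ι → ℤ) (h : ∑ k, c k ^ 2 = 2) :
    ∃ i j, i ≠ j ∧ c i ^ 2 = 1 ∧ c j ^ 2 = 1 ∧ ∀ k, k ≠ i → k ≠ j → c k = 0 := by
  obtain ⟨i, -, hi⟩ := exists_ne_zero_of_sum_ne_zero (h.trans_ne two_ne_zero)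
  have h1 : c i ^ 2 ≤ 2 := h ▸ single_le_sum (f := fun k => c k ^ 2) (fun _ _ => sq_nonneg _) (mem_univ i)
  have h2 : c i ^ 2 = 1 := by
    have : c i ≠ 0 := fun e => hi (by rw [e]; rfl)
    have : -2 < c i := by nlinarith
    have : c i < 2 := by nlinarith
    interval_cases c i <;> simp_all
  obtain ⟨j, hj, hj2⟩ := exists_eq_of_sum_sq_eq_one (Function.update c i 0) (by
    rw [← add_sum_erase _ _ (mem_univ i)] at h ⊢
    rw [sum_congr rfl fun k hk => by rw [Function.update_of_ne (mem_erase.1 hk).1],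
      Function.update_self]
    omega)
  have hij : j ≠ i := by rintro rfl; simp at hj
  rw [Function.update_of_ne hij] at hj
  refine ⟨i, j, hij.symm, h2, by rcases hj with e | e <;> rw [e] <;> rfl, fun k h1 h2 => ?_⟩
  have := hj2 k h2
  rwa [Function.update_of_ne h1] at this

theorem sq_le3 (p : ι → ℤ) {i j k : ι} (h1 : i ≠ j) (h2 : k ≠ i) (h3 : k ≠ j) :
    p i ^ 2 + p j ^ 2 + p k ^ 2 ≤ ∑ l, p l ^ 2 := by
  rw [sum_split2 _ h1]
  exact add_le_add_right (single_le_sum (f := fun k => p k ^ 2) (fun _ _ => sq_nonneg _)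
    (mem_erase.2 ⟨h3, mem_erase.2 ⟨h2, mem_univ _⟩⟩)) _

theorem cols_pair {p q d : ι → ℤ} {o : ι} (hd : ∀ k, 0 < d k) (po : p o = 1) (qo : q o = 1)
    (pp : ∑ k, p k ^ 2 = 9) (qq : ∑ k, q k ^ 2 = 9) (pq : ∑ k, p k * q k = 0)
    (pd : ∑ k, p k * d k = 0) (qd : ∑ k, q k * d k = 0) (h3 : ∀ k, 3 ∣ p k - q k) :
    ∃ i j, ∃ ε : ℤ, (ε = 1 ∨ ε = -1) ∧ i ≠ j ∧ o ≠ i ∧ o ≠ j ∧ p i = 2 * ε ∧ q i = -ε ∧ p j = -ε ∧
      q j = 2 * ε ∧ d i = d j ∧ ∀ k, k ≠ i → k ≠ j → p k = q k := by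
  choose v hv using h3
  have h1 : ∑ k, v k ^ 2 = 2 := by
    have : ∑ k, (p k - q k) ^ 2 = ∑ k, p k ^ 2 + ∑ k, q k ^ 2 - 2 * ∑ k, p k * q k := by
      rw [mul_sum, ← sum_add_distrib, ← sum_sub_distrib]; exact sum_congr rfl fun _ _ => by ring
    simp only [hv, mul_pow, ← mul_sum, pp, qq, pq] at this
    omega
  obtain ⟨i, j, hij, a1, a2, a3⟩ := exists_of_sum_sq_two v h1
  have b : ∀ k, k ≠ i → k ≠ j → p k = q k := fun k h1 h2 => by
    have := hv k; rw [a3 k h1 h2] at this; omega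
  have vo : v o = 0 := by have := hv o; omega
  have oi : o ≠ i := fun e => by rw [← e, vo] at a1; omega
  have oj : o ≠ j := fun e => by rw [← e, vo] at a2; omega
  have c1 := sum_eq_two_terms (fun k => p k * d k - q k * d k) hij fun k h1 h2 => by
    simp [b k h1 h2]
  have c2 := sum_eq_two_terms (fun k => p k ^ 2 - q k ^ 2) hij fun k h1 h2 => by simp [b k h1 h2]
  rw [sum_sub_distrib] at c1 c2
  have c3 := sq_le3 p hij oi oj
  simp only [pd, qd, pp, qq, po] at c1 c2 c3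
  have e1 := hv i
  have e2 := hv j
  have d1 := hd i
  have d2 := hd j
  rcases sq_eq_one_iff.1 a1 with s | s <;> rcases sq_eq_one_iff.1 a2 with t | t <;>
    rw [s] at e1 <;> rw [t] at e2
  · nlinarith
  · obtain ⟨e3, e4⟩ : p i = q i + 3 ∧ p j = q j - 3 := by omega
    rw [e3, e4] at c1 c2 c3
    have e5 : q j = q i + 3 := by nlinarith
    rw [e5] at c3
    have : q i = -1 ∨ q i = -2 := by
      have : -3 < q i := by nlinarith
      have : q i < 0 := by nlinarith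
      omega
    rcases this with e | e
    · exact ⟨i, j, 1, .inl rfl, hij, oi, oj, by omega, by omega, by omega, by omega, by nlinarith, b⟩
    · exact ⟨j, i, -1, .inr rfl, hij.symm, oj, oi, by omega, by omega, by omega, by omega,
        by nlinarith, fun k h1 h2 => b k h2 h1⟩
  · obtain ⟨e3, e4⟩ : p i = q i - 3 ∧ p j = q j + 3 := by omega
    rw [e3, e4] at c1 c2 c3
    have e5 : q i = q j + 3 := by nlinarith
    rw [e5] at c3
    have : q j = -1 ∨ q j = -2 := by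
      have : -3 < q j := by nlinarith
      have : q j < 0 := by nlinarith
      omega
    rcases this with e | e
    · exact ⟨j, i, 1, .inl rfl, hij.symm, oj, oi, by omega, by omega, by omega, by omega,
        by nlinarith, fun k h1 h2 => b k h2 h1⟩
    · exact ⟨i, j, -1, .inr rfl, hij, oi, oj, by omega, by omega, by omega, by omega, by nlinarith, b⟩
  · nlinarith

theorem deg_bound {d : ι → ℤ} {g : ℤ} {i j : ι} (hij : i ≠ j) (hd : 0 < d i) (e : d i = d j)
    (dd : ∑ k, d k ^ 2 = g) (h : g ≤ 18 * d i) : g ≤ 162 := by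
  have := sum_split2 (fun k => d k ^ 2) hij
  have h2 : 0 ≤ ∑ k ∈ (univ.erase i).erase j, d k ^ 2 := sum_nonneg fun _ _ => sq_nonneg _
  rw [dd, ← e] at this
  nlinarith

theorem num_four {p q d : ι → ℤ} {o : ι} {g : ℤ} {n m : ℕ} (hd : ∀ k, 0 < d k) (po : p o = 1)
    (qo : q o = 1) (d1 : d o = 1) (pp : ∑ k, p k ^ 2 = 9) (qq : ∑ k, q k ^ 2 = 9)
    (pq : ∑ k, p k * q k = 0) (pd : ∑ k, p k * d k = 0) (qd : ∑ k, q k * d k = 0)
    (h3 : ∀ k, 3 ∣ p k - q k) (h9 : ∀ k, 9 ∣ d k + 4 * p k + 4 * q k) (dd : ∑ k, d k ^ 2 = g)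
    (hn : (81 : ℚ) * n = g * ∑ k, (p k * p k * q k / d k : ℚ)) (h2 : n ≤ 2)
    (hm : (81 : ℚ) * m = g * ∑ k, (p k * p k * p k / d k : ℚ)) : g ≤ 720 := by
  obtain ⟨i, j, ε, hε, hij, oi, oj, a1, a2, a3, a4, a5, b⟩ := cols_pair hd po qo pp qq pq pd qd h3
  have hg : 0 < g := by
    have := sq_le3 d hij oi oj
    rw [dd, d1] at this; nlinarith [sq_nonneg (d i), sq_nonneg (d j)]
  have hgq : (0 : ℚ) < g := by exact_mod_cast hg
  have hdi : (0 : ℚ) < d i := by exact_mod_cast hd i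
  have h2' : (n : ℚ) ≤ 2 := by exact_mod_cast h2
  rcases hε with rfl | rfl
  · have k1 : (5 : ℚ) ≤ d i := by
      have := h9 i; have := hd i
      exact_mod_cast (show 5 ≤ d i by omega)
    have ho : o ∈ (univ.erase i).erase j := mem_erase.2 ⟨oj, mem_erase.2 ⟨oi, mem_univ _⟩⟩
    have s1 := sum_split2 (fun k => p k ^ 2) hij
    rw [← add_sum_erase _ _ ho, pp, a1, a3, po] at s1
    have s2 : ∑ k ∈ ((univ.erase i).erase j).erase o, p k ^ 2 = 3 := by omega
    have s3 : ∑ k ∈ ((univ.erase i).erase j).erase o, (-(p k ^ 2 : ℚ) / 8) ≤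
        ∑ k ∈ ((univ.erase i).erase j).erase o, (p k * p k * q k / d k : ℚ) := by
      refine sum_le_sum fun k hk => ?_
      have hk' := (mem_erase.1 hk).2
      have e := b k (mem_erase.1 (mem_erase.1 hk').2).1 (mem_erase.1 hk').1
      have hdk : (0 : ℚ) < d k := by exact_mod_cast hd k
      have le3 : p k ^ 2 ≤ 3 := s2 ▸ single_le_sum (f := fun k => p k ^ 2)
        (fun _ _ => sq_nonneg _) hk
      rw [← e]
      have : -2 < p k := by nlinarith
      have : p k < 2 := by nlinarith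
      have : p k = 0 ∨ p k = 1 ∨ p k = -1 := by omega
      rcases this with e1 | e1 | e1 <;> rw [e1]
      · simp
      · have : (0 : ℚ) < 1 / d k := by positivity
        push_cast; linarith
      · have k8 : (8 : ℚ) ≤ d k := by
          have := h9 k; have := hd k
          exact_mod_cast (show 8 ≤ d k by omega)
        push_cast
        rw [div_le_div_iff₀ (by norm_num) hdk]; linarith
    rw [← sum_div, sum_neg_distrib] at s3
    have s4 : ∑ k ∈ ((univ.erase i).erase j).erase o, (p k ^ 2 : ℚ) = 3 := by exact_mod_cast s2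
    rw [sum_split2 _ hij, ← add_sum_erase _ _ ho, a1, a2, a3, a4, ← a5, po, qo, d1] at hn
    rw [s4] at s3
    have k2 : (2 : ℚ) / d i ≤ 2 / 5 := div_le_div_of_nonneg_left (by norm_num) (by norm_num) k1
    set T := ∑ k ∈ ((univ.erase i).erase j).erase o, (p k * p k * q k / d k : ℚ)
    have k3 : (81 : ℚ) * n = g * (1 + T - 2 / d i) := by rw [hn]; push_cast; ring
    have : (g : ℚ) ≤ 720 := by nlinarith
    exact_mod_cast this
  · have s := sum_eq_two_terms (fun k => (p k * p k * q k / d k - p k * p k * p k / d k : ℚ)) hij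
      fun k h1 h2 => by simp [b k h1 h2]
    rw [sum_sub_distrib, a1, a2, a3, a4, ← a5] at s
    have k1 : (81 : ℚ) * n - 81 * m = g * (9 / d i) := by
      rw [hn, hm, ← mul_sub, s]; push_cast; ring
    have k2 : (g : ℚ) * (9 / d i) ≤ 162 := by have : (0 : ℚ) ≤ m := Nat.cast_nonneg _; linarith
    rw [← mul_div_assoc, div_le_iff₀ hdi] at k2
    have := deg_bound hij (hd i) a5 dd (by exact_mod_cast (show (g : ℚ) ≤ 18 * d i by linarith))
    omega

theorem num_two {p q r d : ι → ℤ} {o : ι} {g : ℤ} {n : ℕ} (hd : ∀ k, 0 < d k) (po : p o = 1)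
    (qo : q o = 1) (ro : r o = 1) (pp : ∑ k, p k ^ 2 = 9) (qq : ∑ k, q k ^ 2 = 9)
    (rr : ∑ k, r k ^ 2 = 9) (pq : ∑ k, p k * q k = 0) (pr : ∑ k, p k * r k = 0)
    (qr : ∑ k, q k * r k = 0) (pd : ∑ k, p k * d k = 0) (qd : ∑ k, q k * d k = 0)
    (rd : ∑ k, r k * d k = 0) (h3 : ∀ k, 3 ∣ p k - q k) (h3' : ∀ k, 3 ∣ p k - r k)
    (dd : ∑ k, d k ^ 2 = g) (hn : (81 : ℚ) * n = g * ∑ k, (p k * q k * r k / d k : ℚ)) (h2 : n ≤ 2)
    (hm : 0 = g * ∑ k, (p k * p k * q k / d k : ℚ)) : g ≤ 162 := by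
  obtain ⟨i, j, ε, hε, hij, oi, oj, a1, a2, a3, a4, a5, b⟩ := cols_pair hd po qo pp qq pq pd qd h3
  obtain ⟨i', j', ε', hε', hij', oi', oj', c1, c2, c3, c4, c5, b'⟩ :=
    cols_pair hd po ro pp rr pr pd rd h3'
  have e1 : i' = i := by
    by_contra hne
    have hj : j ≠ i' := fun e => by rw [e, c1] at a3; omega
    have s1 := sum_split2 (fun k => p k ^ 2) hne
    have s2 := add_le_sum (f := fun k => p k ^ 2) (s := (univ.erase i').erase i)
      (fun _ _ => sq_nonneg _) (mem_erase.2 ⟨oi, mem_erase.2 ⟨oi', mem_univ _⟩⟩)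
      (mem_erase.2 ⟨hij.symm, mem_erase.2 ⟨hj, mem_univ _⟩⟩) oj
    simp only [pp, a1, c1, a3, po] at s1 s2
    rcases hε with rfl | rfl <;> rcases hε' with rfl | rfl <;> norm_num at s1 s2 <;> omega
  subst e1
  obtain rfl : ε' = ε := by omega
  have e2 : j' ≠ j := by
    rintro rfl
    have : ∑ k, q k * r k = ∑ k, q k ^ 2 := sum_congr rfl fun k _ => by
      by_cases h1 : k = i'
      · rw [h1, a2, c2, sq]
      by_cases h2 : k = j'
      · rw [h2, a4, c4, sq]
      rw [← b k h1 h2, ← b' k h1 h2, sq]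
    omega
  have hg : 0 < g := by
    have := sq_le3 d hij oi oj
    rw [dd] at this; nlinarith [sq_nonneg (d i'), sq_nonneg (d j), hd o]
  have hgq : (0 : ℚ) < g := by exact_mod_cast hg
  have hdi : (0 : ℚ) < d i' := by exact_mod_cast hd i'
  have h2' : (n : ℚ) ≤ 2 := by exact_mod_cast h2
  have s := sum_eq_two_terms (fun k => (p k * q k * r k / d k - p k * p k * q k / d k : ℚ)) hij'
    fun k h1 h2 => by rw [← b' k h1 h2]; ring
  rw [sum_sub_distrib, ← b j' hij'.symm e2, a1, a2, c2, c3, c4, ← c5] at s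
  have k1 : (81 : ℚ) * n - 0 = g * (9 * ε' ^ 3 / d i') := by
    rw [hn, hm, ← mul_sub, s]; push_cast; ring
  rcases hε with rfl | rfl
  · have k2 : (g : ℚ) * (9 / d i') ≤ 162 := by push_cast at k1; linarith
    rw [← mul_div_assoc, div_le_iff₀ hdi] at k2
    exact deg_bound hij (hd i') a5 dd (by exact_mod_cast (show (g : ℚ) ≤ 18 * d i' by linarith))
  · exfalso
    have : (0 : ℚ) < g * (9 / d i') := by positivity
    have : (0 : ℚ) ≤ n := Nat.cast_nonneg _
    have k2 : (g : ℚ) * (9 * ((-1 : ℤ) : ℚ) ^ 3 / d i') = -(g * (9 / d i')) := by push_cast; ring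
    linarith

end Num

end Cfsg.Agent.Ez
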