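import Cfsg.Agent.Lib.Ez.E1

set_option autoImplicit false

namespace Cfsg.Agent.Ez

open Subgroup Cfsg.Agent.Comp Cfsg.Agent.BG Cfsg.Agent.Char
open scoped ComplexConjugate

universe u
variable {G : Type u} [Group G] [Finite G]

/-- abelian Sylow `3`-subgroup whose element centralizers normalize it -/
structure T3 (S : Subgroup G) : Prop where
  syl : SylIn 3 S ⊤
  ab : ∀ a ∈ S, ∀ b ∈ S, a * b = b * a
  loc : ∀ x ∈ S, x ≠ 1 → C1(x) ≤ Nm(S)

theorem pg_of_cube {a : G} (h : a ^ 3 = 1) : IsPGroup 3 (zpowers a) :=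
  Comp.isPGroup_zpowers (n := 1) (by simpa using h)

namespace T3
variable {S : Subgroup G} (h : T3 S)
include h

omit [Finite G] in
theorem cj (g : G) : T3 cj(g, S) := by
  refine ⟨cj_top g ▸ h.syl.cj g, fun a ha b hb => ?_, fun x hx h1 => ?_⟩
  · have := h.ab _ (mem_cj.1 ha) _ (mem_cj.1 hb)
    calc a * b = g * (g⁻¹ * a * g * (g⁻¹ * b * g)) * g⁻¹ := by group
      _ = _ := by rw [this]; group
  · have := cj_mono g (h.loc _ (mem_cj.1 hx) fun e => h1 (by
      calc x = g * (g⁻¹ * x * g) * g⁻¹ := by group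
        _ = 1 := by rw [e]; group))
    rwa [cj_centralizer_singleton, cj_normalizer, show g * (g⁻¹ * x * g) * g⁻¹ = x by group] at this

theorem mem {a : G} (h1 : a ^ 3 = 1) (h2 : a ∈ Nm(S)) : a ∈ S :=
  h.syl.le_of_normalizer (pg_of_cube h1) le_top (zpowers_le.2 h2) (mem_zpowers a)

theorem ti {x g : G} (hx : x ∈ S) (h1 : x ≠ 1) (hg : g * x * g⁻¹ ∈ S) : g ∈ Nm(S) := by
  have k1 : S ≤ Nm(cj(g, S)) := fun s hs => (h.cj g).loc _ (conj_mem_cj.2 hx) (by simpa using h1)
    (mem_centralizer_singleton_iff.2 (h.ab _ hs _ hg))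
  have k2 := (h.cj g).syl.le_of_normalizer h.syl.isP le_top k1
  exact cj_eq_self_iff.1 (h.syl.eq_of_le (h.cj g).syl k2).symm

theorem tri {a b : G} (ha : a ^ 3 = 1) (hb : b ^ 3 = 1) (hab : (a * b) ^ 3 = 1) :
    Commute a b ∨ IsConj a b := by
  obtain ⟨u, rfl⟩ : ∃ u, b = a * u := ⟨a⁻¹ * b, by group⟩
  have a3 : a * a * a = 1 := by rw [← ha, pow_three']
  have ai : a⁻¹ = a * a := by rw [eq_comm, eq_inv_iff_mul_eq_one, a3]
  set v := a⁻¹ * u * a with hv
  set w := a * u * a⁻¹ with hw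
  have e1 : w * v * u = 1 := by
    calc w * v * u = a * u * (a⁻¹ * a⁻¹) * u * a * u := by rw [hw, hv]; group
      _ = (a * u) ^ 3 := by
        rw [show a⁻¹ * a⁻¹ = a by rw [ai]; calc _ = a * (a * a * a) := by group
          _ = a := by rw [a3, mul_one], pow_three']; group
      _ = 1 := hb
  have e2 : v * w * u = 1 := by
    calc v * w * u = a⁻¹ * u * (a * a) * u * a⁻¹ * u := by rw [hw, hv]; group
      _ = (a * (a * u)) ^ 3 := by rw [ai, pow_three']; group
      _ = 1 := hab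
  have c1 : Commute w v := mul_right_cancel (e1.trans e2.symm)
  have c2 : Commute u v := by
    have : u = (w * v)⁻¹ := eq_inv_of_mul_eq_one_right e1
    rw [this]; exact (c1.mul_left (Commute.refl v)).inv_left
  by_cases h3 : 3 ∣ orderOf u
  · left
    have ho := orderOf_pow_orderOf_div (x := u) (orderOf_pos u).ne' h3
    set k := orderOf u / 3
    have t3 : (u ^ k) ^ 3 = 1 := orderOf_dvd_iff_pow_eq_one.1 ho.dvd
    have t1 : u ^ k ≠ 1 := fun e => by rw [e, orderOf_one] at ho; omega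
    obtain ⟨g, -, hg⟩ := h.syl.exists_le_cj (pg_of_cube t3) le_top
    have hg := hg (mem_zpowers _)
    have h' := h.cj g
    have e3 : a⁻¹ * u ^ k * a⁻¹⁻¹ = v ^ k := by rw [hv, ← conj_pow, inv_inv]
    have k1 : v ^ k ∈ cj(g, S) := h'.mem (by rw [← e3, conj_pow, t3]; group)
      (h'.loc _ hg t1 (mem_centralizer_singleton_iff.2 (c2.symm.pow_pow k k).eq))
    have k2 : a ∈ Nm(cj(g, S)) := by simpa using inv_mem (h'.ti (g := a⁻¹) hg t1 (by rw [e3]; exact k1))
    exact h'.ab _ (h'.mem ha k2) _ (h'.mem hb (mul_mem k2 (h'.loc _ hg t1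
      (mem_centralizer_singleton_iff.2 (Commute.self_pow u k).eq))))
  · right
    obtain ⟨j, hj⟩ := exists_pow_eq_self_of_coprime (x := u) (n := 3)
      ((Nat.Prime.coprime_iff_not_dvd Nat.prime_three).2 h3)
    have hj' : u ^ j * u ^ j * u ^ j = u := by
      rw [← pow_three', ← pow_mul, mul_comm, pow_mul, hj]
    have f1 : u ^ j * a = a * v ^ j := by
      rw [hv, show a⁻¹ * u * a = a⁻¹ * u * a⁻¹⁻¹ by simp, conj_pow]; group
    have f2 : v ^ j * a = a * w ^ j := by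
      have : w = a⁻¹ * v * a⁻¹⁻¹ := by
        rw [hw, hv, inv_inv, ai]
        calc _ = (a * a * a) * a * u * (a * a) := by rw [a3]; group
          _ = _ := by group
      rw [this, conj_pow]; group
    have f3 : w ^ j = (u ^ j * v ^ j)⁻¹ := by
      rw [← c2.mul_pow, ← inv_pow, c2.eq]
      congr 1
      exact eq_inv_of_mul_eq_one_left (by rw [← mul_assoc, e1])
    have c3 : Commute (u ^ j) (v ^ j) := c2.pow_pow j j
    rw [f3] at f2
    refine isConj_iff.2 ⟨(u ^ j)⁻¹ * (u ^ j)⁻¹ * (v ^ j)⁻¹, ?_⟩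
    generalize u ^ j = U at *
    generalize v ^ j = V at *
    have g1 : U⁻¹ * a = a * V⁻¹ := by
      calc U⁻¹ * a = U⁻¹ * (a * V) * V⁻¹ := by group
        _ = _ := by rw [← f1]; group
    have g2 : V⁻¹ * a = a * (U * V) := by
      calc V⁻¹ * a = V⁻¹ * (a * (U * V)⁻¹) * (U * V) := by group
        _ = _ := by rw [← f2]; group
    calc _ = U⁻¹ * U⁻¹ * (V⁻¹ * a) * V * U * U := by simp only [mul_inv_rev, inv_inv, mul_assoc]
      _ = U⁻¹ * (U⁻¹ * a) * (U * V) * V * U * U := by rw [g2]; simp only [mul_assoc]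
      _ = (U⁻¹ * a) * V⁻¹ * (U * V) * V * U * U := by
        conv_lhs => rw [g1]
        simp only [mul_assoc]
      _ = a * V⁻¹ * V⁻¹ * (V * U) * V * U * U := by rw [g1, c3.eq]
      _ = a * V⁻¹ * (U * V) * U * U := by group
      _ = a * (U * U * U) := by rw [c3.eq]; group
      _ = _ := by rw [hj']

end T3

/-- the elementary abelian group of order `9` -/
abbrev V9 := Multiplicative (ZMod 3) × Multiplicative (ZMod 3)

/-- the homomorphism from `V9` given by two commuting elements of order dividing `3` -/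
def v9 {x y : G} (hx : x ^ 3 = 1) (hy : y ^ 3 = 1) (h : Commute x y) : V9 →* G :=
  MonoidHom.mk' (fun v => x ^ v.1.toAdd.val * y ^ v.2.toAdd.val) fun v w => by
    simp only [Prod.fst_mul, Prod.snd_mul, toAdd_mul, ZMod.val_add]
    rw [← pow_eq_pow_mod _ hx, ← pow_eq_pow_mod _ hy, pow_add, pow_add,
      (h.pow_pow _ _).symm.mul_mul_mul_comm]

/-- first generator -/
def vA : V9 := (Multiplicative.ofAdd 1, 1)
/-- second generator -/
def vB : V9 := (1, Multiplicative.ofAdd 1)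

omit [Finite G] in
theorem v9_A {x y : G} (hx : x ^ 3 = 1) (hy : y ^ 3 = 1) (h : Commute x y) : v9 hx hy h vA = x := by
  show x ^ 1 * y ^ 0 = x
  simp

omit [Finite G] in
theorem v9_B {x y : G} (hx : x ^ 3 = 1) (hy : y ^ 3 = 1) (h : Commute x y) : v9 hx hy h vB = y := by
  show x ^ 0 * y ^ 1 = y
  simp

theorem v9_univ : (Finset.univ : Finset V9) =
    {1, vA, vA⁻¹, vB, vB⁻¹, vA * vB, (vA * vB)⁻¹, vA * vB⁻¹, (vA * vB⁻¹)⁻¹} := by decide

theorem sum_v9 {M : Type*} [AddCommMonoid M] (f : V9 → M) : ∑ v, f v = f 1 + (f vA + (f vA⁻¹ +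
    (f vB + (f vB⁻¹ + (f (vA * vB) + (f (vA * vB)⁻¹ + (f (vA * vB⁻¹) + f (vA * vB⁻¹)⁻¹))))))) := by
  rw [v9_univ]
  repeat rw [Finset.sum_insert (by decide)]
  rw [Finset.sum_singleton]

omit [Finite G] in
theorem sum9 (f : V9 →* G) {χ : G → ℂ} (h : IsCharacter G χ) :
    ∃ n : ℕ, ∑ v, χ (f v) = 9 * n := by
  obtain ⟨n, hn⟩ := (h.comp f).classInner_eq_nat isCharacter_one
  rw [classInner_one_right, show Nat.card V9 = 9 by simp] at hn
  exact ⟨n, by rw [← hn]; push_cast; field_simp⟩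

theorem real3 {x : G} (hx : x ^ 3 = 1) (hr : IsConj x x⁻¹) {χ : G → ℂ} (h : IsCharacter G χ) :
    ∃ p : ℤ, χ x = p ∧ ∃ n : ℕ, χ 1 + 2 * p = 3 * n := by
  obtain ⟨n, hn⟩ := sum9 (v9 hx (one_pow 3) (Commute.one_right x)) h
  simp only [sum_v9, map_mul, map_inv, map_one, v9_A, v9_B, inv_one, mul_one,
    ← h.isClassFunction.eq_of_isConj hr] at hn
  obtain ⟨d, hd⟩ := h.exists_degree
  obtain ⟨p, hp⟩ := exists_int_of_isIntegral_of_rat (h.isIntegral x) (q := (3 * n - d) / 2)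
    (by push_cast; rw [← hd]; linear_combination hn / 6)
  exact ⟨p, hp, n, by rw [← hp]; linear_combination hn / 3⟩

theorem cols_int {x y : G} {p q : IrrCharacter G → ℤ} (hp : ∀ χ : IrrCharacter G, χ.1 x = p χ)
    (hq : ∀ χ : IrrCharacter G, χ.1 y = q χ) :
    (IsConj x y → ∑ χ, p χ * q χ = Nat.card C1(x)) ∧ (¬ IsConj x y → ∑ χ, p χ * q χ = 0) := by
  have := column_orthogonality x y
  simp only [hp, hq, map_intCast] at this
  constructor <;> intro h
  · rw [if_pos h] at this; exact_mod_cast this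
  · rw [if_neg h] at this; exact_mod_cast this

theorem cnt_int {x y z : G} {p q r d : IrrCharacter G → ℤ} (hp : ∀ χ : IrrCharacter G, χ.1 x = p χ)
    (hq : ∀ χ : IrrCharacter G, χ.1 y = q χ) (hr : ∀ χ : IrrCharacter G, χ.1 z = r χ)
    (hd : ∀ χ : IrrCharacter G, χ.1 1 = d χ) :
    (Nat.card C1(x) * Nat.card C1(y) : ℚ) *
      Nat.card {p : G × G // IsConj x p.1 ∧ IsConj y p.2 ∧ p.1 * p.2 = z} =
      (Nat.card G : ℤ) * ∑ χ, (p χ * q χ * r χ / d χ : ℚ) := by
  have := Char.card_class_mul x y z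
  simp only [hp, hq, hr, hd, map_intCast] at this
  apply Rat.cast_injective (α := ℂ)
  push_cast
  rw [this]
  have h1 : (Nat.card C1(x) : ℂ) * C1(x).index = Nat.card G := by exact_mod_cast card_mul_index _
  have h2 : (Nat.card C1(y) : ℂ) * C1(y).index = Nat.card G := by exact_mod_cast card_mul_index _
  have h3 := card_ne_zero' G
  rw [← mul_assoc]
  congr 1
  field_simp
  linear_combination (Nat.card C1(y) * C1(y).index) * h1 + (Nat.card G : ℂ) * h2

end Cfsg.Agent.Ez
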