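import Cfsg.Agent.Lib.Ez.E2
import Cfsg.Agent.Lib.Char.Brauer

set_option autoImplicit false

namespace Cfsg.Agent.Ez

open Subgroup Cfsg.Agent.Comp Cfsg.Agent.BG Cfsg.Agent.Char
open scoped ComplexConjugate

universe u
variable {G : Type u} [Group G] [Finite G]

omit [Finite G] in
theorem v9_inj {x y : G} (hx : x ^ 3 = 1) (hy : y ^ 3 = 1) (h : Commute x y) (h1 : x ≠ 1)
    (h2 : y ∉ zpowers x) : Function.Injective (v9 hx hy h) := by
  rw [injective_iff_map_eq_one]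
  intro v hv
  have k : ∀ v : V9, v = 1 ∨ v = vA ∨ v⁻¹ = vA ∨ ∃ i : Fin 3, v = vA ^ i.1 * vB ∨ v⁻¹ = vA ^ i.1 * vB := by
    decide
  have hv' : v9 hx hy h v⁻¹ = 1 := by rw [map_inv, hv, inv_one]
  have k2 : ∀ i : ℕ, v9 hx hy h (vA ^ i * vB) ≠ 1 := fun i e => by
    rw [map_mul, map_pow, v9_A, v9_B] at e
    exact h2 (eq_inv_of_mul_eq_one_right e ▸ inv_mem (npow_mem_zpowers x i))
  rcases k v with e | e | e | ⟨i, e | e⟩
  · exact e
  · rw [e, v9_A] at hv; exact absurd hv h1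
  · rw [e, v9_A] at hv'; exact absurd hv' h1
  · rw [e] at hv; exact absurd hv (k2 _)
  · rw [e] at hv'; exact absurd hv' (k2 _)

theorem v9_range {S : Subgroup G} (h9 : Nat.card S = 9) {x y : G} (hx : x ^ 3 = 1) (hy : y ^ 3 = 1)
    (h : Commute x y) (h1 : x ≠ 1) (h2 : y ∉ zpowers x) (hxS : x ∈ S) (hyS : y ∈ S) :
    (v9 hx hy h).range = S := by
  refine eq_of_le_of_card_ge ?_ ?_
  · rintro _ ⟨v, rfl⟩; exact mul_mem (pow_mem hxS _) (pow_mem hyS _)
  · rw [h9, ← Nat.card_congr (MonoidHom.ofInjective (v9_inj hx hy h h1 h2)).toEquiv]; simp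

/-- self-centralizing elementary abelian Sylow `3`-subgroup of order `9` -/
structure C9 (S : Subgroup G) : Prop where
  syl : SylIn 3 S ⊤
  card : Nat.card S = 9
  exp : ∀ a ∈ S, a ^ 3 = 1
  cc : ∀ a ∈ S, a ≠ 1 → C1(a) = S

namespace C9
variable {S : Subgroup G} (h : C9 S)
include h

omit [Finite G] in
theorem t3 : T3 S := ⟨h.syl, fun a ha b hb => congrArg Subtype.val (cc_comm h.cc ⟨a, ha⟩ ⟨b, hb⟩),
  fun x hx h1 => (h.cc x hx h1).le.trans le_normalizer⟩

theorem cls {x : G} (hx : x ∈ S) (h1 : x ≠ 1) :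
    Nat.card {y : G // IsConj x y ∧ y ∈ S} = S.relIndex Nm(S) := by
  have k := Transfer.card_class_mul Nm(S) x
  rw [h.cc x hx h1, inf_eq_right.2 le_normalizer, ← relIndex_mul_card (le_normalizer (H := S))] at k
  rw [← Nat.eq_of_mul_eq_mul_right Nat.card_pos k]
  refine Nat.card_congr (Equiv.subtypeEquivRight fun y => ⟨fun ⟨h2, h3⟩ => ?_, ?_⟩)
  · obtain ⟨g, rfl⟩ := isConj_iff.1 h2
    exact ⟨g, h.t3.ti hx h1 h3, rfl⟩
  · rintro ⟨g, hg, rfl⟩
    exact ⟨isConj_iff.2 ⟨g, rfl⟩, (mem_normalizer_iff.1 hg x).1 hx⟩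

theorem real (he : 2 ∣ S.relIndex Nm(S)) {x : G} (hx : x ∈ S) : IsConj x x⁻¹ := by
  obtain ⟨⟨t, ht⟩, ho⟩ := exists_prime_orderOf_dvd_card' (G := Nm(S)) 2
    (he.trans (relIndex_dvd_card _ _))
  rw [← orderOf_coe] at ho
  have h2 : t * t = 1 := Transfer.mul_self_of_orderOf ho
  have h3 := (mem_normalizer_iff.1 ht x).1 hx
  refine isConj_iff.2 ⟨t, eq_inv_of_mul_eq_one_right ?_⟩
  by_contra hne
  have : t ∈ S := by
    rw [← h.cc _ (mul_mem hx h3) hne, mem_centralizer_singleton_iff, h.t3.ab _ hx _ h3,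
      inv_eq_of_mul_eq_one_right h2]
    calc _ = (t * t) * x * t * x := by group
      _ = x * t * x * (t * t) := by rw [h2]; group
      _ = (x * (t * x * t⁻¹)) * t := by rw [inv_eq_of_mul_eq_one_right h2]; group
      _ = _ := by rw [h.t3.ab _ hx _ h3, inv_eq_of_mul_eq_one_right h2]
  have := S.orderOf_dvd_natCard this
  rw [ho, h.card] at this
  omega

theorem exists_gen {x : G} (hx : x ∈ S) : ∃ y ∈ S, y ∉ zpowers x := by
  by_contra hn
  push Not at hn
  have h1 := card_dvd_of_le (show S ≤ zpowers x from hn)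
  rw [h.card, Nat.card_zpowers] at h1
  have := Nat.le_of_dvd (by omega) (h1.trans (orderOf_dvd_of_pow_eq_one (h.exp x hx)))
  omega

open _root_.Classical in
theorem cls_v9 {f : V9 →* G} (hf : Function.Injective f) (hr : f.range = S) {v : V9} (hv : v ≠ 1) :
    (Finset.univ.filter fun w => IsConj (f v) (f w)).card = S.relIndex Nm(S) := by
  rw [← h.cls (hr ▸ ⟨v, rfl⟩ : f v ∈ S) (fun e => hv (hf (e.trans f.map_one.symm))),
    ← Fintype.card_subtype, ← Nat.card_eq_fintype_card]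
  refine Nat.card_congr (Equiv.ofBijective (fun w => ⟨f w, w.2, hr ▸ ⟨w, rfl⟩⟩)
    ⟨fun a b e => Subtype.ext (hf (congrArg Subtype.val e)), fun ⟨y, h1, h2⟩ => ?_⟩)
  obtain ⟨w, rfl⟩ : y ∈ f.range := hr ▸ h2
  exact ⟨⟨w, h1⟩, rfl⟩

theorem idx {f : V9 →* G} (hf : Function.Injective f) (hr : f.range = S) :
    ∃ k, Nat.card G = 9 * (S.relIndex Nm(S) * Nm(S).index) ∧
      S.relIndex Nm(S) * Nm(S).index + 8 * S.relIndex Nm(S) = 9 * k := by
  have := Fintype.ofFinite G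
  obtain ⟨k, hk⟩ := sum9 f (isCharacter_one.ind (H := S))
  have k1 : ∀ v, v ≠ 1 → indFun S (fun _ => 1) (f v) = S.relIndex Nm(S) := fun v hv =>
    indFun_one_apply_of_iff le_normalizer fun g => ⟨h.t3.ti (hr ▸ ⟨v, rfl⟩)
      (fun e => hv (hf (e.trans f.map_one.symm))), fun hg =>
        (mem_normalizer_iff.1 hg _).1 (hr ▸ ⟨v, rfl⟩)⟩
  rw [sum_v9, k1 vA (by decide), k1 vA⁻¹ (by decide), k1 vB (by decide), k1 vB⁻¹ (by decide),
    k1 (vA * vB) (by decide), k1 (vA * vB)⁻¹ (by decide), k1 (vA * vB⁻¹) (by decide),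
    k1 (vA * vB⁻¹)⁻¹ (by decide), map_one, indFun_one] at hk
  rw [relIndex_mul_index le_normalizer]
  refine ⟨k, by rw [← h.card, card_mul_index], ?_⟩
  have : ((S.index + 8 * S.relIndex Nm(S) : ℕ) : ℂ) = (9 * k : ℕ) := by
    push_cast; linear_combination hk
  exact_mod_cast this

theorem pair_mem (he : 2 ∣ S.relIndex Nm(S)) {x y z a b : G} (hx : x ∈ S) (hy : y ∈ S) (hz : z ∈ S)
    (h1 : z ≠ 1) (hn : ¬ IsConj y z) (ha : IsConj x a) (hb : IsConj y b) (e : a * b = z) :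
    a ∈ S ∧ b ∈ S := by
  have c3 : ∀ {s t : G}, s ∈ S → IsConj s t → t ^ 3 = 1 := fun hs hc => by
    obtain ⟨g, rfl⟩ := isConj_iff.1 hc
    rw [conj_pow, h.exp _ hs]; group
  have k := h.t3.tri (a := b) (b := z⁻¹) (c3 hy hb) (h.exp _ (inv_mem hz)) (by
    rw [← e, show b * (a * b)⁻¹ = a⁻¹ by group, inv_pow, c3 hx ha, inv_one])
  rcases k with k | k
  · have hbS : b ∈ S := h.cc z hz h1 ▸ mem_centralizer_singleton_iff.2 (by simpa using k.inv_right.eq)
    exact ⟨by rw [eq_mul_inv_of_mul_eq e]; exact mul_mem hz (inv_mem hbS), hbS⟩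
  · exact absurd ((hb.trans k).trans (h.real he hz).symm) hn

theorem data (he : 2 ∣ S.relIndex Nm(S)) {x : G} (hx : x ∈ S) : ∃ p : IrrCharacter G → ℤ,
    (∀ χ : IrrCharacter G, χ.1 x = p χ) ∧ ∀ χ : IrrCharacter G, ∃ n : ℕ, χ.1 1 + 2 * p χ = 3 * n := by
  choose p h1 h2 using fun χ : IrrCharacter G => real3 (h.exp x hx) (h.real he hx) χ.2.isCharacter
  exact ⟨p, h1, h2⟩

end C9

theorem deg_data : ∃ d : IrrCharacter G → ℤ, (∀ χ : IrrCharacter G, χ.1 1 = d χ) ∧ (∀ χ, 0 < d χ) ∧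
    ∑ χ, d χ ^ 2 = Nat.card G := by
  choose d h1 h2 using fun χ : IrrCharacter G => χ.2.exists_degree
  refine ⟨fun χ => d χ, fun χ => by simp [h2], fun χ => by simp [h1], ?_⟩
  have := sum_degree_sq (G := G)
  simp only [h2] at this
  beta_reduce
  exact_mod_cast this

omit [Finite G] in
theorem int_one {x : G} {p : IrrCharacter G → ℤ} (h : ∀ χ : IrrCharacter G, χ.1 x = p χ) :
    p (irrOne G) = 1 := by
  have := h (irrOne G); rw [irrOne_apply] at this; exact_mod_cast this.symm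

omit [Finite G] in
theorem dvd_sub_of {p q : IrrCharacter G → ℤ}
    (h1 : ∀ χ : IrrCharacter G, ∃ n : ℕ, χ.1 1 + 2 * p χ = 3 * n)
    (h2 : ∀ χ : IrrCharacter G, ∃ n : ℕ, χ.1 1 + 2 * q χ = 3 * n) (χ : IrrCharacter G) :
    3 ∣ p χ - q χ := by
  obtain ⟨n, hn⟩ := h1 χ
  obtain ⟨m, hm⟩ := h2 χ
  have : ((2 * (p χ - q χ) : ℤ) : ℂ) = (3 * (n - m) : ℤ) := by push_cast; linear_combination hn - hm
  have := Int.cast_injective this
  omega

theorem v9_k : ∀ a' ∈ ({vA, vA⁻¹, vB, vB⁻¹} : Finset V9), ∀ b' ∈ ({vA, vA⁻¹, vB, vB⁻¹} : Finset V9),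
    a' * b' = vA * vB → a' = vA ∨ a' = vB := by decide

theorem card_le_two {α : Type*} {P : α → Prop} {β : Type*} (g : α → β) (a b : β)
    (h1 : ∀ x y, P x → P y → g x = g y → x = y) (h2 : ∀ x, P x → g x = a ∨ g x = b) :
    Nat.card {x // P x} ≤ 2 := by
  classical
  have := Nat.card_le_card_of_injective (β := ({a, b} : Finset β))
    (fun x : {x // P x} => ⟨g x, by simpa using h2 x x.2⟩)
    fun x y e => Subtype.ext (h1 _ _ x.2 y.2 (congrArg Subtype.val e))
  rw [Nat.card_eq_fintype_card (α := ({a, b} : Finset β)), Fintype.card_coe] at this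
  exact this.trans Finset.card_le_two

namespace C9
variable {S : Subgroup G} (h : C9 S)
include h

theorem two (he : S.relIndex Nm(S) = 2) : Nm(S) = ⊤ := by
  classical
  have he' : 2 ∣ S.relIndex Nm(S) := he.symm.dvd
  obtain ⟨x, hx, h1⟩ := h.exists_gen (one_mem S)
  replace h1 : x ≠ 1 := fun e => h1 (by rw [e]; exact one_mem _)
  obtain ⟨y, hy, h2⟩ := h.exists_gen hx
  have hc : Commute x y := h.t3.ab _ hx _ hy
  set f := v9 (h.exp x hx) (h.exp y hy) hc
  have hf : Function.Injective f := v9_inj _ _ hc h1 h2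
  have hr : f.range = S := v9_range h.card _ _ hc h1 h2 hx hy
  have mem : ∀ v, f v ∈ S := fun v => hr ▸ ⟨v, rfl⟩
  have ne : ∀ v, v ≠ 1 → f v ≠ 1 := fun v hv e => hv (hf (e.trans f.map_one.symm))
  have K : ∀ v w, v ≠ 1 → IsConj (f v) (f w) → w = v ∨ w = v⁻¹ := by
    intro v w hv hw
    have := Finset.eq_of_subset_of_card_le (s := {v, v⁻¹})
      (t := Finset.univ.filter fun w => IsConj (f v) (f w)) (by
        intro w hw
        rw [Finset.mem_filter_univ]
        rcases Finset.mem_insert.1 hw with rfl | hw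
        · exact IsConj.refl _
        · rw [Finset.mem_singleton.1 hw, map_inv]; exact h.real he' (mem v)) (by
        rw [h.cls_v9 hf hr hv, he,
          Finset.card_pair ((by decide : ∀ v : V9, v ≠ 1 → v ≠ v⁻¹) v hv)])
    simpa using this.ge (by simpa using hw)
  obtain ⟨p, p1, p2⟩ := h.data he' (mem vA)
  obtain ⟨q, q1, q2⟩ := h.data he' (mem vB)
  obtain ⟨r, r1, r2⟩ := h.data he' (mem (vA * vB))
  obtain ⟨d, d1, d2, d3⟩ := deg_data (G := G)
  have nc : ∀ v w, v ≠ 1 → w ≠ v → w ≠ v⁻¹ → ¬ IsConj (f v) (f w) := fun v w a b c e =>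
    (K v w a e).elim b c
  have n1 : ∀ v, v ≠ 1 → ¬ IsConj (f v) 1 := fun v a e => ne v a (isConj_one_left.1 e)
  have c9 : ∀ v, v ≠ 1 → Nat.card C1(f v) = 9 := fun v a => by rw [h.cc _ (mem v) (ne v a), h.card]
  have sq : ∀ {v} {p : IrrCharacter G → ℤ}, v ≠ 1 → (∀ χ : IrrCharacter G, χ.1 (f v) = p χ) →
      ∑ χ, p χ ^ 2 = 9 := fun a b => by
    simp only [sq]; rw [(cols_int b b).1 (IsConj.refl _), c9 _ a]; rfl
  have m1 := cnt_int p1 q1 r1 d1
  have m2 := cnt_int p1 p1 q1 d1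
  rw [c9 _ (by decide), c9 _ (by decide)] at m1
  rw [show Nat.card {p : G × G // IsConj (f vA) p.1 ∧ IsConj (f vA) p.2 ∧ p.1 * p.2 = f vB} = 0 from
    Nat.card_eq_zero.2 (.inl ⟨fun ⟨⟨a, b⟩, a1, a2, a3⟩ => by
    obtain ⟨k1, k2⟩ := h.pair_mem he' (mem _) (mem _) (mem _) (ne _ (by decide))
      (nc _ _ (by decide) (by decide) (by decide)) a1 a2 a3
    obtain ⟨a, rfl⟩ : a ∈ f.range := hr ▸ k1
    obtain ⟨b, rfl⟩ : b ∈ f.range := hr ▸ k2
    have a4 := hf ((map_mul f a b).trans a3)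
    rcases K _ _ (by decide) a1 with rfl | rfl <;> rcases K _ _ (by decide) a2 with rfl | rfl <;>
      exact absurd a4 (by decide)⟩), Nat.cast_zero, mul_zero] at m2
  have := num_two d2 (int_one p1) (int_one q1) (int_one r1) (sq (by decide) p1) (sq (by decide) q1)
    (sq (by decide) r1) ((cols_int p1 q1).2 (nc _ _ (by decide) (by decide) (by decide)))
    ((cols_int p1 r1).2 (nc _ _ (by decide) (by decide) (by decide)))
    ((cols_int q1 r1).2 (nc _ _ (by decide) (by decide) (by decide)))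
    ((cols_int p1 d1).2 (n1 _ (by decide))) ((cols_int q1 d1).2 (n1 _ (by decide)))
    ((cols_int r1 d1).2 (n1 _ (by decide))) (dvd_sub_of p2 q2) (dvd_sub_of p2 r2) d3
    (Eq.trans (by rw [show ((9 : ℕ) : ℚ) * (9 : ℕ) = 81 by norm_num]) m1)
    (card_le_two (P := fun p : G × G => IsConj (f vA) p.1 ∧ IsConj (f vB) p.2 ∧ p.1 * p.2 = f (vA * vB))
      Prod.fst (f vA) (f vA⁻¹) (fun a b a1 a2 e =>
      Prod.ext e (mul_left_cancel (a := a.1) (by rw [a1.2.2, e, a2.2.2]))) fun a ⟨a1, a2, a3⟩ => by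
        obtain ⟨k1, -⟩ := h.pair_mem he' (mem _) (mem _) (mem _) (ne _ (by decide))
          (nc _ _ (by decide) (by decide) (by decide)) a1 a2 a3
        obtain ⟨a', e⟩ : a.1 ∈ f.range := hr ▸ k1
        rw [← e] at a1 ⊢
        exact (K _ _ (by decide) a1).imp (congrArg f) (congrArg f)) m2
  obtain ⟨k, k1, k2⟩ := h.idx hf hr
  rw [he] at k1 k2
  refine index_eq_one.1 ?_
  have : Nm(S).index ≠ 0 := index_ne_zero_of_finite
  omega

theorem four (he : S.relIndex Nm(S) = 4) : Nm(S) = ⊤ ∨ Nat.card G = 360 ∨ Nat.card G = 684 := by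
  classical
  have he' : 2 ∣ S.relIndex Nm(S) := by rw [he]; norm_num
  obtain ⟨x, hx, h1⟩ := h.exists_gen (one_mem S)
  replace h1 : x ≠ 1 := fun e => h1 (by rw [e]; exact one_mem _)
  obtain ⟨y, hxy, hy, h2⟩ : ∃ y, IsConj x y ∧ y ∈ S ∧ y ∉ zpowers x := by
    by_contra hn
    push Not at hn
    have := Nat.card_le_card_of_injective (fun y : {y : G // IsConj x y ∧ y ∈ S} =>
      (⟨y, hn y y.2.1 y.2.2⟩ : zpowers x)) fun a b e => Subtype.ext (by simpa using e)
    rw [h.cls hx h1, he, Nat.card_zpowers] at this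
    have := Nat.le_of_dvd (by omega) (orderOf_dvd_of_pow_eq_one (h.exp x hx))
    omega
  have hc : Commute x y := h.t3.ab _ hx _ hy
  set f := v9 (h.exp x hx) (h.exp y hy) hc
  have hf : Function.Injective f := v9_inj _ _ hc h1 h2
  have hr : f.range = S := v9_range h.card _ _ hc h1 h2 hx hy
  have mem : ∀ v, f v ∈ S := fun v => hr ▸ ⟨v, rfl⟩
  have ne : ∀ v, v ≠ 1 → f v ≠ 1 := fun v hv e => hv (hf (e.trans f.map_one.symm))
  have cAB : IsConj (f vA) (f vB) := by rwa [v9_A, v9_B]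
  have re : ∀ v, IsConj (f v) (f v⁻¹) := fun v => by simpa using h.real he' (mem v)
  have K : ∀ w, IsConj (f vA) (f w) → w ∈ ({vA, vA⁻¹, vB, vB⁻¹} : Finset V9) := by
    intro w hw
    have := Finset.eq_of_subset_of_card_le (s := {vA, vA⁻¹, vB, vB⁻¹})
      (t := Finset.univ.filter fun w => IsConj (f vA) (f w)) (by
        intro w hw
        simp only [Finset.mem_insert, Finset.mem_singleton] at hw
        rw [Finset.mem_filter_univ]
        rcases hw with rfl | rfl | rfl | rfl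
        exacts [IsConj.refl _, re _, cAB, cAB.trans (re _)]) (by
        rw [h.cls_v9 hf hr (by decide), he]; decide)
    exact this.ge (by simpa using hw)
  have nc : ¬ IsConj (f vA) (f (vA * vB)) := fun e => absurd (K _ e) (by decide)
  have n1 : ∀ v, v ≠ 1 → ¬ IsConj (f v) 1 := fun v a e => ne v a (isConj_one_left.1 e)
  have cD : IsConj (f (vA * vB)) (f (vA * vB⁻¹)) := by
    have := Finset.eq_of_subset_of_card_le (t := {vA * vB, (vA * vB)⁻¹, vA * vB⁻¹, (vA * vB⁻¹)⁻¹})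
      (s := Finset.univ.filter fun w => IsConj (f (vA * vB)) (f w)) (by
        intro w hw
        rw [Finset.mem_filter_univ] at hw
        have k : ∀ w : V9, w = 1 ∨ w = vA ∨ w = vA⁻¹ ∨ w = vB ∨ w = vB⁻¹ ∨
          w ∈ ({vA * vB, (vA * vB)⁻¹, vA * vB⁻¹, (vA * vB⁻¹)⁻¹} : Finset V9) := by decide
        rcases k w with rfl | rfl | rfl | rfl | rfl | e
        · exact absurd (f.map_one ▸ hw) (n1 _ (by decide))
        · exact absurd hw.symm nc
        · exact absurd ((re _).trans hw.symm) nc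
        · exact absurd (cAB.trans hw.symm) nc
        · exact absurd ((cAB.trans (re _)).trans hw.symm) nc
        · exact e) (by rw [h.cls_v9 hf hr (by decide), he]; decide)
    simpa using this.ge (show vA * vB⁻¹ ∈ _ by decide)
  obtain ⟨p, p1, p2⟩ := h.data he' (mem vA)
  obtain ⟨q, q1, q2⟩ := h.data he' (mem (vA * vB))
  obtain ⟨d, d1, d2, d3⟩ := deg_data (G := G)
  have c9 : ∀ v, v ≠ 1 → Nat.card C1(f v) = 9 := fun v a => by rw [h.cc _ (mem v) (ne v a), h.card]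
  have sq : ∀ {v} {p : IrrCharacter G → ℤ}, v ≠ 1 → (∀ χ : IrrCharacter G, χ.1 (f v) = p χ) →
      ∑ χ, p χ ^ 2 = 9 := fun a b => by
    simp only [sq]; rw [(cols_int b b).1 (IsConj.refl _), c9 _ a]; rfl
  have m1 := cnt_int p1 p1 q1 d1
  have m2 := cnt_int p1 p1 p1 d1
  rw [c9 _ (by decide)] at m1 m2
  have := num_four d2 (int_one p1) (int_one q1) (int_one d1) (sq (by decide) p1) (sq (by decide) q1)
    ((cols_int p1 q1).2 nc) ((cols_int p1 d1).2 (n1 _ (by decide)))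
    ((cols_int q1 d1).2 (n1 _ (by decide))) (dvd_sub_of p2 q2) (fun χ => by
      obtain ⟨n, hn⟩ := sum9 f χ.2.isCharacter
      have c := fun {a b} => χ.2.isClassFunction.eq_of_isConj (a := a) (b := b)
      rw [sum_v9, ← c (re _), ← c (re _), ← c (re _), ← c (re _), ← c cAB, ← c cD, map_one, d1, p1,
        q1] at hn
      refine ⟨n, Int.cast_injective (α := ℂ) ?_⟩
      push_cast; linear_combination hn) d3
    (Eq.trans (by rw [show ((9 : ℕ) : ℚ) * (9 : ℕ) = 81 by norm_num]) m1)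
    (card_le_two (P := fun p : G × G => IsConj (f vA) p.1 ∧ IsConj (f vA) p.2 ∧ p.1 * p.2 = f (vA * vB))
      Prod.fst (f vA) (f vB) (fun a b a1 a2 e =>
      Prod.ext e (mul_left_cancel (a := a.1) (by rw [a1.2.2, e, a2.2.2]))) fun a ⟨a1, a2, a3⟩ => by
        obtain ⟨k1, k2⟩ := h.pair_mem he' (mem _) (mem _) (mem _) (ne _ (by decide)) nc a1 a2 a3
        obtain ⟨a', e⟩ : a.1 ∈ f.range := hr ▸ k1
        obtain ⟨b', e'⟩ : a.2 ∈ f.range := hr ▸ k2
        rw [← e] at a1 a3 ⊢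
        rw [← e'] at a2 a3
        have a4 := hf ((map_mul f a' b').trans a3)
        exact (v9_k _ (K _ a1) _ (K _ a2) a4).imp (congrArg f) (congrArg f))
    (Eq.trans (by rw [show ((9 : ℕ) : ℚ) * (9 : ℕ) = 81 by norm_num]) m2)
  obtain ⟨k, k1, k2⟩ := h.idx hf hr
  rw [he] at k1 k2
  rw [← index_eq_one]
  have : Nm(S).index ≠ 0 := index_ne_zero_of_finite
  omega

end C9

end Cfsg.Agent.Ez
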