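import Mathlib

set_option autoImplicit false

namespace Cfsg.Agent.Ez

open Polynomial

theorem exists_equiv_of_torsion {R M N : Type*} [CommRing R] [AddCommGroup M] [AddCommGroup N]
    [Module R M] [Module R N] [Finite M] [Finite N] (I : Ideal R) [I.IsMaximal]
    (hM : Module.IsTorsionBySet R M I) (hN : Module.IsTorsionBySet R N I)
    (hc : Nat.card M = Nat.card N) {u : M} {v : N} (hu : u ≠ 0) (hv : v ≠ 0) :
    ∃ e : M ≃+ N, e u = v ∧ ∀ (r : R) x, e (r • x) = r • e x := by
  let _ := hM.module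
  let _ := hN.module
  let _ := Ideal.Quotient.field I
  have : Finite (R ⧸ I) := .of_injective _ (smul_left_injective (R ⧸ I) hu)
  have h1 : Module.finrank (R ⧸ I) M = Module.finrank (R ⧸ I) N := by
    rw [Module.natCard_eq_pow_finrank (K := R ⧸ I) (V := M),
      Module.natCard_eq_pow_finrank (K := R ⧸ I) (V := N)] at hc
    exact Nat.pow_right_injective Finite.one_lt_card hc
  obtain ⟨e⟩ := FiniteDimensional.nonempty_linearEquiv_of_finrank_eq h1
  have h2 : e u ≠ 0 := by simpa using hu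
  obtain ⟨g, hg⟩ := Submodule.exists_linearEquiv_restrict_eq
    ((LinearEquiv.toSpanNonzeroSingleton (R ⧸ I) N _ h2).symm ≪≫ₗ
      LinearEquiv.toSpanNonzeroSingleton (R ⧸ I) N _ hv)
  refine ⟨(e ≪≫ₗ g).toAddEquiv, ?_, fun r x => (e ≪≫ₗ g).map_smul (Ideal.Quotient.mk I r) x⟩
  have := hg (LinearEquiv.toSpanNonzeroSingleton (R ⧸ I) N _ h2 1)
  rw [LinearEquiv.trans_apply, LinearEquiv.symm_apply_apply] at this
  simpa using this.symm

variable {p q : ℕ} [hp : Fact p.Prime] [hq : Fact q.Prime] {V : Type*} [AddCommGroup V]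
  [Module (ZMod p) V] [Finite V]

omit [Finite V] in
theorem aeval_cyc {α : Module.End (ZMod p) V} (h1 : α ^ q = 1) (h2 : Function.Injective ⇑(α - 1)) :
    aeval α (cyclotomic q (ZMod p)) = 0 := by
  have := congrArg (aeval α) (cyclotomic_prime_mul_X_sub_one (ZMod p) q)
  rw [mul_comm, map_mul] at this
  simp only [map_sub, aeval_X, map_one, map_pow, h1, sub_self] at this
  exact LinearMap.ext fun w => h2 (by simpa using LinearMap.congr_fun this w)

theorem exists_intertwine (hpq : p ≠ q) (ho : orderOf (p : ZMod q) = q - 1)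
    {α β : Module.End (ZMod p) V} (a1 : α ^ q = 1) (a2 : Function.Injective ⇑(α - 1))
    (b1 : β ^ q = 1) (b2 : Function.Injective ⇑(β - 1)) {u v : V} (hu : u ≠ 0) (hv : v ≠ 0) :
    ∃ e : V ≃+ V, e u = v ∧ ∀ w, e (α w) = β (e w) := by
  have hi : Irreducible (cyclotomic q (ZMod p)) := ZMod.irreducible_of_dvd_cyclotomic_of_natDegree
    (n := q) (fun e => hpq ((Nat.prime_dvd_prime_iff_eq hp.1 hq.1).1 e)) dvd_rfl (by
      rw [← orderOf_units, ZMod.coe_unitOfCoprime, ho, natDegree_cyclotomic, Nat.totient_prime hq.1])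
  have := PrincipalIdealRing.isMaximal_of_irreducible hi
  have k : ∀ {α : Module.End (ZMod p) V}, α ^ q = 1 → Function.Injective ⇑(α - 1) →
      Module.IsTorsionBySet (ZMod p)[X] (Module.AEval' α)
        (Ideal.span {cyclotomic q (ZMod p)} : Ideal _) := fun {α} h1 h2 => by
    rw [Module.isTorsionBySet_span_singleton_iff]
    intro x
    obtain ⟨x, rfl⟩ := (Module.AEval'.of α).surjective x
    show cyclotomic q (ZMod p) • _ = 0
    rw [← Module.AEval.of_aeval_smul, aeval_cyc h1 h2, zero_smul, map_zero]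
  have f1 : Finite (Module.AEval' α) := ‹Finite V›
  have f2 : Finite (Module.AEval' β) := ‹Finite V›
  obtain ⟨e, e1, e2⟩ := exists_equiv_of_torsion _ (k a1 a2) (k b1 b2) rfl
    (u := Module.AEval'.of α u) (v := Module.AEval'.of β v) (by simpa using hu) (by simpa using hv)
  refine ⟨((Module.AEval'.of α).toAddEquiv.trans e).trans (Module.AEval'.of β).symm.toAddEquiv,
    by simp [e1], fun w => ?_⟩
  have := e2 X (Module.AEval'.of α w)
  rw [Module.AEval'.X_smul_of] at this
  simp [this]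

omit [Finite V] hq in
theorem aeval_inter {α β : Module.End (ZMod p) V} {e : V →+ V} (h : ∀ w, e (α w) = β (e w))
    (r : (ZMod p)[X]) (w : V) : e (aeval α r w) = aeval β r (e w) := by
  have k : ∀ (n : ℕ) w, e ((α ^ n) w) = (β ^ n) (e w) := fun n => by
    induction n with
    | zero => simp
    | succ n ih => intro w; simp [pow_succ, ih, h]
  induction r using Polynomial.induction_on' with
  | add a b ha hb => simp [ha, hb]
  | monomial n a => simp [aeval_monomial, ZMod.map_smul, k]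

theorem order_of_homog [Nontrivial V] (hpq : p ≠ q) {α : Module.End (ZMod p) V} (a1 : α ^ q = 1)
    (a2 : Function.Injective ⇑(α - 1))
    (hT : ∀ u v : V, u ≠ 0 → v ≠ 0 → ∃ (e : V →+ V) (k : ℕ), Function.Injective e ∧ e u = v ∧
      ∀ w, e (α w) = (α ^ k) (e w))
    (hK : ∀ k, 0 < k → k < q → ∃ e : V →+ V, Function.Injective e ∧ ∀ w, e (α w) = (α ^ k) (e w)) :
    orderOf (p : ZMod q) = q - 1 := by
  classical
  let M : V → Set V := fun v => Set.range fun r : (ZMod p)[X] => aeval α r v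
  have m1 : ∀ u v, u ≠ 0 → u ∈ M v → v ∈ M u := by
    rintro _ v hu ⟨s, rfl⟩
    obtain ⟨e, k, e1, e2, e3⟩ := hT v _ (by rintro rfl; simp at hu) hu
    have h1 : M (aeval α s v) ⊆ M v := by
      rintro _ ⟨r, rfl⟩; exact ⟨r * s, by simp⟩
    have h2 : e '' M v ⊆ M (aeval α s v) := by
      rintro _ ⟨_, ⟨r, rfl⟩, rfl⟩
      exact ⟨r.comp (X ^ k), by simp [aeval_comp, aeval_inter e3, e2]⟩
    rw [Set.eq_of_subset_of_ncard_le h1 ((Set.ncard_image_of_injective _ e1).ge.trans
      (Set.ncard_le_ncard h2))]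
    exact ⟨1, by simp⟩
  have cm : ∀ (r s : (ZMod p)[X]) v, aeval α r (aeval α s v) = aeval α s (aeval α r v) := fun r s v => by
    rw [← Module.End.mul_apply, ← map_mul, mul_comm, map_mul, Module.End.mul_apply]
  have m2 : ∀ (r : (ZMod p)[X]) u v, aeval α r u ≠ 0 → aeval α r v = 0 → v = 0 := by
    intro r u v h1 h2
    by_contra hv
    obtain ⟨s, hs⟩ := m1 _ (u + v) h1 ⟨r, by simp [h2]⟩
    obtain ⟨t, ht⟩ := m1 v u hv ⟨s * r - 1, by simp [show aeval α s (aeval α r u) = u + v from hs]⟩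
    exact h1 (by rw [← show aeval α t v = u from ht, cm, h2, map_zero])
  have hint : IsIntegral (ZMod p) α := LinearMap.isIntegral α
  have hi : Irreducible (minpoly (ZMod p) α) := Prime.irreducible
    ⟨minpoly.ne_zero hint, minpoly.not_isUnit _ _, fun a b h => by
      rw [minpoly.dvd_iff, minpoly.dvd_iff, or_iff_not_imp_left]
      rw [minpoly.dvd_iff, map_mul] at h
      intro ha
      obtain ⟨u, hu⟩ : ∃ u, aeval α a u ≠ 0 := by
        by_contra hn; push Not at hn; exact ha (LinearMap.ext hn)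
      exact LinearMap.ext fun w => m2 a u _ hu (LinearMap.congr_fun h w)⟩
  have hd : minpoly (ZMod p) α ∣ cyclotomic q (ZMod p) := minpoly.dvd _ _ (aeval_cyc a1 a2)
  have hc : p.Coprime q := (Nat.coprime_primes hp.1 hq.1).2 hpq
  have h1 := natDegree_of_dvd_cyclotomic_of_irreducible (p := p) (f := 1) (by simp) hc hd hi
  rw [← orderOf_units, ZMod.coe_unitOfCoprime, pow_one] at h1
  refine le_antisymm (Nat.le_of_dvd (Nat.sub_pos_of_lt hq.1.one_lt) (ZMod.orderOf_dvd_card_sub_one
    fun e => hpq ((Nat.prime_dvd_prime_iff_eq hq.1 hp.1).1 ((ZMod.natCast_eq_zero_iff _ _).1 e)).symm)) ?_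
  have := Fact.mk hi
  set f := minpoly (ZMod p) α
  have : NeZero (q : ZMod p) := ⟨fun e => hpq ((Nat.prime_dvd_prime_iff_eq hp.1 hq.1).1
    ((ZMod.natCast_eq_zero_iff _ _).1 e))⟩
  have : NeZero (q : AdjoinRoot f) := NeZero.of_injective (algebraMap (ZMod p) _).injective
  have h2 : IsPrimitiveRoot (AdjoinRoot.root f) q := by
    rw [← isRoot_cyclotomic_iff, ← map_cyclotomic q (algebraMap (ZMod p) _), IsRoot, eval_map_algebraMap,
      AdjoinRoot.aeval_eq, AdjoinRoot.mk_eq_zero]
    exact hd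
  rw [← h1, ← natDegree_map (algebraMap (ZMod p) (AdjoinRoot f)), ← Nat.card_Ico,
    ← Finset.card_image_of_injOn (f := fun k => AdjoinRoot.root f ^ k) fun a ha b hb e =>
      h2.pow_inj (Finset.mem_Ico.1 ha).2 (Finset.mem_Ico.1 hb).2 e]
  refine card_le_degree_of_subset_roots fun z hz => ?_
  obtain ⟨k, hk, rfl⟩ := Finset.mem_image.1 (Finset.mem_def.2 hz)
  obtain ⟨e, e1, e2⟩ := hK k (Finset.mem_Ico.1 hk).1 (Finset.mem_Ico.1 hk).2
  rw [mem_roots (Polynomial.map_ne_zero hi.ne_zero), IsRoot, eval_map_algebraMap]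
  have h3 : f ∣ f.comp (X ^ k) := minpoly.dvd _ _ (LinearMap.ext fun w => by
    obtain ⟨w, rfl⟩ := Finite.surjective_of_injective e1 w
    simp [aeval_comp, ← aeval_inter e2, f])
  rw [← AdjoinRoot.mk_eq_zero, ← AdjoinRoot.aeval_eq] at h3
  simpa [aeval_comp] using h3

end Cfsg.Agent.Ez
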