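import Cfsg.Agent.Lib.Ez.E4
import Cfsg.Agent.Lib.Ez.C3
import Cfsg.Agent.Lib.Solv.Mod
import Cfsg.Agent.Lib.Solv.Frob2

set_option autoImplicit false

namespace Cfsg.Agent.Ez

open Subgroup Cfsg.Agent.Comp Cfsg.Agent.Solv SemidirectProduct

universe u
variable {G : Type u} [Group G] [Finite G]

theorem exists_aut_ext {P : Subgroup G} [hP : P.Normal] {x x' : G} (hc : P.IsComplement' (zpowers x))
    (hc' : P ⊔ zpowers x' = ⊤) (ho : orderOf x' ∣ orderOf x) (β : P →* G) (hβ : P ≤ β.range)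
    (h : ∀ a : P, β ⟨x * a * x⁻¹, hP.conj_mem _ a.2 x⟩ = x' * β a * x'⁻¹) :
    ∃ φ : MulAut G, φ x = x' ∧ ∀ a : P, φ a = β a := by
  have hg : ∀ y : zpowers x, y ∈ zpowers (⟨x, mem_zpowers x⟩ : zpowers x) := fun ⟨_, k, rfl⟩ => ⟨k, rfl⟩
  let f := monoidHomOfForallMemZpowers (g' := x') hg (by rwa [← orderOf_coe])
  have hf : f ⟨x, mem_zpowers x⟩ = x' := monoidHomOfForallMemZpowers_apply_gen _ _
  have k : ∀ (n : ℕ) (a : P), β ⟨x ^ n * a * (x ^ n)⁻¹, hP.conj_mem _ a.2 _⟩ =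
      x' ^ n * β a * (x' ^ n)⁻¹ := fun n => by
    induction n with
    | zero => simp
    | succ n ih =>
      intro a
      have := h ⟨_, hP.conj_mem _ a.2 (x ^ n)⟩
      rw [ih] at this
      convert this using 1
      · congr 2; rw [pow_succ']; group
      · rw [pow_succ']; group
  let ψ := (lift (φ := P.normalizerMonoidHom.comp (inclusion (P.normalizer_eq_top ▸ le_top))) β f
    fun g => MonoidHom.ext fun a => by
      obtain ⟨n, rfl⟩ := mem_powers_iff_mem_zpowers.2 (hg g)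
      exact (k n a).trans (by rw [← hf, ← map_pow]; rfl)).comp (mulEquivSubgroup hc).symm.toMonoidHom
  have h1 : ∀ a : P, ψ a = β a := fun a => by
    have : (mulEquivSubgroup hc).symm a = inl a := (MulEquiv.symm_apply_eq _).2 (by simp)
    simp [ψ, this]
  have h2 : ψ x = x' := by
    have : (mulEquivSubgroup hc).symm x = inr ⟨x, mem_zpowers x⟩ :=
      (MulEquiv.symm_apply_eq _).2 (by simp)
    simp [ψ, this, hf]
  have h3 : Function.Surjective ψ := MonoidHom.range_eq_top.1 (top_unique (hc'.ge.trans (sup_le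
    (hβ.trans (by rintro _ ⟨a, rfl⟩; exact ⟨a, h1 a⟩)) (zpowers_le.2 ⟨x, h2⟩))))
  exact ⟨MulEquiv.ofBijective ψ h3.bijective_of_finite, h2, h1⟩

section
variable {p q : ℕ} [hp : Fact p.Prime] [hq : Fact q.Prime] {P : Subgroup G} [hP : P.Normal]

omit hp in
theorem compl_of_index (hi : P.index = q) {x : G} (hx : orderOf x = q) (h : x ∉ P) :
    P.IsComplement' (zpowers x) := by
  refine isComplement'_of_card_mul_and_disjoint (by rw [Nat.card_zpowers, hx, ← hi, card_mul_index]) ?_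
  have := Fact.mk (show (Nat.card (zpowers x)).Prime by rw [Nat.card_zpowers, hx]; exact hq.1)
  rcases (P.subgroupOf (zpowers x)).eq_bot_or_eq_top_of_prime_card with e | e
  · exact subgroupOf_eq_bot.1 e
  · exact absurd (subgroupOf_eq_top.1 e (mem_zpowers x)) h

/-- conjugation as a linear map -/
def rp (hE : IsElementaryAbelian p P) : G →* Module.End (ZMod p) (EMod hE) :=
  (EMod.rep hE).comp (MonoidHom.codRestrict (MonoidHom.id G) _ fun g => P.normalizer_eq_top ▸ mem_top g)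

omit [Finite G] in
theorem val_rp (hE : IsElementaryAbelian p P) (g : G) (w : EMod hE) :
    (rp hE g w).val = g * w.val * g⁻¹ := rfl

omit [Finite G] hq in
theorem rp_inj (hE : IsElementaryAbelian p P) {x : G}
    (hf : ∀ y : G, orderOf y = p → x * y * x⁻¹ ≠ y) : Function.Injective ⇑(rp hE x - 1) := by
  rw [injective_iff_map_eq_zero]
  intro w hw
  by_contra hn
  exact hf w.val (orderOf_eq_prime (hE.2 _ w.val_mem) (mt EMod.val_eq_one.1 hn))
    (congrArg EMod.val (sub_eq_zero.1 hw))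

theorem aut_of_prim (hpq : p ≠ q) (hE : IsElementaryAbelian p P) (hi : P.index = q)
    (ho : orderOf (p : ZMod q) = q - 1) (hf : ∀ x y : G, orderOf x = q → orderOf y = p → x * y * x⁻¹ ≠ y)
    {x x' u v : G} (hx : orderOf x = q) (hx' : orderOf x' = q) (hu : u ∈ P) (hv : v ∈ P) (h1 : u ≠ 1)
    (h2 : v ≠ 1) : ∃ φ : MulAut G, φ x = x' ∧ φ u = v := by
  have k : ∀ {x : G}, orderOf x = q → rp hE x ^ q = 1 := fun e => by
    rw [← map_pow, ← e, pow_orderOf_eq_one, map_one]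
  have k2 : ∀ {x : G}, orderOf x = q → P.IsComplement' (zpowers x) := fun {x} e =>
    compl_of_index hi e fun c => hpq ((Nat.prime_dvd_prime_iff_eq hq.1 hp.1).1
      (e ▸ orderOf_dvd_of_pow_eq_one (hE.2 x c))).symm
  obtain ⟨e, e1, e2⟩ := exists_intertwine hpq ho (k hx) (rp_inj hE (hf x · hx)) (k hx')
    (rp_inj hE (hf x' · hx')) (u := EMod.mk hE u hu) (v := EMod.mk hE v hv) (mt EMod.val_eq_one.2 h1)
    (mt EMod.val_eq_one.2 h2)
  obtain ⟨φ, f1, f2⟩ := exists_aut_ext (k2 hx) (k2 hx').sup_eq_top (hx.trans hx'.symm).symm.dvd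
    (MonoidHom.mk' (fun a : P => (e (EMod.mk hE a a.2)).val) fun a b =>
      congrArg EMod.val (e.map_add (EMod.mk hE a a.2) (EMod.mk hE b b.2)))
    (fun a ha => ⟨⟨_, (e.symm (EMod.mk hE a ha)).val_mem⟩,
      congrArg EMod.val (e.apply_symm_apply (EMod.mk hE a ha))⟩)
    fun a => congrArg EMod.val (e2 (EMod.mk hE a a.2))
  exact ⟨φ, f1, (f2 ⟨u, hu⟩).trans (congrArg EMod.val e1)⟩

theorem prim_of_aut (hpq : p ≠ q) (hE : IsElementaryAbelian p P) (h0 : P ≠ ⊥) (hi : P.index = q)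
    [hc : P.Characteristic] {x : G} (hx : orderOf x = q)
    (hf : ∀ y : G, orderOf y = p → x * y * x⁻¹ ≠ y)
    (h2 : ∀ x y : G, orderOf x = orderOf y → ∃ φ : MulAut G, φ x = y) :
    orderOf (p : ZMod q) = q - 1 := by
  have := EMod.nontrivial (h := hE) h0
  have k2 : P.IsComplement' (zpowers x) :=
    compl_of_index hi hx fun c => hpq ((Nat.prime_dvd_prime_iff_eq hq.1 hp.1).1
      (hx ▸ orderOf_dvd_of_pow_eq_one (hE.2 x c))).symm
  have key : ∀ φ : MulAut G, ∃ e : EMod hE →+ EMod hE, Function.Injective e ∧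
      (∀ w, (e w).val = φ w.val) ∧ ∀ w, e (rp hE x w) = rp hE (φ x) (e w) := fun φ =>
    ⟨AddMonoidHom.mk' (fun w => EMod.mk hE (φ w.val)
      (characteristic_iff_le_comap.1 hc φ w.val_mem)) fun a b => EMod.ext' (map_mul φ a.val b.val),
      fun a b e => EMod.ext' (φ.injective (congrArg EMod.val e)), fun _ => rfl,
      fun w => EMod.ext' (show φ (x * w.val * x⁻¹) = φ x * φ w.val * (φ x)⁻¹ by simp)⟩
  refine order_of_homog hpq (α := rp hE x) (by rw [← map_pow, ← hx, pow_orderOf_eq_one, map_one])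
    (rp_inj hE hf) (fun u v hu hv => ?_) fun k k0 k1 => ?_
  · obtain ⟨φ, f⟩ := h2 u.val v.val ((orderOf_eq_prime (hE.2 _ u.val_mem) (mt EMod.val_eq_one.1 hu)).trans
      (orderOf_eq_prime (hE.2 _ v.val_mem) (mt EMod.val_eq_one.1 hv)).symm)
    obtain ⟨e, e1, e2, e3⟩ := key φ
    obtain ⟨⟨a, _, hb⟩, hab⟩ := k2.2 (φ x)
    obtain ⟨k, rfl⟩ := mem_powers_iff_mem_zpowers.2 hb
    refine ⟨e, k, e1, EMod.ext' ((e2 u).trans f), fun w => ?_⟩
    have : rp hE a = 1 := EMod.rep_eq_one_iff.2 fun b hb =>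
      congrArg Subtype.val (hE.1.1.1 ⟨b, hb⟩ ⟨a, a.2⟩)
    rw [e3, ← hab]
    simp [this]
  · obtain ⟨φ, f⟩ := h2 x (x ^ k) (Nat.Coprime.orderOf_pow
      (hx ▸ (Nat.coprime_of_lt_prime k0.ne' k1 hq.1))).symm
    obtain ⟨e, e1, e2, e3⟩ := key φ
    exact ⟨e, e1, fun w => by rw [e3, f, map_pow]⟩

end

end Cfsg.Agent.Ez
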