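import Cfsg.Agent.Lib.BG.Basic
import Cfsg.Agent.Lib.Solv.Super

set_option autoImplicit false

namespace Cfsg.Agent.Ez

open Subgroup Cfsg.Agent.Comp Cfsg.Agent.BG

section
variable {G H : Type*} [Group G] [Finite G] [Group H] [Finite H]

theorem exists_ord_equiv (hT : ∀ m : ℕ, Nat.card {g : G // orderOf g = m} =
    Nat.card {h : H // orderOf h = m}) : ∃ σ : G ≃ H, ∀ x, orderOf (σ x) = orderOf x :=
  ⟨Equiv.ofFiberEquiv fun m => (Finite.card_eq.1 (hT m)).some, Equiv.ofFiberEquiv_map _⟩

omit [Finite G] [Finite H] in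
theorem cnt_ord_equiv {σ : G ≃ H} (h : ∀ x, orderOf (σ x) = orderOf x) (Q : ℕ → Prop) :
    Nat.card {x : G // Q (orderOf x)} = Nat.card {x : H // Q (orderOf x)} :=
  Nat.card_congr (σ.subtypeEquiv fun x => by rw [h])

/-- a subgroup containing as many elements as there are with a property of the order -/
theorem normal_of_cnt {Q : ℕ → Prop} {K : Subgroup G} (h1 : ∀ x ∈ K, Q (orderOf x))
    (h2 : Nat.card {x : G // Q (orderOf x)} ≤ Nat.card K) : K.Normal := by
  have : (K : Set G) = {x | Q (orderOf x)} := Set.eq_of_subset_of_ncard_le h1 h2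
  refine ⟨fun x hx g => this.ge ?_⟩
  rw [Set.mem_setOf_eq, show orderOf (g * x * g⁻¹) = orderOf x from (MulAut.conj g).orderOf_eq x]
  exact h1 x hx

theorem cnt_quot {π : Set ℕ} (N : Subgroup G) [N.Normal] (hN : IsPi π N) :
    Nat.card {x : G // PiN π (orderOf x)} = Nat.card N * Nat.card {x : G ⧸ N // PiN π (orderOf x)} := by
  refine Eq.trans (Nat.card_congr (Equiv.subtypeEquivRight fun x => ⟨fun h => ?_, fun h => ?_⟩))
    (QuotientGroup.card_preimage_mk N {x | PiN π (orderOf x)})
  · exact h.of_dvd (orderOf_map_dvd (QuotientGroup.mk' N) x)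
  · refine (PiN.mul h (hN.orderOf (x := x ^ orderOf (x : G ⧸ N)) ((QuotientGroup.eq_one_iff _).1
      (by simp)))).of_dvd (orderOf_dvd_of_pow_eq_one ?_)
    rw [pow_mul, pow_orderOf_eq_one]

theorem cnt_normal_hall {π : Set ℕ} {N : Subgroup G} [N.Normal] (hN : HallIn π N ⊤) :
    Nat.card {x : G // PiN π (orderOf x)} = Nat.card N :=
  Nat.card_congr (Equiv.subtypeEquivRight fun x => ⟨fun h => hN.le_of_normalizer le_top
    (isPi_zpowers.2 h) le_normalizer_of_normal (mem_zpowers x), hN.isPi.orderOf⟩)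

end

universe u v

theorem solvable_of_tower (n : ℕ) : ∀ (G : Type u) (H : Type v) [Group G] [Finite G] [Group H] [Finite H],
    Nat.card G = n → IsSupersolvable G → (∀ k, Nat.card {x : G // PiN (Set.Ici k) (orderOf x)} =
      Nat.card {x : H // PiN (Set.Ici k) (orderOf x)}) → Group.IsSolvable H := by
  induction n using Nat.strong_induction_on with | _ n ih => ?_
  intro G H _ _ _ _ hn hG h
  have k0 : ∀ (G : Type _) [Group G], Nat.card {x : G // PiN (Set.Ici 0) (orderOf x)} = Nat.card G :=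
    fun G _ => Nat.card_congr (Equiv.subtypeUnivEquiv fun _ _ _ _ => Nat.zero_le _)
  have hc : Nat.card G = Nat.card H := by
    rw [← k0 G, h]; exact Nat.card_congr (Equiv.subtypeUnivEquiv fun _ _ _ _ => Nat.zero_le _)
  by_cases h1 : Nat.card G = 1
  · have := (Nat.card_eq_one_iff_unique.1 (hc ▸ h1)).1
    exact isSolvable_of_comm fun _ _ => Subsingleton.elim _ _
  have hne : (Nat.card G).primeFactors.Nonempty := Nat.nonempty_primeFactors.2
    (by have := Nat.card_pos (α := G); omega)
  set p := (Nat.card G).primeFactors.max' hne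
  have hp := Nat.mem_primeFactors.1 ((Nat.card G).primeFactors.max'_mem hne)
  have hm : ∀ q : ℕ, q.Prime → q ∣ Nat.card G → q ≤ p := fun q a b =>
    Finset.le_max' _ _ (Nat.mem_primeFactors.2 ⟨a, b, hp.2.2⟩)
  have := Fact.mk hp.1
  obtain ⟨P⟩ : Nonempty (Sylow p G) := inferInstance
  obtain ⟨Q⟩ : Nonempty (Sylow p H) := inferInstance
  have hP := Solv.ss_sylow_normal hG hm P
  have hPQ : Nat.card P = Nat.card Q := by rw [P.card_eq_multiplicity, Q.card_eq_multiplicity, hc]
  have h2 := cnt_normal_hall (π := Set.Ici p) (N := (P : Subgroup G)) (hallIn_mk le_top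
    (isPi_of_isPGroup P.2 Set.self_mem_Ici) fun q a b c => by
      rw [relIndex_top_right] at b
      exact P.not_dvd_index ((le_antisymm c (hm q a (b.trans (index_dvd_card _)))).dvd.trans b))
  have hQ : (Q : Subgroup H).Normal := normal_of_cnt (Q := PiN (Set.Ici p))
    (fun x => (isPi_of_isPGroup Q.2 Set.self_mem_Ici).orderOf) (by rw [← h, h2, hPQ])
  refine Solv.isSolvable_of_normal_of_quotient (Q : Subgroup H) 
    (have := Q.2.isNilpotent; IsNilpotent.to_isSolvable)
    (ih _ ?_ (G ⧸ (P : Subgroup G)) _ rfl (Solv.ss_quotient hG _) fun k => ?_)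
  · rw [← hn, ← (P : Subgroup G).card_mul_index]
    exact lt_mul_of_one_lt_left Nat.card_pos (one_lt_card_iff_ne_bot _ |>.2 (P.ne_bot_of_dvd_card hp.2.1))
  rcases le_or_gt k p with a | a
  · have := h k
    rw [cnt_quot (P : Subgroup G) (isPi_of_isPGroup P.2 (Set.mem_Ici.2 a)), cnt_quot (Q : Subgroup H)
      (isPi_of_isPGroup Q.2 (Set.mem_Ici.2 a)), hPQ] at this
    exact Nat.eq_of_mul_eq_mul_left Nat.card_pos this
  · rw [cnt_normal_hall (N := ⊥) (hallIn_mk le_top isPi_bot fun q b c => ?_),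
      cnt_normal_hall (N := ⊥) (hallIn_mk le_top isPi_bot fun q b c => ?_), card_bot, card_bot]
    all_goals rw [relIndex_bot_left, card_top] at c
    · exact not_le.2 ((hm q b (hc ▸ c.trans (card_quotient_dvd_card _))).trans_lt a)
    · exact not_le.2 ((hm q b (c.trans (card_quotient_dvd_card _))).trans_lt a)

end Cfsg.Agent.Ez
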