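import Mathlib

set_option autoImplicit false

namespace Cfsg.Agent.Ez

open Nat

theorem centralBinom_le_card (n : ℕ) (hn : 2 < n) :
    centralBinom n ≤ (2 * n) ^ sqrt (2 * n) * 4 ^ (2 * n / 3) *
      (2 * n) ^ ((Finset.Ioc n (2 * n)).filter Nat.Prime).card := by
  have n_pos : 0 < n := (Nat.zero_le _).trans_lt hn
  have n2_pos : 1 ≤ 2 * n := mul_pos (zero_lt_two' ℕ) n_pos
  let S := {p ∈ Finset.range (2 * n / 3 + 1) | Nat.Prime p}
  let T := (Finset.Ioc n (2 * n)).filter Nat.Prime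
  let f x := x ^ n.centralBinom.factorization x
  have hf : ∀ p, f p ≤ 2 * n := fun p => pow_factorization_choose_le (mul_pos two_pos n_pos)
  have h0 : centralBinom n = ∏ x ∈ S ∪ T, f x := by
    refine (Eq.trans ?_ n.prod_pow_factorization_centralBinom).symm
    refine Finset.prod_subset (fun x hx => ?_) fun x hx h2x => ?_
    · simp only [S, T, Finset.mem_union, Finset.mem_filter, Finset.mem_range, Finset.mem_Ioc] at hx ⊢
      omega
    simp only [S, T, Finset.mem_union, Finset.mem_filter, Finset.mem_range, Finset.mem_Ioc] at hx h2x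
    by_cases h : x.Prime
    · simp only [h, and_true] at h2x
      simp only [f]
      rw [factorization_centralBinom_of_two_mul_self_lt_three_mul hn (by omega) (by omega), Nat.pow_zero]
    · simp only [f]; rw [factorization_eq_zero_of_not_prime n.centralBinom h, Nat.pow_zero]
  rw [h0, Finset.prod_union (by
    simp only [S, T, Finset.disjoint_left, Finset.mem_filter, Finset.mem_range, Finset.mem_Ioc]
    omega), ← Finset.prod_filter_mul_prod_filter_not S (· ≤ sqrt (2 * n))]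
  refine mul_le_mul' (mul_le_mul' ?_ ?_) (Finset.prod_le_pow_card _ _ _ fun p _ => hf p)
  · refine (Finset.prod_le_prod' fun p _ => hf p).trans ?_
    have : (Finset.Icc 1 (sqrt (2 * n))).card = sqrt (2 * n) := by rw [card_Icc, Nat.add_sub_cancel]
    rw [Finset.prod_const]
    refine pow_right_mono₀ n2_pos ((Finset.card_le_card fun x hx => ?_).trans this.le)
    obtain ⟨h1, h2⟩ := Finset.mem_filter.1 hx
    exact Finset.mem_Icc.mpr ⟨(Finset.mem_filter.1 h1).2.one_lt.le, h2⟩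
  · refine le_trans ?_ (primorial_le_four_pow (2 * n / 3))
    refine (Finset.prod_le_prod' fun p hp => (?_ : f p ≤ p)).trans ?_
    · obtain ⟨h1, h2⟩ := Finset.mem_filter.1 hp
      refine (pow_right_mono₀ (Finset.mem_filter.1 h1).2.one_lt.le ?_).trans (pow_one p).le
      exact Nat.factorization_choose_le_one (sqrt_lt'.mp <| not_le.1 h2)
    refine Finset.prod_le_prod_of_subset_of_one_le' (Finset.filter_subset _ _) ?_
    exact fun p hp _ => (Finset.mem_filter.1 hp).2.one_lt.le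

theorem succ_pow_seven_le {s : ℕ} (hs : 37 ≤ s) : (s + 1) ^ 7 ≤ 2 ^ s := by
  induction s, hs using Nat.le_induction with
  | base => norm_num
  | succ s hs ih =>
    have h1 : 38 * (s + 1 + 1) ≤ 39 * (s + 1) := by omega
    have h2 := Nat.pow_le_pow_left h1 7
    rw [mul_pow, mul_pow] at h2
    rw [pow_succ 2]
    omega

theorem three_le_card_primes {n : ℕ} (hn : 685 ≤ n) :
    3 ≤ ((Finset.Ioc n (2 * n)).filter Nat.Prime).card := by
  by_contra h
  have h1 := Nat.four_pow_lt_mul_centralBinom n (by omega)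
  have h2 := centralBinom_le_card n (by omega)
  set s := sqrt (2 * n)
  have h3 : 37 ≤ s := le_sqrt'.2 (by omega)
  have h4 : 2 * n ≤ (s + 1) ^ 2 := (lt_succ_sqrt' _).le
  have h5 : s ^ 2 ≤ 2 * n := sqrt_le' _
  have h6 : (2 * n) ^ (s + 3) ≤ 4 ^ (n - 2 * n / 3) := by
    refine (Nat.pow_le_pow_iff_left (n := 7) (by norm_num)).1 ?_
    calc _ ≤ (((s + 1) ^ 2) ^ (s + 3)) ^ 7 := by gcongr
      _ = ((s + 1) ^ 7) ^ (2 * (s + 3)) := by simp only [← pow_mul]; congr 1; ring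
      _ ≤ (2 ^ s) ^ (2 * (s + 3)) := Nat.pow_le_pow_left (succ_pow_seven_le h3) _
      _ = 4 ^ (s * (s + 3)) := by rw [show 4 = 2 ^ 2 by norm_num]; simp only [← pow_mul]; congr 1; ring
      _ ≤ _ := by
        rw [← pow_mul]
        refine Nat.pow_le_pow_right (by norm_num) ?_
        have : n ≤ 3 * (n - 2 * n / 3) := by omega
        nlinarith
  refine absurd h1 (not_lt.2 ?_)
  calc n * centralBinom n ≤ (2 * n) * ((2 * n) ^ s * 4 ^ (2 * n / 3) * (2 * n) ^ 2) :=
        Nat.mul_le_mul (by omega) (h2.trans (Nat.mul_le_mul_left _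
          (Nat.pow_le_pow_right (by omega) (by omega))))
    _ = (2 * n) ^ (s + 3) * 4 ^ (2 * n / 3) := by ring
    _ ≤ 4 ^ (n - 2 * n / 3) * 4 ^ (2 * n / 3) := Nat.mul_le_mul_right _ h6
    _ = 4 ^ n := by rw [← pow_add]; congr 1; omega

theorem exists_two_primes {m : ℕ} (h : 11 ≤ m) (h1 : m ≠ 14) (h2 : m ≠ 15) (h3 : m ≠ 16) :
    ∃ p q : ℕ, p.Prime ∧ q.Prime ∧ m < 2 * p ∧ p + 3 ≤ q ∧ q ≤ m := by
  by_cases hm : 1370 ≤ m
  · obtain ⟨a, b, c, h4, h5, h6, h7, h8, h9⟩ := Finset.two_lt_card_iff.1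
      (three_le_card_primes (n := m / 2) (by omega))
    simp only [Finset.mem_filter, Finset.mem_Ioc] at h4 h5 h6
    have k1 := h4.2.eq_two_or_odd
    have k2 := h5.2.eq_two_or_odd
    have k3 := h6.2.eq_two_or_odd
    have : a + 3 ≤ b ∨ b + 3 ≤ a ∨ a + 3 ≤ c ∨ c + 3 ≤ a ∨ b + 3 ≤ c ∨ c + 3 ≤ b := by omega
    rcases this with e | e | e | e | e | e
    exacts [⟨a, b, h4.2, h5.2, by omega, e, by omega⟩, ⟨b, a, h5.2, h4.2, by omega, e, by omega⟩,
      ⟨a, c, h4.2, h6.2, by omega, e, by omega⟩, ⟨c, a, h6.2, h4.2, by omega, e, by omega⟩,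
      ⟨b, c, h5.2, h6.2, by omega, e, by omega⟩, ⟨c, b, h6.2, h5.2, by omega, e, by omega⟩]
  have : m ≤ 13 ∨ (17 ≤ m ∧ m ≤ 25) ∨ (23 ≤ m ∧ m ≤ 37) ∨ (37 ≤ m ∧ m ≤ 61) ∨ (59 ≤ m ∧ m ≤ 105) ∨
    (101 ≤ m ∧ m ≤ 193) ∨ (191 ≤ m ∧ m ≤ 357) ∨ (347 ≤ m ∧ m ≤ 673) ∨ (653 ≤ m ∧ m ≤ 1293) ∨
    1237 ≤ m := by omega
  rcases this with e | e | e | e | e | e | e | e | e | e
  exacts [⟨7, 11, by norm_num, by norm_num, by omega⟩, ⟨13, 17, by norm_num, by norm_num, by omega⟩,
    ⟨19, 23, by norm_num, by norm_num, by omega⟩, ⟨31, 37, by norm_num, by norm_num, by omega⟩,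
    ⟨53, 59, by norm_num, by norm_num, by omega⟩, ⟨97, 101, by norm_num, by norm_num, by omega⟩,
    ⟨179, 191, by norm_num, by norm_num, by omega⟩, ⟨337, 347, by norm_num, by norm_num, by omega⟩,
    ⟨647, 653, by norm_num, by norm_num, by omega⟩, ⟨1229, 1237, by norm_num, by norm_num, by omega⟩]

theorem exists_two_primes' {m : ℕ} (h : 11 ≤ m) :
    ∃ p q : ℕ, p.Prime ∧ q.Prime ∧ m < 2 * p ∧ p < q ∧ q ≤ m := by
  by_cases e : m = 14 ∨ m = 15 ∨ m = 16
  · exact ⟨11, 13, by norm_num, by norm_num, by omega⟩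
  obtain ⟨p, q, h1, h2, h3⟩ := exists_two_primes h (by omega) (by omega) (by omega)
  exact ⟨p, q, h1, h2, by omega⟩

end Cfsg.Agent.Ez
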