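import Cfsg.Agent.Lib.Ez.F1
import Cfsg.Agent.Lib.BG.Basic
import Cfsg.Agent.Lib.Solv.Super
import Cfsg.Agent.Lib.Solv.Frob2

set_option autoImplicit false

namespace Cfsg.Agent.Ez

open Subgroup Cfsg.Agent.Comp Cfsg.Agent.BG

variable {G : Type*} [Group G] [Finite G]

omit [Finite G] in
theorem orderOf_mul_primes {p q : ℕ} (hp : p.Prime) (hq : q.Prime) (h : p ≠ q) {x y : G}
    (hx : orderOf x = p) (hy : orderOf y = q) (c : x * y = y * x) : orderOf (x * y) = p * q := by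
  rw [Commute.orderOf_mul_eq_mul_orderOf_of_coprime c (by rw [hx, hy]; exact (Nat.coprime_primes hp hq).2 h),
    hx, hy]

theorem exists_orderOf_mul_of_norm {p q : ℕ} (hp : p.Prime) (hq : q.Prime) (h : p ≠ q) {M : Subgroup G}
    (hM : IsPGroup p M) {y : G} (hy : orderOf y = q) (hn : y ∈ Nm(M)) (h1 : Nat.card M % q ≠ 1) :
    ∃ x : G, orderOf x = p * q := by
  have := Fact.mk hp
  by_contra hc
  have := Solv.card_modEq_one_of_fpf (K := M) (H := zpowers y) (zpowers_le.2 hn) fun z hz z1 => by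
    by_contra e
    obtain ⟨w, w1, w2⟩ := exists_mem_orderOf_eq (dvd_card_of_isPGroup (hM.to_le inf_le_left) e)
    exact hc ⟨_, orderOf_mul_primes hp hq h w2 (((Nat.dvd_prime hq).1
      (hy ▸ orderOf_dvd_of_mem_zpowers hz)).resolve_left (mt orderOf_eq_one_iff.1 z1))
      (mem_centralizer_singleton_iff.1 w1.2)⟩
  rw [Nat.card_zpowers, hy, Nat.ModEq, Nat.mod_eq_of_lt hq.one_lt] at this
  exact h1 this

theorem exists_orderOf_mul_of_solvable (hs : Group.IsSolvable G) {p q : ℕ} (hp : p.Prime) (hq : q.Prime)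
    (h : p ≠ q) (h1 : p ∣ Nat.card G) (h2 : q ∣ Nat.card G)
    (h3 : ∀ i, 0 < i → p ^ i ∣ Nat.card G → p ^ i % q ≠ 1)
    (h4 : ∀ i, 0 < i → q ^ i ∣ Nat.card G → q ^ i % p ≠ 1) : ∃ x : G, orderOf x = p * q := by
  obtain ⟨H, hH⟩ := exists_hallIn (M := (⊤ : Subgroup G)) inferInstance {p, q}
  have k1 := hH.dvd_card hp (by simp) (card_top (G := G) ▸ h1)
  have k2 := hH.dvd_card hq (by simp) (card_top (G := G) ▸ h2)
  have := (nontrivial_iff_ne_bot H).2 (ne_bot_of_dvd hp k1)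
  obtain ⟨M, -, b, c, d⟩ := Solv.exists_minimal_normal_le (⊤ : Subgroup H) top_ne_bot
  obtain ⟨-, r, hr, h7⟩ := Solv.minimal_normal_elementary M inferInstance c d
  have := Fact.mk hr
  have h8 : IsPGroup r M := isPGroup_of_forall fun x hx => ⟨1, (pow_one r).symm ▸ h7 x hx⟩
  obtain ⟨i, hi⟩ := h8.exists_card_eq
  have i0 : 0 < i := Nat.pos_of_ne_zero (by rintro rfl; exact c (card_eq_one.1 hi))
  have i1 : r ^ i ∣ Nat.card G := hi ▸ (card_subgroup_dvd_card M).trans (card_subgroup_dvd_card H)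
  rcases hH.mem_of_dvd hr ((dvd_card_of_isPGroup h8 c).trans (card_subgroup_dvd_card M)) with rfl | rfl
  · have := Fact.mk hq
    obtain ⟨y, hy⟩ := exists_prime_orderOf_dvd_card' q k2
    obtain ⟨x, hx⟩ := exists_orderOf_mul_of_norm hp hq h h8 hy (M.normalizer_eq_top ▸ mem_top y)
      (hi ▸ h3 i i0 i1)
    exact ⟨x, (orderOf_coe x).trans hx⟩
  · have := Fact.mk hp
    obtain ⟨y, hy⟩ := exists_prime_orderOf_dvd_card' p k1
    obtain ⟨x, hx⟩ := exists_orderOf_mul_of_norm hq hp h.symm h8 hy (M.normalizer_eq_top ▸ mem_top y)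
      (hi ▸ h4 i i0 i1)
    exact ⟨x, (orderOf_coe x).trans (hx.trans (mul_comm _ _))⟩

theorem add_le_card_of_orderOf {α : Type*} [Fintype α] [DecidableEq α] {p q : ℕ} (hp : p.Prime)
    (hq : q.Prime) (h : p ≠ q) {σ : Equiv.Perm α} (hσ : orderOf σ = p * q) : p + q ≤ Fintype.card α := by
  have k : p * q ∣ σ.cycleType.prod := hσ ▸ σ.lcm_cycleType ▸
    Multiset.lcm_dvd.2 fun a ha => Multiset.dvd_prod ha
  obtain ⟨a, a1, a2⟩ := hp.prime.exists_mem_multiset_dvd ((dvd_mul_right p q).trans k)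
  obtain ⟨b, b1, b2⟩ := hq.prime.exists_mem_multiset_dvd ((dvd_mul_left q p).trans k)
  have a0 := Equiv.Perm.two_le_of_mem_cycleType a1
  have b0 := Equiv.Perm.two_le_of_mem_cycleType b1
  refine le_trans ?_ σ.sum_cycleType_le
  obtain ⟨t, ht⟩ := Multiset.exists_cons_of_mem a1
  rw [ht, Multiset.mem_cons] at b1
  rw [ht, Multiset.sum_cons]
  rcases b1 with rfl | b1
  · have := Nat.le_of_dvd (by omega) (((Nat.coprime_primes hp hq).2 h).mul_dvd_of_dvd_of_dvd a2 b2)
    have := Nat.add_le_mul hp.two_le hq.two_le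
    omega
  · have := Multiset.le_sum_of_mem b1
    have := Nat.le_of_dvd (by omega) a2
    have := Nat.le_of_dvd (by omega) b2
    omega

theorem eq_one_of_pow_dvd_factorial {p n i : ℕ} (hp : p.Prime) (h : n < 2 * p) (h0 : 0 < i)
    (h1 : p ^ i ∣ n.factorial) : i = 1 := by
  have := Fact.mk hp
  have h2 := (padicValNat_dvd_iff_le (Nat.factorial_ne_zero _)).1 (h1.trans
    (Nat.factorial_dvd_factorial (show n ≤ p * 1 + (p - 1) by omega)))
  rw [padicValNat_factorial_mul_add 1 (Nat.sub_one_lt hp.ne_zero), padicValNat_factorial_mul] at h2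
  simp at h2
  omega

theorem mod_ne_one_of_primes {p q n : ℕ} (hp : p.Prime) (hq : q.Prime) (h : p ≠ q) (h1 : n < 2 * q)
    (h2 : p ≤ n) (h3 : 5 ≤ n) : p % q ≠ 1 := fun e => by
  have k1 := hp.eq_two_or_odd
  have k2 := hq.eq_two_or_odd
  have k3 := Nat.div_add_mod p q
  have k4 := hp.two_le
  have : p / q < 2 := Nat.div_lt_of_lt_mul (by omega)
  generalize p / q = c at *
  interval_cases c <;> omega

theorem card_alt_dvd (n : ℕ) : Nat.card (alternatingGroup (Fin n)) ∣ n.factorial := by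
  have := card_subgroup_dvd_card (alternatingGroup (Fin n))
  rwa [Nat.card_perm, Nat.card_fin] at this

theorem dvd_card_alt {p n : ℕ} (hp : p.Prime) (h2 : p ≠ 2) (h : p ≤ n) :
    p ∣ Nat.card (alternatingGroup (Fin n)) := by
  have : Nontrivial (Fin n) := Fin.nontrivial_iff_two_le.2 (hp.two_le.trans h)
  have k := hp.dvd_factorial.2 h
  have k2 := two_mul_nat_card_alternatingGroup (α := Fin n)
  rw [Nat.card_perm, Nat.card_fin] at k2
  exact (hp.dvd_mul.1 (k2 ▸ k)).resolve_left fun e =>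
    h2 ((Nat.prime_dvd_prime_iff_eq hp Nat.prime_two).1 e)

end Cfsg.Agent.Ez
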