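import Cfsg.Agent.Lib.Ez.F2
import Cfsg.Agent.Lib.Perm.SylNum
import Cfsg.Agent.Lib.BG.Rank
import Cfsg.Agent.Lib.Comp.Loc
import Cfsg.Agent.Lib.Transfer.Count
import Cfsg.Agent.S0713
import Cfsg.Agent.S0678
import Cfsg.Agent.S0205
import Cfsg.Agent.S0493
import Cfsg.Agent.S0494

set_option autoImplicit false

namespace Cfsg.Agent.Ez

open Subgroup MulAction Equiv Cfsg.Agent.Comp Cfsg.Agent.BG

universe u

theorem sixty_of_nonsolvable (n : ℕ) : ∀ (G : Type u) [Group G] [Finite G], Nat.card G = n → n ≤ 100 →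
    ¬ Group.IsSolvable G → n = 60 ∧ IsSimpleGroup G := by
  induction n using Nat.strong_induction_on with
  | _ n ih =>
  intro G _ _ h1 h2 h3
  have h4 : IsSimpleGroup G := by
    have : Nontrivial G := by
      by_contra e
      have := not_nontrivial_iff_subsingleton.1 e
      exact h3 (isSolvable_of_comm fun a b => Subsingleton.elim _ _)
    refine ⟨fun N hN => ?_⟩
    by_contra! e
    have k1 := N.card_mul_index
    have k2 := one_lt_index_of_ne_top e.2
    have k3 := (one_lt_card_iff_ne_bot N).2 e.1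
    refine h3 (@solvable_of_ker_le_range _ _ _ _ _ _ N.subtype (QuotientGroup.mk' N) (by simp) ?_ ?_)
    · by_contra e'
      have := (ih _ (by nlinarith) N rfl (by nlinarith) e').1
      nlinarith
    · by_contra e'
      have := (ih N.index (by nlinarith) (G ⧸ N) rfl (by nlinarith) e').1
      nlinarith
  exact ⟨h1 ▸ S0493.result (fun e => h3 (isSolvable_of_comm e.commGroup.mul_comm)) (h1 ▸ h2), h4⟩

variable {α : Type*} [Fintype α] [DecidableEq α] {G : Subgroup (Perm α)} {x y : Perm α} {p q : ℕ}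

theorem prim_of_cycle [IsPretransitive G α] (hy : y ∈ G) (hc : y.IsCycle) (hq : y.support.card.Prime)
    (h : Fintype.card α < 2 * y.support.card) : IsPreprimitive G α := by
  classical
  have := Perm.isPretransitive_of_isCycle_mem hc hy
  have e : Nat.card (SubMulAction.ofFixingSubgroup G (y.support : Set α)ᶜ) = y.support.card := by
    rw [Nat.card_eq_fintype_card, Fintype.card_subtype]
    apply congr_arg
    ext x
    simp [SubMulAction.mem_ofFixingSubgroup_iff]
  have := IsPreprimitive.of_prime_card (G := fixingSubgroup G (y.support : Set α)ᶜ) (e ▸ hq)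
  refine IsPreprimitive.of_card_lt (f := SubMulAction.ofFixingSubgroup_equivariantMap G
    (y.support : Set α)ᶜ) ?_
  rw [← Nat.card_coe_set_eq, Nat.card_range_of_injective
    SubMulAction.ofFixingSubgroup_equivariantMap_injective, e, Nat.card_eq_fintype_card]
  exact h

theorem trans_of_gen (hx : x ∈ G) (hy : y ∈ G) (hp : p.Prime) (ho : orderOf x = p) (hc : y.IsCycle)
    (h1 : ∀ a, x a ≠ a ∨ y a ≠ a) (h2 : Fintype.card α < p + y.support.card) : IsPretransitive G α := by
  obtain ⟨c, hc1, hc2⟩ := hc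
  have key : ∀ a, ∃ g : G, g • c = a := fun a => by
    have k : ∀ a, y a ≠ a → ∃ g : G, g • c = a := fun a h =>
      (hc2 h).elim fun i hi => ⟨⟨y ^ i, G.zpow_mem hy i⟩, hi⟩
    refine (h1 a).elim (fun h => ?_) (k a)
    have k1 : (x.cycleOf a).support.card ∈ x.cycleType := by
      rw [Perm.cycleType_def]
      exact Multiset.mem_map_of_mem _ (Perm.cycleOf_mem_cycleFactorsFinset_iff.2 (Perm.mem_support.2 h))
    have k2 := Perm.two_le_of_mem_cycleType k1
    have k3 := ((Nat.dvd_prime hp).1 (ho ▸ Perm.dvd_of_mem_cycleType k1)).resolve_left (by omega)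
    obtain ⟨b, hb⟩ := Finset.inter_nonempty_of_card_lt_card_add_card (Finset.subset_univ _)
      (Finset.subset_univ y.support) (k3 ▸ h2 : _ < (x.cycleOf a).support.card + _)
    rw [Finset.mem_inter, Perm.mem_support_cycleOf_iff, Perm.mem_support, Perm.mem_support] at hb
    obtain ⟨g, hg⟩ := k b hb.2
    obtain ⟨i, hi⟩ := hb.1.1.symm
    exact ⟨⟨x ^ i, G.zpow_mem hx i⟩ * g, by rw [mul_smul, hg]; exact hi⟩
  refine ⟨fun a b => ?_⟩
  obtain ⟨g, rfl⟩ := key a
  obtain ⟨h, rfl⟩ := key b
  exact ⟨h * g⁻¹, by simp [mul_smul]⟩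

theorem dvd_card_support (hp : p.Prime) (ho : orderOf x = p) : p ∣ x.support.card ∧ 0 < x.support.card := by
  obtain ⟨n, hn⟩ := Perm.cycleType_prime_order (ho ▸ hp)
  rw [← Perm.sum_cycleType, hn, Multiset.sum_replicate, ho]
  exact ⟨Dvd.intro_left _ rfl, Nat.mul_pos (by omega) hp.pos⟩

theorem four_dvd_card_support (hx : x ∈ alternatingGroup α) (ho : orderOf x = 2) : 4 ∣ x.support.card := by
  obtain ⟨n, hn⟩ := Perm.cycleType_prime_order (ho ▸ Nat.prime_two)
  rw [Perm.mem_alternatingGroup, Perm.sign_of_cycleType, hn, ho, neg_one_pow_eq_one_iff_even (by decide)] at hx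
  rw [← Perm.sum_cycleType, hn, ho]
  simp only [Multiset.sum_replicate, Multiset.card_replicate, smul_eq_mul, Nat.even_iff] at hx ⊢
  omega

theorem card_support_add_le (hp : p.Prime) (hq : q.Prime) (h : p ≠ q) {z : Perm α} (hz : orderOf z = p * q)
    (hc : Fintype.card α < p * q) : orderOf (z ^ q) = p ∧ orderOf (z ^ p) = q ∧
      (z ^ q).support.card + (z ^ p).support.card ≤ Fintype.card α := by
  have k1 : orderOf (z ^ q) = p := by
    rw [orderOf_pow_of_dvd hq.ne_zero (hz ▸ Dvd.intro_left _ rfl), hz, Nat.mul_div_cancel _ hq.pos]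
  have k2 : orderOf (z ^ p) = q := by
    rw [orderOf_pow_of_dvd hp.ne_zero (hz ▸ Dvd.intro _ rfl), hz, Nat.mul_div_cancel_left _ hp.pos]
  refine ⟨k1, k2, ?_⟩
  rw [← Finset.card_union_of_disjoint (Finset.disjoint_left.2 fun a h1 h2 => ?_)]
  · exact Finset.card_le_univ _
  have := Perm.SylNum.comm_fix hp hq h k2 k1 ((Commute.refl z).pow_pow _ _) (Perm.mem_support.1 h2)
    (Perm.mem_support.1 h1)
  rw [Nat.card_eq_fintype_card (α := α)] at this
  omega

theorem card_fixedBy_add (x : Perm α) : Nat.card (fixedBy α x) + x.support.card = Fintype.card α := by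
  rw [← Finset.card_compl_add_card x.support, Nat.card_eq_fintype_card, Fintype.card_subtype]
  congr 2
  ext a
  simp

theorem not_five_dvd (hα : Fintype.card α = 13) [hG : IsPreprimitive G α] (hn : ¬ alternatingGroup α ≤ G) :
    ¬ 5 ∣ Nat.card G := fun h5 => by
  have : Fact (Nat.Prime 5) := ⟨by norm_num⟩
  have : Fact (Nat.Prime 3) := ⟨by norm_num⟩
  have k5 : ∀ g ∈ G, orderOf g = 5 → g.support.card = 10 := fun g hg ho => by
    obtain ⟨⟨c, hc⟩, h2⟩ := dvd_card_support (by norm_num) ho
    have := g.support.card_le_univ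
    by_contra e
    exact hn (S0713.result G hG (p := 5) (by norm_num) (by omega) (by omega)
      (Perm.isCycle_of_prime_order (ho ▸ by norm_num) (by omega)) (by omega) hg)
  obtain ⟨R, hR⟩ := exists_sylIn 5 G
  have k1 : ∀ g ∈ R, g ≠ 1 → Nat.card (fixedBy α g) = 3 := fun g hg g1 => by
    obtain ⟨n, hn⟩ := IsPGroup.exists_pow_eq_one hR.isP hg
    have a1 := Perm.card_modEq_fixedBy (α := α) (by norm_num) hn
    obtain ⟨w, ⟨i, rfl⟩, w2⟩ := exists_mem_orderOf_eq (dvd_card_of_isPGroup (isPGroup_zpowers hn)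
      (mt zpowers_eq_bot.1 g1))
    have a2 := k5 _ (G.zpow_mem (hR.le hg) i) w2
    have a3 := Finset.card_le_card (Perm.support_zpow_le g i)
    have a4 := card_fixedBy_add g
    rw [Nat.card_eq_fintype_card, Nat.ModEq] at a1
    omega
  have k2 := Solv.card_modEq_of_card_fixedBy (G := R) (X := α) (m := 3) fun g g1 =>
    k1 g g.2 fun e => g1 (Subtype.ext e)
  rw [Nat.card_eq_fintype_card (α := α), hα] at k2
  have k3 := dvd_card_of_isPGroup hR.isP (mt hR.eq_bot_iff.1 (not_not.2 h5))
  have k4 : Nat.card R = 5 := by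
    obtain ⟨n, hn⟩ := hR.isP.exists_card_eq
    have a1 := Nat.le_of_dvd (by norm_num) ((Nat.modEq_iff_dvd' (by norm_num)).1 k2.symm)
    have a2 := Nat.le_of_dvd Nat.card_pos k3
    rw [hn] at a1 a2 ⊢
    rcases n with _ | _ | n
    · omega
    · rfl
    · have := pow_pos (show 0 < 5 by norm_num) n
      rw [pow_add, pow_add] at a1
      omega
  obtain ⟨g, hg, og⟩ := exists_mem_orderOf_eq k3
  obtain rfl : zpowers g = R := eq_of_le_of_card_ge (zpowers_le.2 hg) (by rw [Nat.card_zpowers, og, k4])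
  have k6 := k1 g hg (by rintro rfl; simp at og)
  obtain ⟨⟨a, ha⟩⟩ := (Nat.card_pos_iff.1 (k6 ▸ by norm_num : 0 < Nat.card (fixedBy α g))).1
  have k7 : ∀ b ∈ fixedBy α g, zpowers g ≤ stabilizer (Perm α) b := fun b hb => zpowers_le.2 hb
  have k8 : orbit (G ⊓ Nm(zpowers g) : Subgroup _) a = fixedBy α g := by
    refine Set.Subset.antisymm ?_ fun b hb => ?_
    · rintro _ ⟨⟨n, hn⟩, rfl⟩
      have := k7 a ha (mem_cj.1 ((cj_eq_self_iff.2 hn.2).ge hg))
      simpa [Equiv.symm_apply_eq] using this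
    obtain ⟨k, rfl⟩ := exists_smul_eq G a b
    obtain ⟨h, h1, h2⟩ := ((hR.cj_of_mem (le_normalizer k.2)).of_le (K := G ⊓ stabilizer _ (k • a))
      (le_inf (cj_le_of_mem hR.le (le_normalizer k.2)) (cj_le_iff'.2 fun z hz => by
        have : z a = a := k7 a ha hz
        simp [Perm.sub_smul, this])) inf_le_left).exists_cj_eq
      (hR.of_le (le_inf hR.le (k7 _ hb)) inf_le_left)
    exact ⟨⟨h * k, G.mul_mem h1.1 k.2, cj_eq_self_iff.1 ((cj_mul _ _ _).trans h2)⟩, h1.2⟩
  have k9 := (stabilizer (G ⊓ Nm(zpowers g) : Subgroup _) a).index_dvd_card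
  rw [index_stabilizer, k8, ← Nat.card_coe_set_eq, k6] at k9
  obtain ⟨t, ht, ot⟩ := exists_mem_orderOf_eq k9
  have := Solv.le_centralizer_of_card_prime_of_coprime (by norm_num) k4 (zpowers_le.2 ht.2)
    (by rw [Nat.card_zpowers, ot]; norm_num) (mem_zpowers t) g hg
  obtain ⟨a1, a2, a3⟩ := card_support_add_le (by norm_num) (by norm_num) (by norm_num)
    (orderOf_mul_primes (by norm_num) (by norm_num) (by norm_num) og ot this) (by omega)
  have a4 := G.mul_mem (hR.le hg) ht.1
  have a5 := k5 _ (G.pow_mem a4 _) a1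
  obtain ⟨⟨c, hc⟩, a6⟩ := dvd_card_support (by norm_num) a2
  exact hn (Perm.alternatingGroup_le_of_isPreprimitive_of_isThreeCycle_mem hG
    (card_support_eq_three_iff.1 (by omega)) (G.pow_mem a4 5))

theorem alt_le_thirteen (hα : Fintype.card α = 13) (hA : G ≤ alternatingGroup α) [hG : IsPreprimitive G α]
    (hx : x ∈ G) (ox : orderOf x = 11) (hy : y ∈ G) (oy : orderOf y = 13) : alternatingGroup α ≤ G := by
  by_contra hn
  have h5 := not_five_dvd hα hn
  have : Fact (Nat.Prime 11) := ⟨by norm_num⟩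
  have : Nontrivial α := Fintype.one_lt_card_iff_nontrivial.1 (by omega)
  have hc := two_mul_nat_card_alternatingGroup (α := α)
  rw [Nat.card_perm, Nat.card_eq_fintype_card (α := α), hα] at hc
  have hd : Nat.card G ∣ 3113510400 := by
    have := card_dvd_of_le hA
    rwa [show Nat.card (alternatingGroup α) = 3113510400 by simp only [Nat.factorial] at hc; omega] at this
  have k22 : ∀ z ∈ G, orderOf z ≠ 2 * 11 := fun z hz oz => by
    obtain ⟨a1, a2, a3⟩ := card_support_add_le (by norm_num) (by norm_num) (by norm_num) oz (by omega)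
    have := four_dvd_card_support (hA (G.pow_mem hz _)) a1
    have := dvd_card_support (by norm_num) a1
    have := dvd_card_support (by norm_num) a2
    omega
  have hcy := Perm.isCycle_of_prime_order' (ox ▸ by norm_num) (by omega : Fintype.card α < 2 * orderOf x)
  have hs : x.support.card = 11 := hcy.orderOf.symm.trans ox
  have hs' : x.supportᶜ.card = 2 := by rw [Finset.card_compl]; omega
  obtain ⟨a, ha⟩ := Finset.card_pos.1 (hs' ▸ two_pos : 0 < x.supportᶜ.card)
  have ha' : x a = a := by simpa using ha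
  set H := G ⊓ stabilizer (Perm α) a with hH
  have hxH : zpowers x ≤ H := zpowers_le.2 ⟨hx, ha'⟩
  have h11 : Nat.card (zpowers x) = 11 := by rw [Nat.card_zpowers, ox]
  have e2 : 2 ∣ Nat.card H := by
    have k1 := (stabilizer G a).card_mul_index
    rw [index_stabilizer_of_transitive, Nat.card_eq_fintype_card (α := α), hα,
      show stabilizer G a = H.subgroupOf G by rw [hH, inf_subgroupOf_left]; rfl, card_subgroupOf inf_le_left] at k1
    by_contra e
    have k2 : ∀ p i : ℕ, p.Prime → 13 < 2 * p → 0 < i → p ^ i ∣ Nat.card G → i = 1 := fun p i a b c d =>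
      eq_one_of_pow_dvd_factorial a b c (d.trans (hd.trans (by decide)))
    obtain ⟨z, hz⟩ := exists_orderOf_mul_of_solvable (S0205.result (G := G) (k1 ▸ Odd.mul
      (Nat.not_even_iff_odd.1 (mt even_iff_two_dvd.1 e)) (by decide)))
      (p := 11) (q := 13) (by norm_num) (by norm_num) (by norm_num) (ox ▸ orderOf_dvd_natCard _ hx)
      (oy ▸ orderOf_dvd_natCard _ hy) (fun i a b => by rw [k2 _ i (by norm_num) (by norm_num) a b]; norm_num)
      (fun i a b => by rw [k2 _ i (by norm_num) (by norm_num) a b]; norm_num)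
    have := add_le_card_of_orderOf (by norm_num) (by norm_num) (by norm_num) ((orderOf_coe z).trans hz)
    omega
  have e3 : ¬ 2 ∣ Nat.card (H ⊓ Nm(zpowers x) : Subgroup _) := fun e => by
    obtain ⟨t, ⟨⟨t1, t2 : t a = a⟩, t3⟩, ot⟩ := exists_mem_orderOf_eq e
    have k1 : t.support ⊆ x.support := fun c hc => by
      by_contra e
      have b1 : ∀ c, c ≠ a → x c = c → c ∈ x.supportᶜ.erase a := fun c a b => by simp [a, b]
      obtain ⟨i, hi⟩ := mem_cj.1 ((cj_eq_self_iff.2 t3).ge (mem_zpowers x))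
      have b2 : c ≠ a := by rintro rfl; exact Perm.mem_support.1 hc t2
      rw [Perm.notMem_support] at e
      refine Perm.mem_support.1 hc (Finset.card_le_one.1 (by rw [Finset.card_erase_of_mem ha, hs']) _
        (b1 _ (fun h => b2 (t.injective (h.trans t2.symm))) ?_) _ (b1 c b2 e))
      have := Perm.zpow_apply_eq_self_of_apply_eq_self e i
      simp only at hi
      rwa [hi, Perm.mul_apply, Perm.mul_apply, Perm.inv_eq_iff_eq] at this
    have k2 := Finset.card_le_card k1
    have k3 := four_dvd_card_support (hA t1) ot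
    obtain ⟨b, hb, c, hc, bc⟩ := Finset.one_lt_card.1 (show 1 < (x.support \ t.support).card by
      rw [Finset.card_sdiff_of_subset k1]; omega)
    simp only [Finset.mem_sdiff, Perm.mem_support, not_not] at hb hc
    obtain ⟨i, rfl⟩ := hcy.exists_pow_eq hb.1 hc.1
    obtain ⟨j, hj⟩ := mem_powers_iff_mem_zpowers.2 (mem_cj.1 ((cj_eq_self_iff.2 t3).ge (npow_mem_zpowers x i)))
    simp only at hj
    have k4 : x ^ j = x ^ i := hcy.pow_eq_pow_iff.2 ⟨b, hb.1, by
      rw [hj, Perm.mul_apply, Perm.mul_apply, hb.2, Perm.inv_eq_iff_eq, hc.2]⟩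
    refine k22 _ (G.mul_mem t1 (G.pow_mem hx i)) (orderOf_mul_primes (by norm_num) (by norm_num) (by norm_num) ot
      (((Nat.dvd_prime (by norm_num)).1 (ox ▸ orderOf_pow_dvd i)).resolve_left fun e => bc ?_) ?_)
    · rw [orderOf_eq_one_iff.1 e]; rfl
    · rw [k4, mul_assoc, eq_inv_mul_iff_mul_eq] at hj
      exact hj
  have e4 : SylIn 11 (zpowers x) H := sylIn_of_not_dvd hxH (isPGroup_zpowers_of_orderOf_eq ox) fun e => by
    have k1 := ((zpowers x).subgroupOf H).card_mul_index
    rw [card_subgroupOf hxH, h11] at k1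
    exact absurd (((k1 ▸ Nat.mul_dvd_mul_left 11 e).trans (card_dvd_of_le inf_le_left)).trans hd) (by decide)
  have e5 := hasNPC_of_le_Ct e4 (Solv.le_centralizer_of_card_prime_of_coprime (by norm_num) h11 inf_le_right
    (Nat.Coprime.mul_right (m := 2) (n := 5) (coprime_iff_not_dvd.2 e3) (((Nat.Prime.coprime_iff_not_dvd
      (by norm_num)).2 fun e => h5 (e.trans (card_dvd_of_le (inf_le_left.trans inf_le_left)))).symm)))
  obtain ⟨S, hS, hSx⟩ := exists_invariant_sylIn 2 (le_normalizer_Opp_of_le (p := 11) hxH)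
    (h11 ▸ (coprime_Opp 11 H).symm) (.inl (isSolvable_of_comm mul_comm'))
  obtain ⟨t, ht, ot⟩ := exists_mem_orderOf_eq e2
  have e6 := mt hS.eq_bot_iff.1 (not_not.2 (ot ▸ orderOf_dvd_natCard _ (le_Opp_of_hasNPC e5 (zpowers_le.2 ht)
    (by rw [Nat.card_zpowers, ot]; norm_num) (mem_zpowers t))))
  have e7 : S ≤ G := hS.le.trans ((Opp_le _ _).trans inf_le_left)
  obtain ⟨z, hz⟩ := exists_orderOf_mul_of_norm (G := G) (M := S.subgroupOf G) (y := ⟨x, hx⟩) Nat.prime_two
    (q := 11) (by norm_num) (by norm_num) hS.isP.comap_subtype (by simpa using ox)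
    ((subgroupOf_normalizer_eq e7).symm ▸ hSx (mem_zpowers x)) (by
      obtain ⟨n, hn⟩ := hS.isP.exists_card_eq
      have k1 := (card_dvd_of_le e7).trans hd
      rw [card_subgroupOf e7, hn]
      rw [hn] at k1
      have k2 : n ≠ 0 := by rintro rfl; exact e6 (card_eq_one.1 hn)
      have k3 : n < 10 := by
        by_contra e
        exact absurd ((pow_dvd_pow 2 (not_lt.1 e)).trans k1) (by decide)
      interval_cases n <;> simp at k2 ⊢)
  exact k22 _ z.2 ((orderOf_coe z).trans hz)

theorem closure_eq_alt (hp : p.Prime) (hq : q.Prime) (sx : x ∈ alternatingGroup α) (sy : y ∈ alternatingGroup α)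
    (ox : orderOf x = p) (oy : orderOf y = q) (h1 : ∀ a, x a ≠ a ∨ y a ≠ a) (h2 : Fintype.card α < p + q)
    (h3 : p < q) (h5 : 5 ≤ q) (h4 : q ≤ Fintype.card α → q + 3 ≤ Fintype.card α ∨ (Fintype.card α < 2 * p ∧
      p + 3 ≤ Fintype.card α) ∨ (Fintype.card α = 7 ∧ p = 5 ∧ q = 7) ∨ (Fintype.card α = 13 ∧ p = 11 ∧ q = 13)) :
    5 ≤ Fintype.card α ∧ closure {x, y} = alternatingGroup α := by
  have hA : closure {x, y} ≤ alternatingGroup α := (closure_le _).2 (by rintro _ (rfl | rfl) <;> assumption)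
  have hx : x ∈ closure {x, y} := subset_closure (by simp)
  have hy : y ∈ closure {x, y} := subset_closure (by simp)
  generalize closure {x, y} = G at *
  have hc := Perm.isCycle_of_prime_order' (oy ▸ hq) (by omega : Fintype.card α < 2 * orderOf y)
  have hs : y.support.card = q := hc.orderOf.symm.trans oy
  have hle := y.support.card_le_univ
  have := trans_of_gen hx hy hp ox hc h1 (hs ▸ h2)
  have hG := prim_of_cycle hy hc (hs ▸ hq) (by omega)
  refine ⟨by omega, le_antisymm hA ?_⟩
  rcases h4 (by omega) with h | ⟨h, h'⟩ | ⟨h, rfl, rfl⟩ | ⟨h, rfl, rfl⟩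
  · exact S0713.result G hG hq (by omega) h hc hs hy
  · have hc' := Perm.isCycle_of_prime_order' (ox ▸ hp) (ox ▸ h)
    exact S0713.result G hG hp (by omega) h' hc' (hc'.orderOf.symm.trans ox) hx
  · by_contra hn
    refine absurd ((S0678.result h G (fun e => ?_) hn).1 ▸ ox ▸ orderOf_dvd_natCard _ hx) (by decide)
    have k2 : ∀ p i : ℕ, p.Prime → 7 < 2 * p → 0 < i → p ^ i ∣ Nat.card G → i = 1 := fun p i a b c d =>
      eq_one_of_pow_dvd_factorial a b c (d.trans (by
        have := card_subgroup_dvd_card G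
        rwa [Nat.card_perm, Nat.card_eq_fintype_card (α := α), h] at this))
    obtain ⟨z, hz⟩ := exists_orderOf_mul_of_solvable e hp hq h3.ne (ox ▸ orderOf_dvd_natCard _ hx)
      (oy ▸ orderOf_dvd_natCard _ hy) (fun i a b => by rw [k2 _ i hp (by norm_num) a b]; norm_num)
      (fun i a b => by rw [k2 _ i hq (by norm_num) a b]; norm_num)
    have := add_le_card_of_orderOf hp hq h3.ne ((orderOf_coe z).trans hz)
    omega
  · exact alt_le_thirteen h hA hx ox hy oy

theorem closure_iso_alt (hp : p.Prime) (hq : q.Prime) {x y : alternatingGroup α} (ox : orderOf x = p)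
    (oy : orderOf y = q) (h2 : Fintype.card α < p + q) (h3 : p < q) (h5 : 5 ≤ q)
    (h4 : ∀ d, d ≤ Fintype.card α → q ≤ d → q + 3 ≤ d ∨ (d < 2 * p ∧ p + 3 ≤ d) ∨ (d = 7 ∧ p = 5 ∧ q = 7) ∨
      (d = 13 ∧ p = 11 ∧ q = 13)) :
    ∃ d : ℕ, 5 ≤ d ∧ Nonempty (closure ({x, y} : Set (alternatingGroup α)) ≃* alternatingGroup (Fin d)) := by
  let P : α → Prop := fun a => x.1 a ≠ a ∨ y.1 a ≠ a
  have k : ∀ z : alternatingGroup α, (∀ a, z.1 a ≠ a → P a) → ∃ w : Perm {a // P a}, w ∈ alternatingGroup _ ∧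
      Perm.ofSubtype w = z.1 ∧ orderOf w = orderOf z ∧ ∀ a, (w a).1 = z.1 a := fun z hz => by
    have h : ∀ a, P (z.1 a) ↔ P a := fun a => by
      by_cases e : z.1 a = a
      · rw [e]
      · exact iff_of_true (hz _ fun e' => e (z.1.injective e')) (hz a e)
    have e := Perm.ofSubtype_subtypePerm h hz
    refine ⟨z.1.subtypePerm h, ?_, e, ?_, fun a => rfl⟩
    · rw [Perm.mem_alternatingGroup, ← Perm.sign_ofSubtype, e]; exact z.2
    · rw [← orderOf_injective _ Perm.ofSubtype_injective, e, orderOf_coe]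
  obtain ⟨x', a1, a2, a3, a4⟩ := k x fun a => .inl
  obtain ⟨y', b1, b2, b3, b4⟩ := k y fun a => .inr
  have hle := Fintype.card_subtype_le P
  obtain ⟨c1, c2⟩ := closure_eq_alt hp hq a1 b1 (a3.trans ox) (b3.trans oy) (fun a => a.2.imp
    (fun h e => h ((a4 a).symm.trans (congrArg _ e))) fun h e => h ((b4 a).symm.trans (congrArg _ e)))
    (by omega) h3 h5 (h4 _ hle)
  have e : (closure ({x, y} : Set (alternatingGroup α))).map (Subgroup.subtype _) =
      (alternatingGroup _).map (Perm.ofSubtype (p := P)) := by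
    rw [← c2, MonoidHom.map_closure, MonoidHom.map_closure, Set.image_pair, Set.image_pair, a2, b2]; rfl
  exact ⟨_, c1, ⟨((equivMapOfInjective _ _ (subtype_injective _)).trans (MulEquiv.subgroupCongr e)).trans
    ((equivMapOfInjective _ _ Perm.ofSubtype_injective).symm.trans (Fintype.equivFin _).altCongrHom)⟩⟩

theorem iso_alt_small {m : ℕ} (hm : m = 5 ∨ m = 6) {H : Subgroup (alternatingGroup (Fin m))}
    (h3 : 3 ∣ Nat.card H) (h5 : 5 ∣ Nat.card H) : ∃ d : ℕ, 5 ≤ d ∧ Nonempty (H ≃* alternatingGroup (Fin d)) := by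
  have hd : Nat.card H ∣ Nat.factorial 6 := ((card_subgroup_dvd_card H).trans (card_alt_dvd m)).trans
    (Nat.factorial_dvd_factorial (by omega))
  by_cases h : Nat.card H ≤ 100
  · obtain ⟨a, b⟩ := sixty_of_nonsolvable _ H rfl h fun e => by
      obtain ⟨z, hz⟩ := exists_orderOf_mul_of_solvable e (by norm_num) (by norm_num) (by norm_num) h3 h5
        (fun i a b => by
          have : i < 3 := by
            by_contra c
            exact absurd (((pow_dvd_pow 3 (not_lt.1 c)).trans b).trans hd) (by decide)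
          interval_cases i <;> norm_num)
        (fun i a b => by rw [eq_one_of_pow_dvd_factorial (by norm_num) (by norm_num) a (b.trans hd)]; norm_num)
      have := add_le_card_of_orderOf (by norm_num) (by norm_num) (by norm_num)
        ((orderOf_coe z.1).trans ((orderOf_coe z).trans hz))
      rw [Fintype.card_fin] at this
      omega
    exact ⟨5, le_rfl, S0494.result a⟩
  have := alternatingGroup.isSimpleGroup (α := Fin m) (by simp; omega)
  rcases H.normalCore_normal.eq_bot_or_eq_top with e | e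
  · have k1 := Nat.le_of_dvd (Nat.factorial_pos _) (Transfer.card_dvd_factorial_of_normalCore e)
    have k2 := H.card_mul_index
    have : Nontrivial (Fin m) := Fin.nontrivial_iff_two_le.2 (by omega)
    have k4 := two_mul_nat_card_alternatingGroup (α := Fin m)
    rw [Nat.card_perm, Nat.card_fin] at k4
    have k5 := Nat.factorial_le (show m ≤ 6 by omega)
    have k6 := Nat.factorial_le (show H.index ≤ 3 by simp only [Nat.factorial] at k5; nlinarith)
    have k7 := card_le_card_group H
    simp only [Nat.factorial] at k6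
    omega
  · obtain rfl := top_le_iff.1 (e ▸ H.normalCore_le)
    exact ⟨m, by omega, ⟨topEquiv⟩⟩

end Cfsg.Agent.Ez
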