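import Cfsg.Agent.Lib.BG.Sec3b
import Cfsg.Agent.Lib.BG.Meta
import Cfsg.Agent.Lib.BG.Act
import Cfsg.Agent.Lib.Comp.Large
import Cfsg.Agent.Lib.Block.Ker
import Cfsg.Agent.Lib.Transfer.Hall

set_option autoImplicit false

namespace Cfsg.Agent.Ez

open Subgroup Cfsg.Agent.Comp Cfsg.Agent.BG
open scoped commutatorElement

universe u

variable {X : Type u} [Group X]

structure S3H (G : Subgroup X) (s t : X) : Prop where
  nor : G.Normal
  sol : Group.IsSolvable G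
  cop : (Nat.card G).Coprime 6
  os : orderOf s = 3
  ot : orderOf t = 2
  rel : t * s * t⁻¹ = s⁻¹
  fpf : G ⊓ Ct(zpowers t ⊔ zpowers s) = ⊥
  gen : G ⊔ (zpowers t ⊔ zpowers s) = ⊤

namespace S3H

variable {G K W Z N : Subgroup X} {s t w : X} (h : S3H G s t)
include h

theorem tt : t * t = 1 := by rw [← sq, ← h.ot, pow_orderOf_eq_one]

theorem sss : s * s = s⁻¹ := by
  rw [eq_inv_iff_mul_eq_one, ← pow_three', ← h.os, pow_orderOf_eq_one]

theorem rel' : t * s⁻¹ * t⁻¹ = s := by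
  rw [show t * s⁻¹ * t⁻¹ = (t * s * t⁻¹)⁻¹ by group, h.rel, inv_inv]

theorem ts : t * s = s⁻¹ * t := mul_inv_eq_iff_eq_mul.1 h.rel

theorem ts' : t * s⁻¹ = s * t := mul_inv_eq_iff_eq_mul.1 h.rel'

theorem nz : zpowers t ≤ Nm(zpowers s) := zpowers_le.2 (cj_eq_self_iff.1 (by rw [cj_zpowers, h.rel, zpowers_inv]))

theorem card_dvd : Nat.card (zpowers t ⊔ zpowers s : Subgroup X) ∣ 6 := by
  have := Comp.card_sup_dvd h.nz
  rwa [Nat.card_zpowers, Nat.card_zpowers, h.os, h.ot] at this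

theorem coprime {A : Subgroup X} (hA : A ≤ zpowers t ⊔ zpowers s) (hK : K ≤ G) :
    (Nat.card A).Coprime (Nat.card K) :=
  (h.cop.symm.of_dvd_left ((card_dvd_of_le hA).trans h.card_dvd)).of_dvd_right (card_dvd_of_le hK)

theorem eq_one (hw : w ∈ G) (h1 : s * w * s⁻¹ = w) (h2 : t * w * t⁻¹ = w) : w = 1 :=
  h.fpf.le ⟨hw, by
    rw [centralizer_sup, centralizer_zpowers, centralizer_zpowers]
    exact ⟨mem_centralizer_singleton_iff.2 (mul_inv_eq_iff_eq_mul.1 h2).symm,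
      mem_centralizer_singleton_iff.2 (mul_inv_eq_iff_eq_mul.1 h1).symm⟩⟩

theorem sup_twist : zpowers (t * s) ⊔ zpowers s = zpowers t ⊔ zpowers s :=
  le_antisymm (sup_le (zpowers_le.2 (mul_mem_sup (mem_zpowers t) (mem_zpowers s))) le_sup_right)
    (sup_le (zpowers_le.2 (by simpa using mul_mem_sup (mem_zpowers (t * s)) (inv_mem (mem_zpowers s))))
      le_sup_right)

theorem twist : S3H G s (t * s) := by
  refine ⟨h.nor, h.sol, h.cop, h.os, orderOf_eq_prime ?_ fun e => ?_, by rw [← h.rel]; group,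
    h.sup_twist ▸ h.fpf, h.sup_twist ▸ h.gen⟩
  · rw [sq, show t * s * (t * s) = t * s * t⁻¹ * (t * t) * s by group, h.rel, h.tt]; group
  · have := h.ot
    rw [eq_inv_of_mul_eq_one_left e, orderOf_inv, h.os] at this
    omega

theorem prod3 (hw : w ∈ G) (h1 : t * w * t⁻¹ = w) (h2 : Commute w (s * w * s⁻¹)) :
    w * (s * w * s⁻¹) * (s⁻¹ * w * s) = 1 := by
  have e1 : s * (s * w * s⁻¹) * s⁻¹ = s⁻¹ * w * s := by
    rw [show s * (s * w * s⁻¹) * s⁻¹ = (s * s) * w * (s * s)⁻¹ by group, h.sss, inv_inv]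
  have e2 : s * (s⁻¹ * w * s) * s⁻¹ = w := by group
  have e3 : t * (s * w * s⁻¹) * t⁻¹ = s⁻¹ * w * s := by
    rw [show t * (s * w * s⁻¹) * t⁻¹ = (t * s * t⁻¹) * (t * w * t⁻¹) * (t * s * t⁻¹)⁻¹ by group, h.rel, h1, inv_inv]
  have e4 : t * (s⁻¹ * w * s) * t⁻¹ = s * w * s⁻¹ := by
    rw [show t * (s⁻¹ * w * s) * t⁻¹ = (t * s * t⁻¹)⁻¹ * (t * w * t⁻¹) * (t * s * t⁻¹) by group, h.rel, h1, inv_inv]
  have c2 := h2.conj s
  rw [e1] at c2
  have c3 := c2.conj s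
  rw [e1, e2] at c3
  refine h.eq_one (mul_mem (mul_mem hw (h.nor.conj_mem _ hw _)) (h.nor.conj_mem' _ hw _)) ?_ ?_
  · rw [← conj_mul, ← conj_mul, e1, e2, mul_assoc, c3.eq, ← mul_assoc, h2.eq]
  · rw [← conj_mul, ← conj_mul, h1, e3, e4, mul_assoc, ← c2.eq, ← mul_assoc]

variable [Finite X]

theorem inv (hw : w ∈ G) (h1 : s * w * s⁻¹ = w) : t * w * t⁻¹ = w⁻¹ :=
  have := h.nor
  Blk.conj_eq_inv_of_fpf (Q := G ⊓ C1(s)) h.tt (le_normalizer_inf le_normalizer_of_normal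
    (centralizer_zpowers s ▸ le_normalizer_centralizer h.nz) (mem_zpowers t))
    (fun _ hu => h.eq_one hu.1 (mul_inv_eq_iff_eq_mul.2 (mem_centralizer_singleton_iff.1 hu.2).symm))
    ⟨hw, mem_centralizer_singleton_iff.2 (mul_inv_eq_iff_eq_mul.1 h1).symm⟩

theorem comm : IsMulCommutative (G ⊓ Ct(zpowers s) : Subgroup X) := Blk.comm_of_inverted (s := t) fun _ hu =>
  h.inv hu.1 (mul_inv_eq_iff_eq_mul.2 (hu.2 s (mem_zpowers s)))

theorem map {Y : Type u} [Group Y] [Finite Y] {f : X →* Y} (hf : Function.Surjective f) (hk : f.ker ≤ G) :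
    S3H (G.map f) (f s) (f t) := by
  have := h.nor
  have k : ∀ x ∈ zpowers t ⊔ zpowers s, (orderOf x).Prime → orderOf (f x) = orderOf x := fun x hx hp =>
    ((Nat.dvd_prime hp).1 (orderOf_map_dvd f x)).resolve_left fun e => hp.ne_one (orderOf_eq_one_iff.2
      ((disjoint_of_coprime_natCard (h.coprime le_rfl hk)).le_bot ⟨hx, orderOf_eq_one_iff.1 e⟩))
  have e : zpowers (f t) ⊔ zpowers (f s) = (zpowers t ⊔ zpowers s).map f := by
    rw [Subgroup.map_sup, MonoidHom.map_zpowers, MonoidHom.map_zpowers]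
  refine ⟨h.nor.map f hf, isSolvable_map f h.sol, h.cop.of_dvd_left (card_map_dvd _ _),
    (k s (mem_sup_right (mem_zpowers s)) (h.os ▸ Nat.prime_three)).trans h.os,
    (k t (mem_sup_left (mem_zpowers t)) (h.ot ▸ Nat.prime_two)).trans h.ot,
    by rw [← map_inv, ← map_inv, ← map_mul, ← map_mul, h.rel], ?_, ?_⟩
  · rw [e, ← map_inf_centralizer f le_normalizer_of_normal (h.coprime le_rfl inf_le_left)
      (.inr (isSolvable_of_le inf_le_left h.sol)), h.fpf, Subgroup.map_bot]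
  · rw [e, ← Subgroup.map_sup, h.gen, map_top_of_surjective f hf]

theorem le_of_mem {A : Subgroup X} (h1 : t ∈ A) (h2 : s * t * s⁻¹ ∈ A) : zpowers t ⊔ zpowers s ≤ A := by
  refine sup_le (zpowers_le.2 h1) (zpowers_le.2 ?_)
  have := inv_mem (mul_mem h2 (inv_mem h1))
  rwa [show s * t * s⁻¹ * t⁻¹ = s * (t * s⁻¹ * t⁻¹) by group, h.rel', h.sss, inv_inv] at this

theorem commutator_eq (hK : K ≤ G) (hn : zpowers t ⊔ zpowers s ≤ Nm(K)) : ⁅K, zpowers t ⊔ zpowers s⁆ = K :=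
  commutator_eq_of_inf_Ct_eq_bot hn (h.coprime le_rfl hK) (.inr (isSolvable_of_le hK h.sol))
    (eq_bot_iff.2 (h.fpf ▸ inf_le_inf_right _ hK))

theorem sup_cj (h1 : N ≤ G) (h2 : G ≤ Nm(N)) (h3 : t ∈ actKer N G) : N ⊔ cj(s, N) = G := by
  have := h.nor
  have k1 : cj(s, N) ≤ G := cj_le_of_mem h1 (le_normalizer_of_normal (mem_top s))
  have k2 : G ≤ Nm(cj(s, N)) := by
    rw [← cj_normalizer, ← cj_eq_self_of_normal G s]; exact cj_mono s h2
  have k3 : ∀ x, (∀ c ∈ G, ⁅x, c⁆ ∈ N ⊔ cj(s, N)) → x ∈ actKer (N ⊔ cj(s, N)) G := fun x hx =>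
    ⟨cj_eq_self_iff.1 (eq_of_le_of_card_ge (cj_le_iff'.2 fun y hy => by
      simpa [commutatorElement_def] using mul_mem (hx y (sup_le h1 k1 hy)) hy) (card_cj _ _).ge), hx⟩
  refine le_antisymm (sup_le h1 k1) ?_
  conv_lhs => rw [← h.commutator_eq le_rfl le_normalizer_of_normal, commutator_comm]
  refine (le_actKer_iff.1 (h.le_of_mem (k3 _ fun c hc => mem_sup_left (h3.2 c hc))
    (k3 _ fun c hc => mem_sup_right ?_))).2
  have := conj_mem_cj (g := s).2 (h3.2 _ (this.conj_mem' c hc s))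
  rwa [show s * ⁅t, s⁻¹ * c * s⁆ * s⁻¹ = ⁅s * t * s⁻¹, c⁆ by simp only [commutatorElement_def]; group] at this

theorem der_le (h1 : N ≤ G) (h2 : G ≤ Nm(N)) (h3 : t ∈ actKer N G) : ⁅G, G⁆ ≤ N := by
  have hn := h.nor
  have k2 : ∀ x, G ≤ Nm(cj(x, N)) := fun x => by
    rw [← cj_normalizer, ← cj_eq_self_of_normal G x]; exact cj_mono x h2
  have k1 : ∀ x, cj(x, N) ≤ G := fun x => cj_le_of_mem h1 (le_normalizer_of_normal (mem_top x))
  have e1 := h.sup_cj h1 h2 h3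
  have e2 : N ⊔ cj(s⁻¹, N) = G := by
    rw [← cj_eq_self_of_normal G s⁻¹, ← e1, cj_sup, cj_inv_cj, sup_comm]
  have e3 : cj(t, N) = N := cj_eq_self_iff.2 h3.1
  have e4 : cj(t, cj(s, N)) = cj(s⁻¹, N) := by rw [← cj_mul, h.ts, cj_mul, e3]
  have e5 : cj(t, cj(s⁻¹, N)) = cj(s, N) := by rw [← cj_mul, h.ts', cj_mul, e3]
  have e6 : cj(s, cj(s, N)) = cj(s⁻¹, N) := by rw [← cj_mul, h.sss]
  have : (N ⊓ (cj(s, N) ⊓ cj(s⁻¹, N))).Normal := normal_iff_top_le_normalizer.2 (h.gen.ge.trans (sup_le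
    (le_normalizer_inf h2 (le_normalizer_inf (k2 _) (k2 _))) (sup_le (zpowers_le.2 (cj_eq_self_iff.1 (by
      rw [cj_inf, cj_inf, e3, e4, e5, inf_comm cj(s, N)]))) (zpowers_le.2 (cj_eq_self_iff.1 (by
      rw [cj_inf, cj_inf, e6, cj_cj_inv, ← inf_assoc, inf_comm]))))))
  have k3 : cj(s, N) ⊓ cj(s⁻¹, N) ≤ N := fun x hx => by
    have a1 : s * x * s⁻¹ ∈ cj(s⁻¹, N) ⊓ N := by
      rw [← e6, ← cj_cj_inv s N, ← cj_inf, cj_cj_inv]; exact conj_mem_cj.2 hx
    have a2 : s⁻¹ * x * s ∈ N := mem_cj.1 hx.1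
    have := (h.map (QuotientGroup.mk'_surjective (N ⊓ (cj(s, N) ⊓ cj(s⁻¹, N))))
      ((QuotientGroup.ker_mk' _).le.trans (inf_le_left.trans h1))).prod3 (mem_map_of_mem _ (k1 _ hx.1)) ?_ ?_
    · simp only [← map_inv, ← map_mul] at this
      rw [QuotientGroup.mk'_apply, QuotientGroup.eq_one_iff] at this
      simpa [mul_assoc] using mul_mem (mul_mem (mem_inf.1 this).1 (inv_mem a2)) (inv_mem (mem_inf.1 a1).2)
    · rw [← mul_inv_eq_one, ← commutatorElement_def, ← map_commutatorElement, QuotientGroup.mk'_apply,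
        QuotientGroup.eq_one_iff]
      exact ⟨h3.2 x (k1 _ hx.1), Subgroup.mul_mem _ (e5 ▸ conj_mem_cj.2 hx.2) (Subgroup.inv_mem _ hx.1),
        Subgroup.mul_mem _ (e4 ▸ conj_mem_cj.2 hx.1) (Subgroup.inv_mem _ hx.2)⟩
    · rw [← map_inv, ← map_mul, ← map_mul, ← commutatorElement_eq_one_iff_commute, ← map_commutatorElement,
        QuotientGroup.mk'_apply, QuotientGroup.eq_one_iff]
      exact ⟨commutator_le_right_of_le_normalizer h2 (commutator_mem_commutator (k1 _ hx.1) a1.2),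
        commutator_le_left_of_le_normalizer (le_normalizer_inf (k2 _) (k2 _))
          (commutator_mem_commutator hx (h1 a1.2))⟩
  refine (commutator_mono e1.ge e2.ge).trans <| commutator_sup_left_le (h1.trans h2) ((k1 _).trans h2) (commutator_le_left_of_le_normalizer (e2 ▸ h2))
    (commutator_sup_right_le (h1.trans h2) ((k1 _).trans h2) (commutator_le_right_of_le_normalizer
      ((k1 _).trans h2)) (le_trans (le_inf ?_ ?_) k3))
  exacts [commutator_le_left_of_le_normalizer ((k1 _).trans (k2 _)),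
    commutator_le_right_of_le_normalizer ((k1 _).trans (k2 _))]

theorem der_le_commutator : ⁅G, G⁆ ≤ ⁅G, zpowers s⁆ := by
  have := h.nor
  have e := commutator_sup_Ct (K := G) (A := zpowers s) le_normalizer_of_normal (h.coprime le_sup_right le_rfl)
    (.inr h.sol)
  refine (commutator_mono e.ge e.ge).trans ((commutator_sup_le_sup_commutator
    (inf_le_left.trans (le_sup_left.trans (sup_le_normalizer_commutator _ _)))).trans ?_)
  rw [commutator_eq_bot_of_comm h.comm, sup_bot_eq]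

theorem conj_eq_inv (h1 : t ∈ Nm(W)) (h2 : W ⊓ C1(t) = ⊥) (hw : w ∈ W) : t * w * t⁻¹ = w⁻¹ :=
  Blk.conj_eq_inv_of_fpf h.tt h1 (fun _ a b => h2.le ⟨a, mem_centralizer_singleton_iff.2
    (mul_inv_eq_iff_eq_mul.1 b).symm⟩) hw

theorem commutator_mem_Ct (h1 : t ∈ Nm(W)) (h2 : W ⊓ C1(t) = ⊥) {c : X} (hc : c ∈ Nm(W)) : ⁅t, c⁆ ∈ Ct(W) :=
  fun w hw => by
  have a := h.conj_eq_inv h1 h2 (conj_mem_of_mem_normalizer' hc hw)
  have b := h.conj_eq_inv h1 h2 (inv_mem hw)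
  rw [← eq_inv_of_mul_eq_one_left h.tt] at a b
  rw [commutatorElement_def, ← eq_inv_of_mul_eq_one_left h.tt, eq_comm, ← mul_inv_eq_iff_eq_mul]
  calc _ = t * (c * (t * (c⁻¹ * w * c) * t⁻¹) * c⁻¹) * t⁻¹ := by group
    _ = t * w⁻¹ * t := by rw [← eq_inv_of_mul_eq_one_left h.tt, a]; group
    _ = w := b.trans (inv_inv w)

theorem der_le_Ct (h0 : G ≤ Nm(W)) (h1 : t ∈ Nm(W)) (h2 : W ⊓ C1(t) = ⊥) : ⁅G, G⁆ ≤ Ct(W) :=
  have := h.nor
  (h.der_le (N := G ⊓ Ct(W)) inf_le_left (le_normalizer_inf le_normalizer (le_normalizer_centralizer h0))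
    ⟨le_normalizer_inf le_normalizer_of_normal (le_normalizer_centralizer (zpowers_le.2 h1)) (mem_zpowers t),
      fun c hc => ⟨G.mul_mem (this.conj_mem c hc t) (inv_mem hc), h.commutator_mem_Ct h1 h2 (h0 hc)⟩⟩).trans
    inf_le_right

theorem exists_inverting {V : Subgroup X} [hV : V.Normal] (h1 : V ≤ G) (h2 : IsMulCommutative V) (h3 : W ≤ V)
    (h4 : ∀ a ∈ zpowers t ⊔ zpowers s, a ∈ Nm(W) ∨ cj(a, W) ≤ Z) (h5 : W ⊓ Z = ⊥) (h6 : s ∉ Nm(W)) (h7 : W ≠ ⊥) :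
    ∃ t', S3H G s t' ∧ zpowers t' ⊔ zpowers s = zpowers t ⊔ zpowers s ∧ t' ∈ Nm(W) ∧ W ⊓ C1(t') = ⊥ := by
  have hs := mem_sup_right (S := zpowers t) (mem_zpowers s)
  have ht := mem_sup_left (T := zpowers s) (mem_zpowers t)
  have k : ∀ a ∈ zpowers t ⊔ zpowers s, a ∉ Nm(W) → ∀ w ∈ W, a * w * a⁻¹ ∈ Z := fun a b c =>
    cj_le_iff'.1 ((h4 a b).resolve_left c)
  have k1 := k s hs h6
  have k2 := k _ (inv_mem hs) (mt inv_mem_iff.1 h6)
  have c : ∀ a ∈ V, ∀ b ∈ V, Commute a b := fun a ha b hb => comm_iff_le.1 h2 hb a ha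
  have k3 : ∀ w ∈ W, w * (s * w * s⁻¹) * (s⁻¹ * w * s) ∈ Z → w = 1 := fun w a b =>
    h5.le ⟨a, by simpa [mul_assoc] using mul_mem (mul_mem b (inv_mem (k2 w a))) (inv_mem (k1 w a))⟩
  have k4 : ∀ t', S3H G s t' → W ⊓ C1(t') = ⊥ := fun t' h' => eq_bot_iff.2 fun w hw => k3 w hw.1 (by
    rw [h'.prod3 (h1 (h3 hw.1)) (mul_inv_eq_iff_eq_mul.2 (mem_centralizer_singleton_iff.1 hw.2).symm)
      (c _ (h3 hw.1) _ (hV.conj_mem _ (h3 hw.1) _))]; exact one_mem _)
  by_contra! e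
  refine h7 (eq_bot_iff.2 fun w hw => k3 w hw ?_)
  have a1 := k t ht (fun f => e t h rfl f (k4 _ h)) w hw
  have a2 := k _ (mul_mem ht hs) (fun f => e _ h.twist h.sup_twist f (k4 _ h.twist)) w hw
  have a3 := k _ (mul_mem (mul_mem ht hs) hs) (fun f => e _ h.twist.twist (h.twist.sup_twist.trans h.sup_twist)
    f (k4 _ h.twist.twist)) w hw
  have b1 := hV.conj_mem _ (h3 hw) s
  have b2 := hV.conj_mem' _ (h3 hw) s
  rw [← inv_mem_iff, ← h.inv (h1 (mul_mem (mul_mem (h3 hw) b1) b2))]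
  · convert mul_mem (mul_mem a1 a2) a3 using 1
    rw [mul_assoc t s s, h.sss]; group
  · rw [← conj_mul, ← conj_mul, show s * (s * w * s⁻¹) * s⁻¹ = (s * s) * w * (s * s)⁻¹ by group, h.sss, inv_inv,
      show s * (s⁻¹ * w * s) * s⁻¹ = w by group, ← (c _ (h3 hw) _ (mul_mem b1 b2)).eq, mul_assoc w]

theorem solA : Group.IsSolvable (zpowers t ⊔ zpowers s : Subgroup X) :=
  Comp.isSolvable_sup h.nz (isSolvable_of_prime (by rw [Nat.card_zpowers, h.ot]; norm_num))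
    (isSolvable_of_prime (by rw [Nat.card_zpowers, h.os]; norm_num))

theorem sol_all (K : Subgroup X) : Group.IsSolvable K :=
  have := h.nor
  Comp.isSolvable_of_le (le_top.trans (h.gen.ge.trans (sup_comm _ _).le))
    (Comp.isSolvable_sup le_normalizer_of_normal h.solA h.sol)

theorem hall : HallIn {2, 3} (zpowers t ⊔ zpowers s) ⊤ := by
  have := h.nor
  have k : ∀ r : ℕ, r.Prime → (r ∈ ({2, 3} : Set ℕ) ↔ r ∣ 6) := fun r hr => by
    rw [show 6 = 2 * 3 by rfl, hr.dvd_mul, Nat.prime_dvd_prime_iff_eq hr Nat.prime_two,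
      Nat.prime_dvd_prime_iff_eq hr Nat.prime_three]; simp
  refine ⟨le_top, fun r hr e => (k r hr).2 (e.trans h.card_dvd), fun r hr e f => ?_⟩
  have a := Comp.card_sup_dvd (H := zpowers t ⊔ zpowers s) (N := G) le_normalizer_of_normal
  rw [sup_comm, h.gen, ← relIndex_mul_card (le_top (a := zpowers t ⊔ zpowers s)), mul_comm] at a
  exact hr.ne_one (Nat.eq_one_of_dvd_coprimes h.cop (f.trans (Nat.dvd_of_mul_dvd_mul_left Nat.card_pos a))
    ((k r hr).1 e))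

theorem le_of_actKer {L M : Subgroup X} {g : X} (h1 : M ≤ G) (h2 : zpowers t ⊔ zpowers s ≤ Nm(M))
    (h3 : t ∈ actKer L M) (hg : g ∈ G ⊓ Nm(M)) (h4 : cj(s, L) = cj(g, L)) : M ≤ L := by
  have := h.nor
  have hs := h2 (mem_sup_right (mem_zpowers s))
  have a1 : t ∈ actKer L M ⊓ Nm(M) := ⟨h3, h2 (mem_sup_left (mem_zpowers t))⟩
  have a2 : g⁻¹ * s ∈ Nm(L) ⊓ Nm(M) := ⟨cj_eq_self_iff.1 (by rw [cj_mul, h4, cj_inv_cj]),
    mul_mem (S := Subgroup X) (inv_mem hg.2) hs⟩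
  have a3 := mul_mem (conj_mem_of_le_normalizer (le_normalizer_inf (BG.le_normalizer_actKer inf_le_left
    inf_le_right) (inf_le_right.trans le_normalizer)) a2 a1) (inv_mem a1)
  obtain ⟨B, hB⟩ := exists_hallIn (h.sol_all (actKer L M ⊓ Nm(M))) {2, 3}
  have b2 := hB.dvd_card Nat.prime_two (by simp) (h.ot ▸ orderOf_dvd_natCard _ a1)
  have b3 := hB.dvd_card Nat.prime_three (by simp) (Dvd.dvd.trans (by
    have h' := h.map (QuotientGroup.mk'_surjective G) (QuotientGroup.ker_mk' G).le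
    refine Dvd.dvd.trans ?_ (orderOf_map_dvd (QuotientGroup.mk' G) _)
    simp only [map_mul, map_inv, show QuotientGroup.mk' G g = 1 from (QuotientGroup.eq_one_iff g).2 hg.1,
      inv_one, one_mul]
    rw [mul_assoc, mul_assoc, ← mul_assoc (QuotientGroup.mk' G t), h'.rel', h'.sss, orderOf_inv, h'.os])
    (orderOf_dvd_natCard _ a3))
  obtain ⟨y, hy, e⟩ := (h.hall.of_le h2 le_top).exists_le_cj (h.sol_all _) (hB.le.trans inf_le_right) hB.isPi
  have b4 := eq_of_le_of_card_ge e ((card_cj _ _).trans_le ((Nat.le_of_dvd (by norm_num) h.card_dvd).trans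
    (Nat.le_of_dvd Nat.card_pos ((by norm_num : Nat.Coprime 2 3).mul_dvd_of_dvd_of_dvd b2 b3))))
  rw [← cj_eq_self_iff.2 hy, ← h.commutator_eq h1 h2, cj_commutator, cj_eq_self_iff.2 hy, ← b4, commutator_comm]
  exact (le_actKer_iff.1 (hB.le.trans inf_le_left)).2

theorem core {p q : ℕ} [hp : Fact p.Prime] [hq : Fact q.Prime] {V M : Subgroup X} (hV : IsElementaryAbelian p V)
    (hc : Chief ⊤ V ⊥) (hVG : V ≤ G) (hM : IsElementaryAbelian q M) (hpq : q ≠ p) (h1 : M ≤ ⁅G, G⁆)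
    (hA : zpowers t ⊔ zpowers s ≤ Nm(M)) (hG : G ≤ V ⊔ G ⊓ Nm(M)) (h0 : V ⊓ Ct(M) = ⊥) : False := by
  have := h.nor
  have hVn : V.Normal := normal_iff_top_le_normalizer.2 hc.nU
  have hMG : M ≤ G := h1.trans (commutator_le_left _ _)
  have hs := mem_sup_right (S := zpowers t) (mem_zpowers s)
  have ht := mem_sup_left (T := zpowers s) (mem_zpowers t)
  have o3 : Nat.card (zpowers s) = 3 := by rw [Nat.card_zpowers, h.os]
  have hoG : Odd (Nat.card G) := Nat.coprime_two_right.1 (h.cop.of_dvd_right (by norm_num))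
  have hKV : M ≤ Nm(V) := le_normalizer_of_normal
  have hco : (Nat.card M).Coprime (Nat.card V) :=
    (coprime_of_isPGroup (elem_isP hV) (coprime_of_isPGroup_of_ne hpq (elem_isP hM))).symm
  have hML : ∀ L, L ≤ M → M ≤ Nm(L) := fun L h => (elem_le_Ct hM).trans ((centralizer_mono h).trans (Ct_le_Nm L))
  have hKn : ∀ L, L ≤ M → M ≤ Nm(V ⊓ Ct(L)) := fun L h => le_normalizer_inf hKV
    (le_normalizer_centralizer (hML L h))
  have hind : ∀ L, L ≤ M → ⁅V, L⁆ ⊓ Ct(L) = ⊥ := fun L h =>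
    commutator_inf_Ct_of_comm hV.1 (h.trans hKV) (hco.of_dvd_left (card_dvd_of_le h))
  let Hy : Subgroup X → Prop := fun L => L ≤ M ∧ L.relIndex M = q ∧ V ⊓ Ct(L) ≠ ⊥
  have hcj : ∀ g L, cj(g, V ⊓ Ct(L)) = V ⊓ Ct(cj(g, L)) := fun g L => by
    rw [cj_inf, cj_centralizer, cj_eq_self_of_normal]
  have hHy : ∀ g ∈ Nm(M), ∀ L, Hy L → Hy cj(g, L) := fun g hg L ⟨a, b, c⟩ =>
    ⟨cj_le_of_mem a hg, by rw [← b, ← relIndex_cj g L M, cj_eq_self_iff.2 hg], by rwa [← hcj g, Ne, cj_eq_bot_iff]⟩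
  have hle : ∀ L L', Hy L → Hy L' → L ≠ L' → V ⊓ Ct(L) ≤ ⁅V, L'⁆ :=
    fun L L' a b d => inf_Ct_le_commutator_of_ne hM hKV hco h0 a.1 b.1
      (sup_eq_of_relIndex (elem_isP hM) a.1 a.2.1 b.1 b.2.1 d)
  have hU : ∀ L, Hy L → M ⊓ Ct(V ⊓ Ct(L)) = L := fun L a => le_antisymm (fun x hx => by_contra fun e =>
    a.2.2 (eq_bot_iff.2 (h0 ▸ le_inf inf_le_left (by
      rw [← Solv.sup_zpowers_eq_of_relIndex_prime a.1 (a.2.1 ▸ hq.out) hx.1 e, centralizer_sup]
      exact le_inf inf_le_right (le_Ct_comm.1 (zpowers_le.2 hx.2))))))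
    (le_inf a.1 (le_Ct_comm.1 inf_le_right))
  have hN : ∀ L, Hy L → ∀ g ∈ Nm(M), g ∈ Nm(V ⊓ Ct(L)) → g ∈ Nm(L) := fun L a g b c => hU L a ▸
    le_normalizer_inf (zpowers_le.2 b) (le_normalizer_centralizer (zpowers_le.2 c)) (mem_zpowers g)
  have claim : ∀ L, Hy L → ⁅M, zpowers s⁆ ≤ L := fun L a => by
    by_cases c1 : s ∈ Nm(L)
    · by_cases c2 : t ∈ Nm(L)
      · have hq' : M ⊔ (zpowers t ⊔ zpowers s) ≤ Nm(L) :=
          sup_le (hML L a.1) (sup_le (zpowers_le.2 c2) (zpowers_le.2 c1))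
        have b := le_Ct_of_isCyclic (C := img hq' M) (isCyclic_of_prime_card (p := q)
          ((card_img le_sup_left).trans a.2.1)) (img_le_normalizer hA) (img_le_normalizer hA)
        rw [← img_commutator le_sup_right le_sup_right, img_le_centralizer_iff
          ((commutator_le_left_of_le_normalizer le_normalizer).trans le_sup_right) le_sup_left] at b
        rw [commutator_comm]
        refine (commutator_mono (zpowers_le.2 ?_) le_rfl).trans b
        have := inv_mem (commutator_mem_commutator hs ht)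
        rwa [commutatorElement_def, mul_assoc, mul_assoc, ← mul_assoc t, h.rel', h.sss, inv_inv] at this
      refine le_trans (le_inf (commutator_le_left_of_le_normalizer (le_sup_right.trans hA))
        (commutator_le_Ct_of_fpf (h.sol_all _) (le_sup_right.trans hA) (hKn L a.1) (le_normalizer_inf
          le_normalizer_of_normal (le_normalizer_centralizer (zpowers_le.2 c1))) (o3 ▸ Nat.prime_three)
          (h.coprime le_sup_right hMG) (hco.of_dvd_right (card_dvd_of_le inf_le_left)) (odd_of_le hMG hoG)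
          (o3 ▸ by decide) (eq_bot_iff.2 fun u hu => ?_))) (hU L a).le
      have b := hle _ _ (hHy t (hA ht) L a) a (mt cj_eq_self_iff.1 c2) (hcj t L ▸ conj_mem_cj.2 hu.1)
      rw [h.inv (hVG hu.1.1) (mul_inv_eq_iff_eq_mul.2 (hu.2 s (mem_zpowers s))), inv_mem_iff] at b
      exact (hind L a.1).le ⟨b, hu.1.2⟩
    exfalso
    by_cases c2 : ∃ g ∈ G ⊓ Nm(M), cj(s, L) = cj(g, L)
    · obtain ⟨g, hg, e⟩ := c2
      obtain ⟨t', h', e1, e2, e3⟩ := h.exists_inverting (Z := ⁅V, L⁆) hVG hV.1 (inf_le_left (b := Ct(L)))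
        (fun b hb => (em (cj(b, L) = L)).imp (fun f => cj_eq_self_iff.1 (by rw [hcj, f])) fun f =>
          hcj b L ▸ hle _ _ (hHy b (hA hb) L a) a f)
        (eq_bot_iff.2 (hind L a.1 ▸ le_inf inf_le_right (inf_le_left.trans inf_le_right)))
        (mt (hN L a s (hA hs)) c1) a.2.2
      have b1 := hA (e1 ▸ mem_sup_left (mem_zpowers t'))
      have := relIndex_eq_one.2 (h'.le_of_actKer hMG (e1 ▸ hA) ⟨hN L a _ b1 e2, fun c hc => (hU L a).le
        ⟨M.mul_mem (conj_mem_of_mem_normalizer b1 hc) (inv_mem hc), h'.commutator_mem_Ct e2 e3 (hKn L a.1 hc)⟩⟩ hg e)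
      exact hq.out.ne_one (a.2.1.symm.trans this)
    set H := G ⊓ Nm(M) with hH
    have b0 : zpowers t ⊔ zpowers s ≤ Nm(H) :=
      le_normalizer_inf le_normalizer_of_normal (le_normalizer_normalizer hA)
    set W := V ⊓ Ct(L) ⊔ ⁅V ⊓ Ct(L), H⁆ with hW
    set Z := sSup {U | ∃ L', Hy L' ∧ (¬ ∃ g ∈ H, L' = cj(g, L)) ∧ U = V ⊓ Ct(L')} with hZ
    have b1 : W ≤ V := sup_commutator_le inf_le_left le_normalizer_of_normal
    have b2 : H ≤ Nm(W) := le_normalizer_sup_commutator _ _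
    have b3 : ∀ b ∈ zpowers t ⊔ zpowers s, (¬ ∃ g ∈ H, cj(b, L) = cj(g, L)) → cj(b, W) ≤ Z := fun b hb f => by
      rw [cj_sup, cj_commutator, cj_eq_self_iff.2 (b0 hb)]
      refine sup_commutator_le_of_forall fun g hg => le_sSup ⟨cj(g, cj(b, L)),
        hHy g hg.2 _ (hHy b (hA hb) L a), fun ⟨k, hk, e⟩ => f ⟨g⁻¹ * k, mul_mem (inv_mem hg) hk, ?_⟩, ?_⟩
      · rw [cj_mul, ← e, cj_inv_cj]
      · rw [hcj, hcj]
    have b4 : W ⊓ Z = ⊥ := by
      by_contra f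
      obtain ⟨L', d1, d2, d3⟩ := exists_hyperplane hM (le_normalizer_inf ((le_inf hMG le_normalizer).trans b2)
        (le_normalizer_sSup (by rintro g hg _ ⟨L', d, d', rfl⟩; exact ⟨L', d, d', cj_eq_self_iff.2 (hKn L' d.1 hg)⟩)))
        (hco.of_dvd_right (card_dvd_of_le (inf_le_left.trans b1))) f
        (eq_bot_iff.2 (h0 ▸ inf_le_inf_right _ (inf_le_left.trans b1)))
      have d4 : Hy L' := ⟨d1, d2, fun e => d3 (eq_bot_iff.2 (e ▸ inf_le_inf_right _ (inf_le_left.trans b1)))⟩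
      refine d3 (eq_bot_iff.2 (hind L' d1 ▸ inf_le_inf_right _ ?_))
      by_cases d5 : ∃ g ∈ H, L' = cj(g, L)
      · refine inf_le_right.trans (sSup_le ?_)
        rintro _ ⟨L'', d6, d7, rfl⟩
        exact hle _ _ d6 d4 fun e => d7 (e ▸ d5)
      · exact inf_le_left.trans (sup_commutator_le_of_forall fun g hg =>
          hcj g L ▸ hle _ _ (hHy g hg.2 L a) d4 fun e => d5 ⟨g, hg, e.symm⟩)
    have b5 : W ≠ ⊥ := fun e => a.2.2 (eq_bot_iff.2 (e ▸ le_sup_left))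
    obtain ⟨t', h', -, e2, e3⟩ := h.exists_inverting hVG hV.1 b1 (fun b hb => (em _).imp
      (fun ⟨g, hg, e⟩ => cj_eq_self_iff.1 (by
        refine Eq.trans ?_ (cj_eq_self_iff.2 (b2 hg))
        simp only [hW, cj_sup, cj_commutator, hcj, e, cj_eq_self_iff.2 (b0 hb), cj_eq_self_of_mem hg]))
      (b3 b hb)) b4 (fun e => b5 (b4 ▸ (inf_eq_left.2 (cj_eq_self_iff.2 e ▸ b3 s hs c2)).symm)) b5
    have := h1.trans (h'.der_le_Ct (hG.trans (sup_le ((elem_le_Ct hV).trans ((centralizer_mono b1).trans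
      (Ct_le_Nm W))) b2)) e2 e3)
    exact b5 (eq_bot_iff.2 (h0 ▸ le_inf b1 (le_Ct_comm.1 this)))
  have c0 : ⁅M, zpowers s⁆ ≤ M := commutator_le_left_of_le_normalizer (le_sup_right.trans hA)
  have c1 : ⁅V, ⁅M, zpowers s⁆⁆ = ⊥ := by
    by_contra f
    have d0 : ⁅V, ⁅M, zpowers s⁆⁆ ≤ V := commutator_le_left _ _
    obtain ⟨L, d1, d2, d3⟩ := exists_hyperplane hM (le_normalizer_commutator hKV (hML _ c0))
      (hco.of_dvd_right (card_dvd_of_le d0)) f (eq_bot_iff.2 (h0 ▸ inf_le_inf_right _ d0))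
    exact d3 (eq_bot_iff.2 (hind _ c0 ▸ inf_le_inf_left _ (centralizer_mono (claim L ⟨d1, d2, fun e =>
      d3 (eq_bot_iff.2 (e ▸ inf_le_inf_right _ d0))⟩))))
  have c2 : V ⊓ Ct(zpowers s) = ⊥ := by
    refine eq_bot_iff.2 (h0 ▸ le_inf inf_le_left ?_)
    rw [← commutator_sup_Ct (le_sup_right.trans hA) (h.coprime le_sup_right hMG) (.inr (h.sol_all _)),
      centralizer_sup]
    exact le_inf (inf_le_left.trans (commutator_eq_bot_iff_le_centralizer.1 c1))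
      ((inf_le_inf_right _ hVG).trans ((comm_iff_le.1 h.comm).trans (centralizer_mono (inf_le_inf_right _ hMG))))
  have c3 := hc.commutator_le_Ct_of_fpf (elem_isP hV) h.sol (o3 ▸ Nat.prime_three)
    (h.coprime le_sup_right le_rfl) hoG (o3 ▸ by decide) c2
  exact hc.lt.ne' (h0 ▸ (inf_eq_left.2 (le_Ct_comm.1 (h1.trans (h.der_le_commutator.trans c3)))).symm)

end S3H

theorem isNilpotent_of_two {Y Z : Type*} [Group Y] [Group Z] (f : X →* Y) (g : X →* Z) (h : f.ker ⊓ g.ker = ⊥)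
    {K : Subgroup X} (h1 : Group.IsNilpotent (K.map f)) (h2 : Group.IsNilpotent (K.map g)) :
    Group.IsNilpotent K :=
  Subgroup.isNilpotent_of_ker_le_center ((f.subgroupMap K).prod (g.subgroupMap K)) fun x hx => by
    obtain rfl : x = 1 := Subtype.ext (h.le ⟨congrArg (fun y : K.map f × K.map g => y.1.1) hx,
      congrArg (fun y : K.map f × K.map g => y.2.1) hx⟩)
    exact one_mem _

theorem S3H.nilpotent (n : ℕ) : ∀ {X : Type u} [Group X] [Finite X] {G : Subgroup X} {s t : X},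
    Nat.card G = n → S3H G s t → Group.IsNilpotent (⁅G, G⁆ : Subgroup X) := by
  induction n using Nat.strong_induction_on with
  | _ n ih =>
  intro X _ _ G s t hn h
  have := h.nor
  have IH : ∀ (N : Subgroup X) [N.Normal], N ≤ G → N ≠ ⊥ →
      Group.IsNilpotent (⁅G, G⁆.map (QuotientGroup.mk' N)) := fun N _ a b => by
    rw [map_commutator]
    have c := Solv.card_map_mk N G
    rw [inf_eq_right.2 a, hn] at c
    exact ih _ (c ▸ lt_mul_of_one_lt_right Nat.card_pos ((one_lt_card_iff_ne_bot N).2 b)) rfl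
      (h.map (QuotientGroup.mk'_surjective N) ((QuotientGroup.ker_mk' N).le.trans a))
  by_contra hc
  have hG : ⁅G, G⁆ ≤ G := commutator_le_left _ _
  have h0 : ⁅G, G⁆ ≠ ⊥ := fun e => hc (e ▸ Group.isNilpotent_of_subsingleton)
  obtain ⟨p, hp, V, a1, a2, a3, a4⟩ := exists_elem_invariant (X := ⊤) le_normalizer_of_normal (h.sol_all _) h0
  have := Fact.mk hp
  have hVn : V.Normal := normal_iff_top_le_normalizer.2 a4.nU
  have k : ∀ (N : Subgroup X) [N.Normal], N ≤ G → N ≠ ⊥ → V ≤ N := fun N _ a b =>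
    ((a4.sup_inf le_normalizer_of_normal).resolve_left fun e => hc (isNilpotent_of_two _ _ (by
      rw [QuotientGroup.ker_mk', QuotientGroup.ker_mk']; exact le_bot_iff.1 e) (IH V (a1.trans hG) a2)
      (IH N a b))).ge.trans (sup_le bot_le inf_le_right)
  have hRn : (Res p ⁅G, G⁆).Normal := normal_iff_top_le_normalizer.2 (le_normalizer_ResPi le_normalizer_of_normal)
  have hRG := (Res_le p ⁅G, G⁆).trans hG
  have hVR := k _ hRG fun e => hc (Res_eq_bot_iff.1 e).isNilpotent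
  obtain ⟨Q, hQ, hAQ⟩ := exists_invariant_hallIn (K := Res p ⁅G, G⁆) le_normalizer_of_normal
    (h.coprime le_rfl hRG) (h.sol_all _) {p}ᶜ
  have hVH : HallIn {p} V (Res p ⁅G, G⁆) := hallIn_mk hVR (isPi_of_isPGroup (elem_isP a3) rfl) (by
    have := IH V (a1.trans hG) a2
    have b := hasNPC_iff_coprime.1 (Transfer.hasNPC_of_nilpotent (p := p) (G := ⁅G, G⁆.map (QuotientGroup.mk' V)))
    rw [← map_Res, Solv.card_map_mk_eq_relIndex] at b
    exact piN_compl_singleton.2 b)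
  have e1 := hVH.sup_eq hQ
  have e2 := hQ.frattini (h.sol_all _) hRG le_normalizer_of_normal
  have e3 : G ≤ V ⊔ G ⊓ Nm(Q) := e2.ge.trans (sup_le (e1.ge.trans (sup_le_sup_left
    (le_inf (hQ.le.trans hRG) le_normalizer) _)) le_sup_right)
  have e4 : ∀ N : Subgroup X, V ≤ Nm(N) → Nm(Q) ≤ Nm(N) → N.Normal := fun N a b => normal_iff_top_le_normalizer.2
    (h.gen.ge.trans (sup_le (e3.trans (sup_le a (inf_le_right.trans b))) (hAQ.trans b)))
  have e5 : Q ⊓ Ct(V) = ⊥ := by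
    have := e4 (Q ⊓ Ct(V)) ((le_Ct_comm.1 inf_le_right).trans (Ct_le_Nm _))
      (le_normalizer_inf le_rfl (le_normalizer_centralizer le_normalizer_of_normal))
    by_contra e
    exact a2 (eq_bot_iff.2 (hVH.inf_eq_bot hQ ▸ le_inf le_rfl
      ((k _ (inf_le_left.trans (hQ.le.trans hRG)) e).trans inf_le_left)))
  obtain ⟨q, hq, M, b1, b2, b3, b4⟩ := exists_elem_invariant (X := Nm(Q)) le_rfl (h.sol_all _) (by
    rintro rfl
    rw [sup_bot_eq] at e1
    exact a2 (by rw [e1, ← Res_Res, ← e1, Res_eq_bot_iff]; exact elem_isP a3))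
  have := Fact.mk hq
  have := e4 (V ⊓ Ct(M)) (((elem_le_Ct a3).trans (centralizer_mono inf_le_left)).trans (Ct_le_Nm _))
    (le_normalizer_inf le_normalizer_of_normal (le_normalizer_centralizer b4.nU))
  refine h.core a3 a4 (a1.trans hG) b3 (fun e => hQ.mem_of_dvd hq ((dvd_card_of_isPGroup (elem_isP b3) b2).trans
    (card_dvd_of_le b1)) e) (b1.trans (hQ.le.trans (Res_le _ _))) (hAQ.trans b4.nU)
    (e3.trans (sup_le_sup_left (inf_le_inf_left _ b4.nU) _)) (by_contra fun e => b2 (eq_bot_iff.2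
      (e5 ▸ le_inf b1 (le_Ct_comm.1 ((k _ (inf_le_left.trans (a1.trans hG)) e).trans inf_le_right)))))

end Cfsg.Agent.Ez
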