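import Cfsg.Agent.Lib.BG.Sec3b
import Cfsg.Agent.Lib.Transfer.Thom

set_option autoImplicit false

namespace Cfsg.Agent.Ez

open Subgroup Cfsg.Agent.Comp Cfsg.Agent.BG
open scoped commutatorElement

universe u

variable {G : Type u} [Group G] [Finite G] {p : ℕ} {K V R T B W U X : Subgroup G}

theorem commutator_le_Ct_of_nf [hp : Fact p.Prime] (hV : IsPGroup p V)
    (hs : Group.IsSolvable K) (hn : R ≤ Nm(K)) (hK : K ≤ Nm(V)) (hR : R ≤ Nm(V))
    (hr : (Nat.card R).Prime) (hc : (Nat.card R).Coprime (Nat.card K))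
    (hKp : (Nat.card K).Coprime p) (hRp : (Nat.card R).Coprime p)
    (hF : IsMulCommutative K ∨ ∀ d, 1 < d → d + 1 = Nat.card R → ¬ d ∣ Nat.card K)
    (h0 : V ⊓ Ct(R) = ⊥) : ⁅K, R⁆ ≤ Ct(V) := by
  have hq : K ⊔ R ⊔ V ≤ Nm(K ⊓ Ct(V)) := sup_le (le_normalizer_inf (sup_le le_normalizer hn)
    (le_normalizer_centralizer (sup_le hK hR))) (le_Nm_of_le_Ct' inf_le_right)
  have h1 : K ≤ K ⊔ R ⊔ V := le_sup_left.trans le_sup_left
  have h2 : R ≤ K ⊔ R ⊔ V := le_sup_right.trans le_sup_left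
  have h3 : V ⊓ (K ⊓ Ct(V)) = ⊥ :=
    inf_eq_bot_of_isPGroup hV (hKp.of_dvd_left (card_dvd_of_le inf_le_left))
  have h4 : Nat.card (img hq R) = Nat.card R := card_img_of_disjoint h2
    (disjoint_of_coprime_natCard (hc.of_dvd_right (card_dvd_of_le inf_le_left))).eq_bot
  refine le_trans ?_ (inf_le_right (a := K))
  rw [commutator_comm, ← img_le_centralizer_iff (h := hq) h2 h1]
  by_contra h
  obtain ⟨h7, d, h8, h5, h6⟩ := exists_fermat (isPGroup_img hV) (isSolvable_img hs)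
    (img_le_normalizer hn) (img_le_normalizer hK) (img_le_normalizer hR) (h4 ▸ hr) (coprime_img hc)
    (coprime_img_left hKp) (coprime_img_left hRp) (img_inf_Ct_eq_bot h1 le_sup_right hK h3 le_rfl)
    (by rw [← img_inf_centralizer le_sup_right h2 hR (by rw [h3, card_bot]; exact Nat.coprime_one_right _)
      (Or.inr (by rw [h3]; infer_instance)), h0, img_bot]) h
  exact hF.elim (fun e => h7 (comm_img e)) fun e => e d h8 (h4 ▸ h5) (h6.trans (card_img_dvd _))

theorem chief_le_Ct_of_nf [hp : Fact p.Prime] (h : Chief ⊤ U ⊥) (hU : IsPGroup p U)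
    [hK : K.Normal] (hs : Group.IsSolvable K) (hr : (Nat.card R).Prime)
    (hc : (Nat.card R).Coprime (Nat.card K)) (hF : ∀ d, 1 < d → d + 1 = Nat.card R → ¬ d ∣ Nat.card K)
    (h0 : U ⊓ Ct(R) = ⊥) : ⁅K, R⁆ ≤ Ct(U) := by
  have hKn : ⊤ ≤ Nm(K) := normal_iff_top_le_normalizer.1 hK
  have hq : ⊤ ≤ Nm(Ct(U)) := le_normalizer_centralizer h.nU
  obtain ⟨H, hH, hRH⟩ := exists_invariant_hallIn (le_top.trans hKn) hc hs {p}ᶜ
  have h1 := commutator_le_Ct_of_nf hU (isSolvable_of_le hH.le hs) hRH (le_top.trans h.nU)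
    (le_top.trans h.nU) hr (hc.of_dvd_right (card_dvd_of_le hH.le)) (isPi_compl_singleton.1 hH.isPi)
    ((Solv.coprime_of_fpf (le_top.trans h.nU) (fpf_of_prime hr h0)).of_dvd_right (dvd_card_of_isPGroup hU h.lt.ne'))
    (.inr fun d a b c => hF d a b (c.trans (card_dvd_of_le hH.le))) h0
  rw [commutator_comm, ← img_le_centralizer_iff (h := hq) le_top le_top] at h1 ⊢
  refine le_Ct_of_le_Ct_Fit (isSolvable_img hs) (img_le_normalizer (le_top.trans hKn))
    (coprime_img hc) (h1.trans (centralizer_mono ?_))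
  have h2 : Op p (BG.img hq K) = ⊥ := by
    have : (Op p (BG.img hq K)).Normal := normal_iff_top_le_normalizer.2 (le_normalizer_Op
      (normal_iff_top_le_normalizer.1 (img_normal hKn)))
    rw [← img_pre (Op p (BG.img hq K)), img_eq_bot_iff le_top]
    refine h.le_Ct_of_res hU le_top (top_le_normalizer_pre _) ?_
    rw [← img_eq_bot_iff (h := hq) le_top, img_Res le_top, img_pre, Res_eq_bot_iff]
    exact isPGroup_Op p _
  refine (Fit_le_Op_sup_Opp (p := p) _).trans ?_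
  rw [h2, bot_sup_eq, ← Opi_compl_singleton]
  exact (hH.img le_top).Opi_le

theorem chief_le_of_nf (c : Chief X U V) (hU : U ≤ X) (hK : K ≤ X) (hR : R ≤ X) (hX : X ≤ Nm(K))
    (hs : Group.IsSolvable K) (hsU : Group.IsSolvable U) (hr : (Nat.card R).Prime)
    (hc : (Nat.card R).Coprime (Nat.card K)) (hcU : (Nat.card R).Coprime (Nat.card U))
    (hF : ∀ d, 1 < d → d + 1 = Nat.card R → ¬ d ∣ Nat.card K) (h0 : U ⊓ Ct(R) = ⊥) : ⁅U, ⁅K, R⁆⁆ ≤ V := by
  obtain ⟨q, hq, hi⟩ := c.exists_piN (hU.trans c.nV) hsU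
  have := Fact.mk hq
  have := img_normal (h := c.nV) hX
  have h3 : Nat.card (img c.nV R) = Nat.card R := card_img_of_disjoint hR
    (disjoint_of_coprime_natCard (hcU.of_dvd_right (card_dvd_of_le c.lt.le))).eq_bot
  rw [← img_le_centralizer_iff (h := c.nV) hU ((commutator_le_left_of_le_normalizer (hR.trans hX)).trans hK),
    le_Ct_comm, img_commutator hK hR]
  refine chief_le_Ct_of_nf (c.img_bot hU) (c.isPGroup_img hU hi) (isSolvable_img hs) (h3 ▸ hr)
    (coprime_img hc) (fun d a b e => hF d a (h3 ▸ b) (e.trans (card_img_dvd _))) ?_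
  rw [← img_inf_centralizer hU hR (hR.trans c.nU)
    (hcU.of_dvd_right (card_dvd_of_le inf_le_left)) (Or.inl (isSolvable_of_prime hr)), h0, img_bot]

theorem frob_arith {c q d e : ℕ} (hq : q.Prime) (h0 : 0 < c) (h1 : e ^ 2 = c ^ q) (h2 : d ^ 2 * c = c ^ q)
    (h3 : d = 1 ∨ d + 1 = q) : c = 1 := by
  by_contra hc
  obtain ⟨k, rfl⟩ : ∃ k, q = k + 1 := ⟨q - 1, by have := hq.pos; omega⟩
  rw [pow_succ c, mul_left_inj' h0.ne'] at h2
  by_cases hd : d = 1
  · rw [hd, one_pow, eq_comm, pow_eq_one_iff] at h2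
    exact h2.elim hc fun e => Nat.not_prime_one (by simpa [e] using hq)
  obtain rfl : d = k := by omega
  obtain ⟨k, rfl⟩ : Even d := by
    by_contra e
    have := hq.eq_two_or_odd
    rw [Nat.even_iff] at e
    omega
  rw [← two_mul, mul_comm, pow_mul] at h2
  rw [← two_mul, pow_succ c, mul_comm 2, pow_mul] at h1
  obtain ⟨f, rfl⟩ := (Nat.pow_dvd_pow_iff two_ne_zero).1 (Dvd.intro _ h1.symm)
  rw [mul_pow, mul_right_inj' (by positivity)] at h1
  have h4 := Nat.pow_left_injective two_ne_zero h2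
  have h5 : 2 ≤ f := by
    by_contra h
    interval_cases f <;> omega
  have h6 := Nat.pow_le_pow_left (show 2 ^ 2 ≤ c by nlinarith) k
  have h7 := Nat.lt_two_pow_self (n := k * 2)
  rw [← pow_mul, mul_comm] at h6
  omega

theorem key_faithful [hp : Fact p.Prime] (hW : IsPGroup p W) (hs : Group.IsSolvable T) (hr : (Nat.card R).Prime)
    (hRB : R ≤ Nm(B)) (hf : B ⊓ Ct(R) = ⊥) (hBT : B ≤ Nm(T)) (hRT : R ≤ Nm(T)) (hTW : T ≤ Nm(W))
    (hRW : R ≤ Nm(W)) (hTp : (Nat.card T).Coprime p) (hRp : (Nat.card R).Coprime p)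
    (c1 : (Nat.card B).Coprime (Nat.card T)) (c2 : (Nat.card R).Coprime (Nat.card T))
    (hfa : T ⊓ Ct(W) = ⊥) (h0 : W ⊓ Ct(R) = ⊥) : B ≤ Ct(T) := by
  by_contra h
  obtain ⟨L, h1, h2, h3, h4⟩ := exists_min_not_le_Ct (sup_le hBT hRT) h
  have hLs := isSolvable_of_le h1 hs
  have c3 := c1.of_dvd_right (card_dvd_of_le h1)
  have c4 := c2.of_dvd_right (card_dvd_of_le h1)
  have hRL := le_sup_right.trans h2
  obtain ⟨-, h6, h7⟩ := min_not_le_Ct hLs h2 le_sup_left (sup_le le_normalizer hRB) c3 h3 h4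
  have kab : ∀ Y, Y ≤ L → IsMulCommutative Y → R ≤ Nm(Y) → R ≤ Ct(Y) := fun Y a b c =>
    le_Ct_comm.1 (commutator_eq_bot_iff_le.1 (eq_bot_iff.2 (hfa ▸ le_inf
      ((commutator_le_left_of_le_normalizer c).trans (a.trans h1)) (commutator_le_Ct_of_nf hW
        (isSolvable_of_le a hLs) c (a.trans (h1.trans hTW)) hRW hr (c4.of_dvd_right (card_dvd_of_le a))
        (hTp.of_dvd_left (card_dvd_of_le (a.trans h1))) hRp (.inl b) h0))))
  have c5 := Solv.coprime_of_fpf hRB (fpf_of_prime hr hf)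
  have nR : ¬ R ≤ Ct(L) := fun e => h3 ((commutator_eq_of_inf_Ct_eq_bot hRB c5 (.inl (isSolvable_of_prime hr))
    hf).ge.trans ((commutator_mono le_rfl e).trans (commutator_le_right_of_le_normalizer
      (le_normalizer_centralizer (le_sup_left.trans h2)))))
  set Z := L ⊓ Ct(B) with hZ
  have z1 : R ≤ Ct(Z) := kab Z inf_le_left (comm_iff_le.2 (h7.trans (centralizer_mono inf_le_left)))
    (le_normalizer_inf hRL (le_normalizer_centralizer hRB))
  have z2 : ⁅L, L⁆ ≤ Z := le_inf (der_le L) h6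
  have z3 : ∀ N, N ≤ Z → L ⊔ (B ⊔ R) ≤ Nm(N) := fun N e => le_Nm_of_le_Ct' (e.trans (by
    rw [centralizer_sup, centralizer_sup]; exact le_inf h7 (le_inf inf_le_right (le_Ct_comm.1 z1))))
  have hnd : ∀ N, ¬ ⁅L, L⁆ ≤ N → ∀ g ∈ L, g ∉ Z → ∃ h ∈ L, ⁅h, g⁆ ∉ N := fun N b g c d => by
    by_contra! e
    have a := z3 (N ⊓ Z) inf_le_right
    have h8 : L ⊓ actKer (N ⊓ Z) L < L := lt_of_le_of_ne inf_le_left fun e =>
      b ((le_actKer_iff.1 (inf_eq_left.1 e)).2.trans inf_le_left)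
    refine d ⟨c, le_Ct_comm.1 (h4 _ h8 (le_normalizer_inf h2 (BG.le_normalizer_actKer
      (le_sup_right.trans a) h2))) ⟨c, a (mem_sup_left c), fun k hk => ?_⟩⟩
    exact ⟨by rw [← commutatorElement_inv]; exact N.inv_mem (e k hk), z2 (commutator_mem_commutator c hk)⟩
  have nL : ¬ ⁅L, L⁆ ≤ ⊥ := fun e => nR (kab L le_rfl (comm_of_commutator_eq_bot (le_bot_iff.1 e)) hRL)
  have e0 : ⁅L, R⁆ ≤ L := commutator_le_left_of_le_normalizer hRL
  have e1 : ⁅L, R⁆ ⊔ Z ≤ L := sup_le e0 inf_le_left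
  have e2 := commutator_sup_Ct hRL c4 (.inr hLs)
  have e3 : ⁅L, R⁆ ⊔ Z ≤ Ct(L ⊓ Ct(R)) := by
    refine sup_le ?_ (h7.trans (centralizer_mono inf_le_left))
    have := three_subgroups_le (A := L) (B := L ⊓ Ct(R)) (C := R) (le_Nm_bot _) (le_Nm_bot _) (le_Nm_bot _)
      (commutator_eq_bot_iff_le.2 (((commutator_mono le_rfl inf_le_left).trans z2).trans (le_Ct_comm.1 z1))).le
      (by rw [commutator_eq_bot_iff_le.2 inf_le_right, commutator_bot_left])
    rwa [commutator_comm R, le_bot_iff, commutator_eq_bot_iff_le] at this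
  have e4 : R ≤ Nm(⁅L, R⁆ ⊔ Z) := le_normalizer_sup (le_normalizer_commutator hRL le_normalizer)
    (z1.trans (Ct_le_Nm _))
  obtain ⟨x, hx, rfl⟩ := exists_eq_zpowers_of_prime hr
  obtain ⟨d, d1, d2⟩ := exists_dim_int (Z := Z) hW (e4 (mem_zpowers x)) (sup_le (e1.trans (h1.trans hTW)) hRW)
    (coprime_card_sup e4 (hTp.of_dvd_left (card_dvd_of_le (e1.trans h1))) hRp) le_sup_right
    (by rw [centralizer_sup]; exact le_inf (h7.trans (centralizer_mono e1)) (le_Ct_comm.1 z1))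
    ((commutator_mono e1 e1).trans z2)
    (fun e => nR (by
      have := kab _ e1 (comm_of_commutator_eq_bot (eq_bot_iff.2 (hfa ▸ le_inf ((der_le _).trans (e1.trans h1)) e))) e4
      rw [← e2, centralizer_sup]
      exact le_inf (this.trans (centralizer_mono le_sup_left)) (le_Ct_comm.1 inf_le_right)))
    (fun N _ b g c d => by
      obtain ⟨k, k1, k2⟩ := hnd N (fun e => b ((commutator_mono e1 e1).trans e)) g (e1 c) d
      rw [← e2] at k1
      obtain ⟨y, hy, z, hz, rfl⟩ := (mem_sup_of_le_normalizer' (inf_le_left.trans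
        (le_sup_left.trans (sup_le_normalizer_commutator _ _)))).1 k1
      refine ⟨y, mem_sup_left hy, fun e => k2 ?_⟩
      rwa [commutatorElement_def, mul_assoc y z, e3 c z hz, mul_inv_rev, ← mul_assoc, ← mul_assoc,
        mul_inv_cancel_right])
    (fun a b c g hg => by
      rw [C1_eq_Ct_of_prime hr b c] at hg
      by_contra e
      obtain ⟨k, k1, k2⟩ := hnd ⊥ nL g (e1 hg.1) e
      have : g ∈ Ct(L) := by
        rw [← e2, centralizer_sup]
        exact ⟨le_Ct_comm.1 (le_sup_left.trans e3) ⟨e1 hg.1, hg.2⟩, e3 hg.1⟩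
      exact k2 (commutatorElement_eq_one_iff_mul_comm.2 (this k k1)))
    (hx ▸ c4.of_dvd_right (card_dvd_of_le inf_le_left)) (by rwa [← centralizer_zpowers])
  have hL1 : L ⊔ zpowers 1 = L := by rw [zpowers_one_eq_bot, sup_bot_eq]
  have hLp := hTp.of_dvd_left (card_dvd_of_le h1)
  obtain ⟨e, -, d3, -⟩ := exists_dim_sub hL1 (one_mem _)
    ((Transfer.dualRep (AlgebraicClosure (ZMod p)) W).comp (inclusion (h1.trans hTW)))
    (cast_ne_zero_of_coprime hLp) inf_le_left h7 z2 (mt (le_Ct_of_le_ker_dualRep hW _ (der_le L)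
      (hLp.of_dvd_left (card_dvd_of_le (der_le L)))) fun e => nL (hfa ▸ le_inf ((der_le L).trans h1) e))
    (fun N _ => hnd N) (fun a b c => absurd (by simpa using b) c) (by simp)
  have hq := z3 Z le_rfl
  have q1 : B ≤ L ⊔ (B ⊔ zpowers x) := le_sup_left.trans le_sup_right
  have q2 : zpowers x ≤ L ⊔ (B ⊔ zpowers x) := le_sup_right.trans le_sup_right
  have q3 : Nat.card (img hq (zpowers x)) = Nat.card (zpowers x) := card_img_of_disjoint q2
    (disjoint_of_coprime_natCard (c4.of_dvd_right (card_dvd_of_le inf_le_left))).eq_bot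
  have d4 := card_eq_pow_of_fpf (img_le_normalizer (h := hq) hRB) (fpf_of_prime (q3 ▸ hr) (by
    rw [← img_inf_centralizer q1 q2 hRB (c5.of_dvd_right (card_dvd_of_le inf_le_left))
      (.inl (isSolvable_of_prime hr)), hf, img_bot])) (isSolvable_img hLs)
    (img_le_normalizer (le_sup_left.trans h2)) (img_le_normalizer hRL)
    (by rw [← img_sup q1 q2]; exact coprime_img (coprime_card_sup hRB c3 c4))
    (by rw [← img_inf_centralizer le_sup_left q1 (le_sup_left.trans h2)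
      (c3.of_dvd_right (card_dvd_of_le inf_le_left)) (.inr (isSolvable_of_le inf_le_left hLs)), img_ker])
  have d5 := Transfer.card_commutator_zpowers ((comm_img_iff (h := hq) le_sup_left).2 z2)
    (a := qmap hq ⟨x, q2 (mem_zpowers x)⟩) (img_le_normalizer hRL (qmap_mem_img (mem_zpowers x)))
  rw [← img_zpowers, d4, ← img_commutator le_sup_left q2, ← img_sup_ker (e0.trans le_sup_left)
    (inf_le_left.trans le_sup_left), card_img (e1.trans le_sup_left), ← d1] at d5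
  rw [card_img le_sup_left] at d4
  rw [frob_arith (q3 ▸ hr) Nat.card_pos (d3.trans d4) d5 (q3 ▸ hx ▸ d2), one_pow, relIndex_eq_one] at d4
  exact h3 (le_Ct_comm.1 (d4.trans inf_le_right))

theorem key_fpf [hp : Fact p.Prime] (hW : IsPGroup p W) (hs : Group.IsSolvable T) (hr : (Nat.card R).Prime)
    (hRB : R ≤ Nm(B)) (hf : B ⊓ Ct(R) = ⊥) (hBT : B ≤ Nm(T)) (hRT : R ≤ Nm(T)) (hTW : T ≤ Nm(W))
    (hBW : B ≤ Nm(W)) (hRW : R ≤ Nm(W)) (hTp : (Nat.card T).Coprime p) (hRp : (Nat.card R).Coprime p)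
    (c1 : (Nat.card B).Coprime (Nat.card T)) (c2 : (Nat.card R).Coprime (Nat.card T))
    (h0 : W ⊓ Ct(R) = ⊥) : ⁅T, B⁆ ≤ Ct(W) := by
  have hq : T ⊔ (B ⊔ R) ⊔ W ≤ Nm(T ⊓ Ct(W)) := sup_le (le_normalizer_inf (sup_le le_normalizer (sup_le hBT hRT))
    (le_normalizer_centralizer (sup_le hTW (sup_le hBW hRW)))) (le_Nm_of_le_Ct' inf_le_right)
  have h1 : T ≤ T ⊔ (B ⊔ R) ⊔ W := le_sup_left.trans le_sup_left
  have h2 : R ≤ T ⊔ (B ⊔ R) ⊔ W := (le_sup_right.trans le_sup_right).trans le_sup_left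
  have h2' : B ≤ T ⊔ (B ⊔ R) ⊔ W := (le_sup_left.trans le_sup_right).trans le_sup_left
  have h3 : W ⊓ (T ⊓ Ct(W)) = ⊥ :=
    inf_eq_bot_of_isPGroup hW (hTp.of_dvd_left (card_dvd_of_le inf_le_left))
  have h4 : Nat.card (img hq R) = Nat.card R := card_img_of_disjoint h2
    (disjoint_of_coprime_natCard (c2.of_dvd_right (card_dvd_of_le inf_le_left))).eq_bot
  refine le_trans ?_ (inf_le_right (a := T))
  rw [commutator_comm, ← img_le_centralizer_iff (h := hq) h2' h1]
  refine key_faithful (isPGroup_img hW) (isSolvable_img hs) (h4 ▸ hr) (img_le_normalizer hRB) ?_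
    (img_le_normalizer hBT) (img_le_normalizer hRT) (img_le_normalizer hTW) (img_le_normalizer hRW)
    (coprime_img_left hTp) (coprime_img_left hRp) (coprime_img c1) (coprime_img c2)
    (img_inf_Ct_eq_bot h1 le_sup_right hTW h3 le_rfl) ?_
  · rw [← img_inf_centralizer h2' h2 hRB (c2.of_dvd_right (card_dvd_of_le (inf_le_right.trans inf_le_left)))
      (.inl (isSolvable_of_prime hr)), hf, img_bot]
  · rw [← img_inf_centralizer le_sup_right h2 hRW (by rw [h3, card_bot]; exact Nat.coprime_one_right _)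
      (.inl (isSolvable_of_prime hr)), h0, img_bot]

variable {w x : G} {Y Z : Subgroup G}

omit [Finite G] in
theorem nm_mem (h : ∀ a ∈ zpowers x, a * w * a⁻¹ ∈ Y) : (w * x) ^ orderOf x ∈ Y := by
  have : ∀ k, (w * x) ^ k * (x ^ k)⁻¹ ∈ Y := fun k => by
    induction k with
    | zero => simp
    | succ k ih =>
      convert mul_mem ih (h _ (npow_mem_zpowers x k)) using 1
      rw [pow_succ, pow_succ]; group
  simpa using this (orderOf x)

theorem inv_mul_nm_mem (h : ∀ a ∈ zpowers x, a ≠ 1 → a * w * a⁻¹ ∈ Z) : w⁻¹ * (w * x) ^ orderOf x ∈ Z := by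
  have : ∀ k, k < orderOf x → w⁻¹ * (w * x) ^ (k + 1) * (x ^ (k + 1))⁻¹ ∈ Z := fun k hk => by
    induction k with
    | zero => simp
    | succ k ih =>
      convert mul_mem (ih (by omega)) (h _ (npow_mem_zpowers x (k + 1))
        (pow_ne_one_of_lt_orderOf (by omega) hk)) using 1
      rw [pow_succ _ (k + 1), pow_succ x (k + 1)]; group
  have := this (orderOf x - 1) (Nat.sub_one_lt (orderOf_pos x).ne')
  rwa [Nat.sub_add_cancel (orderOf_pos x), pow_orderOf_eq_one, inv_one, mul_one] at this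

omit [Finite G] in
theorem nm_mem_inf (hY : IsMulCommutative Y) (hx : x ∈ Nm(Y)) (hw : w ∈ Y) :
    (w * x) ^ orderOf x ∈ Y ⊓ C1(x) := by
  have a := nm_mem fun a ha => conj_mem_of_le_normalizer (zpowers_le.2 hx) ha hw
  refine ⟨a, mem_centralizer_singleton_iff.2 ?_⟩
  have b : Commute w ((w * x) ^ orderOf x) := comm_iff_le.1 hY a w hw
  have := (b.inv_left.mul_left ((Commute.refl (w * x)).pow_right (orderOf x))).symm
  rwa [inv_mul_cancel_left] at this

theorem mem_of_conj_mem (hY : IsMulCommutative Y) (hx : x ∈ Nm(Y)) (hw : w ∈ Y) (h0 : Y ⊓ C1(x) = ⊥)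
    (h : ∀ a ∈ zpowers x, a ≠ 1 → a * w * a⁻¹ ∈ Z) : w ∈ Z := by
  have := inv_mul_nm_mem h
  rwa [mem_bot.1 (h0.le (nm_mem_inf hY hx hw)), mul_one, inv_mem_iff] at this

end Cfsg.Agent.Ez
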