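import Cfsg.Agent.Lib.Ez.G1
import Cfsg.Agent.Lib.Ez.G2

set_option autoImplicit false

namespace Cfsg.Agent.Ez

open Subgroup Cfsg.Agent.Comp Cfsg.Agent.BG
open scoped commutatorElement

universe u

variable {X : Type u} [Group X]

structure PQH (G A S : Subgroup X) (p q : ℕ) : Prop where
  nor : G.Normal
  sol : Group.IsSolvable G
  hp : p.Prime
  hq : q.Prime
  ne : p ≠ q
  cA : Nat.card A = p * q
  cS : Nat.card S = p
  le : S ≤ A
  nS : A ≤ Nm(S)
  nc : ¬ A ≤ Ct(S)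
  cop : (Nat.card G).Coprime (p * q)
  fpf : G ⊓ Ct(A) = ⊥
  gen : G ⊔ A = ⊤

namespace PQH

variable [Finite X] {G A S K W Z N : Subgroup X} {p q : ℕ} {s t w : X} (h : PQH G A S p q)
include h

theorem coprime {B : Subgroup X} (hA : B ≤ A) (hK : K ≤ G) : (Nat.card B).Coprime (Nat.card K) :=
  (h.cop.symm.of_dvd_left (h.cA ▸ card_dvd_of_le hA)).of_dvd_right (card_dvd_of_le hK)

theorem pS : (Nat.card S).Prime := h.cS ▸ h.hp

theorem relIndex : S.relIndex A = q := by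
  have := relIndex_mul_card h.le
  rwa [h.cA, h.cS, mul_comm p, mul_left_inj' h.hp.ne_zero] at this

theorem sup_eq (h1 : t ∈ A) (h2 : t ∉ S) : S ⊔ zpowers t = A :=
  Solv.sup_zpowers_eq_of_relIndex_prime h.le (h.relIndex ▸ h.hq) h1 h2

theorem comm : S ≤ Ct(S) := by
  have := Fact.mk h.hp
  exact comm_iff_le.1 (comm_of_isCyclic (isCyclic_of_prime_card h.cS))

theorem not_mem_C1 (h1 : t ∈ A) (h2 : t ∉ S) (h3 : s ∈ S) (h4 : s ≠ 1) : t ∉ C1(s) := fun e =>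
  h.nc (h.sup_eq h1 h2 ▸ sup_le h.comm (zpowers_le.2 (C1_eq_Ct_of_prime h.pS h3 h4 ▸ e)))

theorem orderOf_eq (h1 : t ∈ A) (h2 : t ∉ S) : orderOf t = q := by
  have := Fact.mk h.hq
  refine orderOf_eq_prime (by_contra fun e => h.not_mem_C1 h1 h2 (h.relIndex ▸ Solv.pow_relIndex_mem h.le h.nS h1) e
    (mem_centralizer_singleton_iff.2 (Commute.self_pow t q))) (by rintro rfl; exact h2 (one_mem _))

theorem pT (h1 : t ∈ A) (h2 : t ∉ S) : (Nat.card (zpowers t)).Prime := by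
  rw [Nat.card_zpowers, h.orderOf_eq h1 h2]; exact h.hq

theorem not_mem (h1 : t ∈ A) (h2 : t ∉ S) {a : X} (h3 : a ∈ zpowers t) (h4 : a ≠ 1) : a ∉ S := fun e =>
  h.not_mem_C1 h1 h2 e h4 (centralizer_le_centralizer_singleton h3
    (comm_iff_le.1 (zpowers_isMulCommutative t) (mem_zpowers t)))

theorem exists_t : ∃ t ∈ A, t ∉ S := by
  by_contra! e
  exact h.nc (le_trans e h.comm)

theorem nf (hK : K ≤ G) (d : ℕ) (h1 : 1 < d) (h2 : d + 1 = Nat.card S) : ¬ d ∣ Nat.card K := fun e => by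
  obtain ⟨t, a, b⟩ := h.exists_t
  have := Solv.card_modEq_one_of_fpf (K := S) ((zpowers_le.2 a).trans h.nS) fun x c d => eq_bot_iff.2 fun s hs =>
    by_contra fun f => h.not_mem_C1 (zpowers_le.2 a c) (h.not_mem a b c d) hs.1 f
      (mem_centralizer_singleton_iff.2 (mem_centralizer_singleton_iff.1 hs.2).symm)
  rw [← h2, Nat.card_zpowers, h.orderOf_eq a b] at this
  exact h.hq.ne_one (Nat.eq_one_of_dvd_coprimes h.cop ((((Nat.modEq_iff_dvd' (by omega)).1 this.symm).trans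
    (by simpa using e)).trans (card_dvd_of_le hK)) (dvd_mul_left q p))

theorem inf_C1 (h1 : t ∈ A) (h2 : t ∉ S) (hK : K ≤ G ⊓ Ct(S)) : K ⊓ C1(t) = ⊥ := by
  refine eq_bot_iff.2 (h.fpf ▸ le_inf (inf_le_left.trans (hK.trans inf_le_left)) ?_)
  rw [← h.sup_eq h1 h2, centralizer_sup, centralizer_zpowers]
  exact inf_le_inf_right _ (hK.trans inf_le_right)

theorem nCt (hK : A ≤ Nm(K)) : A ≤ Nm(K ⊓ Ct(S)) := le_normalizer_inf hK (le_normalizer_centralizer h.nS)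

theorem nilp : Group.IsNilpotent (G ⊓ Ct(S) : Subgroup X) := by
  have := h.nor
  obtain ⟨t, a, b⟩ := h.exists_t
  exact Solv.thompson_fpf ((zpowers_le.2 a).trans (h.nCt le_normalizer_of_normal)) (ne_bot_of_prime (h.pT a b))
    fun x c d => h.inf_C1 (zpowers_le.2 a c) (h.not_mem a b c d) le_rfl

theorem sol_all (K : Subgroup X) : Group.IsSolvable K := by
  have := h.nor
  obtain ⟨t, a, b⟩ := h.exists_t
  refine Comp.isSolvable_of_le (le_top.trans (h.gen.ge.trans (sup_comm _ _).le))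
    (Comp.isSolvable_sup le_normalizer_of_normal ?_ h.sol)
  rw [← h.sup_eq a b, sup_comm]
  exact Comp.isSolvable_sup ((zpowers_le.2 a).trans h.nS) (isSolvable_of_prime (h.pT a b)) (isSolvable_of_prime h.pS)

theorem map {Y : Type u} [Group Y] [Finite Y] {f : X →* Y} (hf : Function.Surjective f) (hk : f.ker ≤ G) :
    PQH (G.map f) (A.map f) (S.map f) p q := by
  have := h.nor
  have k0 : A ⊓ f.ker = ⊥ := (disjoint_of_coprime_natCard (h.coprime le_rfl hk)).eq_bot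
  have k : ∀ B, B ≤ A → Nat.card (B.map f) = Nat.card B := fun B e => Transfer.card_map_of_inf_ker k0 e
  refine ⟨h.nor.map f hf, isSolvable_map f h.sol, h.hp, h.hq, h.ne, (k A le_rfl).trans h.cA, (k S h.le).trans h.cS,
    map_mono h.le, map_le_normalizer f h.nS, fun e => h.nc ?_, h.cop.of_dvd_left (card_map_dvd _ _), ?_, ?_⟩
  · rw [← commutator_eq_bot_iff_le, ← map_commutator, Subgroup.map_eq_bot_iff] at e
    exact commutator_eq_bot_iff_le.1 (eq_bot_iff.2 (k0 ▸ le_inf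
      ((commutator_le_right_of_le_normalizer h.nS).trans h.le) e))
  · rw [← map_inf_centralizer f le_normalizer_of_normal (h.coprime le_rfl inf_le_left)
      (.inr (h.sol_all _)), h.fpf, Subgroup.map_bot]
  · rw [← Subgroup.map_sup, h.gen, map_top_of_surjective f hf]

theorem mem_of_fixed {V : Subgroup X} (h0 : V ≤ G) (hV : IsMulCommutative V) (hn : A ≤ Nm(V)) (h1 : t ∈ A)
    (h2 : t ∉ S) (hw : w ∈ V) (h3 : w ∈ C1(t)) (h4 : ∀ s ∈ S, s ≠ 1 → s * w * s⁻¹ ∈ Z) : w ∈ Z := by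
  have c := h.coprime h.le h0
  have a1 := commutator_inf_Ct_of_comm hV (h.le.trans hn) c
  have a2 : ⁅V, S⁆ ≤ V := commutator_le_left_of_le_normalizer (h.le.trans hn)
  have a3 := le_normalizer_commutator hn h.nS
  have a4 : w ∈ ⁅V, S⁆ := by
    rw [← commutator_sup_Ct (h.le.trans hn) c (.inr (h.sol_all _))] at hw
    obtain ⟨d, hd, c, hc, rfl⟩ := (mem_sup_of_le_normalizer' (inf_le_left.trans
      (le_sup_left.trans (sup_le_normalizer_commutator _ _)))).1 hw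
    have e : d⁻¹ * (t * d * t⁻¹) = c * (t * c * t⁻¹)⁻¹ := by
      rw [inv_mul_eq_iff_eq_mul, ← mul_assoc d, mem_centralizer_singleton_iff.1 h3 |> eq_mul_inv_of_mul_eq]; group
    have b : c * (t * c * t⁻¹)⁻¹ = 1 := a1.le ⟨e ▸ Subgroup.mul_mem _ (inv_mem hd) (conj_mem_of_le_normalizer a3 h1 hd),
      (mul_mem hc (inv_mem (conj_mem_of_le_normalizer (h.nCt hn) h1 hc))).2⟩
    rwa [mem_bot.1 ((h.inf_C1 h1 h2 (inf_le_inf_right _ h0)).le ⟨hc, mem_centralizer_singleton_iff.2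
      (eq_mul_inv_iff_mul_eq.1 (mul_inv_eq_one.1 b))⟩), mul_one]
  obtain ⟨s, -, rfl⟩ := exists_eq_zpowers_of_prime h.pS
  exact mem_of_conj_mem (comm_iff_le.2 (a2.trans ((comm_iff_le.1 hV).trans (centralizer_mono a2)))) (a3 (h.le (mem_zpowers s))) a4 (centralizer_zpowers s ▸ a1) h4

theorem exists_fpf {V : Subgroup X} [V.Normal] (h1 : V ≤ G) (h2 : IsMulCommutative V) (h3 : W ≤ V)
    (h4 : ∀ a ∈ A, a ∈ Nm(W) ∨ cj(a, W) ≤ Z) (h5 : W ⊓ Z = ⊥) (h6 : ∀ s ∈ S, s ≠ 1 → s ∉ Nm(W)) (h7 : W ≠ ⊥) :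
    ∃ t ∈ A, t ∉ S ∧ t ∈ Nm(W) ∧ W ⊓ C1(t) = ⊥ := by
  have k : ∀ a ∈ A, a ∉ Nm(W) → ∀ w ∈ W, a * w * a⁻¹ ∈ Z := fun a b c =>
    cj_le_iff'.1 ((h4 a b).resolve_left c)
  by_contra! e
  replace e : ∀ t ∈ A, t ∉ S → t ∉ Nm(W) := fun t a b c => e t a b c (eq_bot_iff.2 fun w hw => h5.le ⟨hw.1,
    h.mem_of_fixed h1 h2 le_normalizer_of_normal a b (h3 hw.1) hw.2 fun s c d => k s (h.le c) (h6 s c d) w hw.1⟩)
  obtain ⟨t, a, b⟩ := h.exists_t
  refine h7 (eq_bot_iff.2 fun w hw => h5.le ⟨hw, ?_⟩)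
  have a1 := nm_mem_inf h2 (le_normalizer_of_normal (mem_top t)) (h3 hw)
  have a2 := inv_mul_nm_mem fun x c d => k x (zpowers_le.2 a c) (e x (zpowers_le.2 a c) (h.not_mem a b c d)) w hw
  have a3 := h.mem_of_fixed (Z := Z) h1 h2 le_normalizer_of_normal a b a1.1 a1.2 fun s c d => by
    rw [← inv_inv s, inv_inv s⁻¹, ← mem_cj]
    refine nm_mem fun x hx => mem_cj.2 ?_
    have a4 := mul_mem (h.le c) (zpowers_le.2 a hx)
    convert k _ a4 (fun f => (em (x = 1)).elim (fun g => h6 s c d (by simpa [g] using f)) fun g =>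
      e _ a4 (fun i => h.not_mem a b hx g ((mul_mem_cancel_left c).1 i)) f) w hw using 1
    group
  simpa using mul_mem a3 (inv_mem a2)

theorem hall : HallIn {p, q} A ⊤ := by
  have := h.nor
  have k : ∀ r : ℕ, r.Prime → (r ∈ ({p, q} : Set ℕ) ↔ r ∣ p * q) := fun r hr => by
    rw [hr.dvd_mul, Nat.prime_dvd_prime_iff_eq hr h.hp, Nat.prime_dvd_prime_iff_eq hr h.hq]; simp
  refine ⟨le_top, fun r hr e => (k r hr).2 (h.cA ▸ e), fun r hr e f => ?_⟩
  have a := Comp.card_sup_dvd (H := A) (N := G) le_normalizer_of_normal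
  rw [sup_comm, h.gen, ← relIndex_mul_card (le_top (a := A)), mul_comm] at a
  exact hr.ne_one (Nat.eq_one_of_dvd_coprimes h.cop (f.trans (Nat.dvd_of_mul_dvd_mul_left Nat.card_pos a))
    ((k r hr).1 e))

theorem commutator_eq (hK : K ≤ G) (hn : A ≤ Nm(K)) : ⁅K, A⁆ = K :=
  commutator_eq_of_inf_Ct_eq_bot hn (h.coprime le_rfl hK) (.inr (h.sol_all _))
    (eq_bot_iff.2 (h.fpf ▸ inf_le_inf_right _ hK))

theorem le_of_actKer {L M : Subgroup X} {g : X} (h1 : M ≤ G) (h2 : A ≤ Nm(M)) (ht : t ∈ A) (ht' : t ∉ S)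
    (hs : s ∈ S) (hs' : s ≠ 1) (h3 : t ∈ actKer L M) (hg : g ∈ G ⊓ Nm(M)) (h4 : cj(s, L) = cj(g, L)) : M ≤ L := by
  have := h.nor
  have := Fact.mk h.hp
  have a1 : t ∈ actKer L M ⊓ Nm(M) := ⟨h3, h2 ht⟩
  have a2 : g⁻¹ * s ∈ Nm(L) ⊓ Nm(M) := ⟨cj_eq_self_iff.1 (by rw [cj_mul, h4, cj_inv_cj]),
    mul_mem (S := Subgroup X) (inv_mem hg.2) (h2 (h.le hs))⟩
  have a3 := mul_mem (conj_mem_of_le_normalizer (le_normalizer_inf (BG.le_normalizer_actKer inf_le_left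
    inf_le_right) (inf_le_right.trans le_normalizer)) a2 a1) (inv_mem a1)
  obtain ⟨B, hB⟩ := exists_hallIn (h.sol_all (actKer L M ⊓ Nm(M))) {p, q}
  have b2 := hB.dvd_card h.hq (by simp) (h.orderOf_eq ht ht' ▸ orderOf_dvd_natCard _ a1)
  have b1 : ⁅s, t⁆ ∈ S := commutator_le_left_of_le_normalizer h.nS (commutator_mem_commutator hs ht)
  have b3 := hB.dvd_card h.hp (by simp) (Dvd.dvd.trans (by
    refine Dvd.dvd.trans ?_ (orderOf_map_dvd (QuotientGroup.mk' G) _)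
    have e : QuotientGroup.mk' G (g⁻¹ * s * t * (g⁻¹ * s)⁻¹ * t⁻¹) = QuotientGroup.mk' G ⁅s, t⁆ := by
      simp only [map_mul, map_inv, show QuotientGroup.mk' G g = 1 from (QuotientGroup.eq_one_iff g).2 hg.1,
        inv_one, one_mul, commutatorElement_def]
    rw [e, orderOf_eq_prime (p := p) (x := QuotientGroup.mk' G ⁅s, t⁆)
      (by rw [← map_pow, orderOf_dvd_iff_pow_eq_one.1 (h.cS ▸ orderOf_dvd_natCard _ b1), map_one])
      fun f => h.not_mem_C1 ht ht' hs hs' (mem_centralizer_singleton_iff.2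
        (commutatorElement_eq_one_iff_mul_comm.1 ((disjoint_of_coprime_natCard (h.coprime h.le le_rfl)).le_bot
          ⟨b1, (QuotientGroup.eq_one_iff _).1 f⟩)).symm)]) (orderOf_dvd_natCard _ a3))
  obtain ⟨y, hy, e⟩ := (h.hall.of_le h2 le_top).exists_le_cj (h.sol_all _) (hB.le.trans inf_le_right) hB.isPi
  have b4 := eq_of_le_of_card_ge e ((card_cj _ _).trans_le (h.cA.trans_le (Nat.le_of_dvd Nat.card_pos
    (((Nat.coprime_primes h.hp h.hq).2 h.ne).mul_dvd_of_dvd_of_dvd b3 b2))))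
  rw [← cj_eq_self_iff.2 hy, ← h.commutator_eq h1 h2, cj_commutator, cj_eq_self_iff.2 hy, ← b4, commutator_comm]
  exact (le_actKer_iff.1 (hB.le.trans inf_le_left)).2

theorem le_commutator {D : Subgroup X} (h1 : D ≤ G) (h2 : ⁅D, G⁆ = D) : D ≤ ⁅G, S⁆ := by
  have := h.nor
  have hq : G ≤ Nm(⁅G, S⁆) := le_sup_left.trans (sup_le_normalizer_commutator _ _)
  have a : ⁅G, S⁆ ≤ G := commutator_le_left _ _
  have e : img hq G = img hq (G ⊓ Ct(S)) := by
    rw [← img_ker_sup inf_le_left a,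
      commutator_sup_Ct (K := G) le_normalizer_of_normal (h.coprime h.le le_rfl) (.inr h.sol)]
  rw [← img_eq_bot_iff (h := hq) h1, eq_bot_iff]
  refine Transfer.le_of_le_sup_commutator_of_nilpotent (hP := e ▸ isNilpotent_img h.nilp) (img_mono h1) bot_le
    (le_Nm_bot _) ?_
  rw [bot_sup_eq, ← img_commutator h1 le_rfl, h2]

theorem hard {r : ℕ} [Fact r.Prime] {V Q : Subgroup X} (hV : IsElementaryAbelian r V) (hc : Chief ⊤ V ⊥)
    (hVG : V ≤ G) (q1 : Q ≤ G) (q2 : (Nat.card Q).Coprime r) (q3 : A ≤ Nm(Q)) (q4 : Q ⊓ Ct(V) = ⊥) (q5 : Q ≠ ⊥)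
    (q6 : Q ≤ ⁅Q, G ⊓ Nm(Q)⁆) (w1 : W ≤ V) (w2 : W ≠ ⊥) (w3 : G ≤ Nm(W)) (w4 : G ≤ Nm(Z)) (w5 : W ⊓ Z = ⊥)
    (w6 : ∀ s ∈ S, s ≠ 1 → cj(s, W) ≤ Z) (t1 : t ∈ A) (t2 : t ∉ S) (t3 : t ∈ Nm(W)) (t4 : W ⊓ C1(t) = ⊥) :
    False := by
  have := h.nor
  have hVn : V.Normal := normal_iff_top_le_normalizer.2 hc.nU
  have a0 : W ⊔ ⁅W, A⁆ = V := ((hc.sup_of_le (h.gen.ge.trans (sup_le (by
    rw [sup_commutator_eq_iSup]
    exact Comp.le_normalizer_iSup fun g => by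
      rw [← cj_normalizer, ← cj_eq_self_of_normal G g]; exact cj_mono _ w3) (le_normalizer_sup_commutator _ _)))
    (sup_commutator_le w1 le_normalizer_of_normal)).resolve_left fun e => w2 (eq_bot_iff.2 (le_sup_left.trans e))).symm ▸
    (bot_sup_eq _).symm
  have a1 : ∀ Y, A ≤ Nm(Y) → Y ≤ Ct(W) → Y ≤ Ct(V) := fun Y a b => le_Ct_comm.1 (a0 ▸
    sup_commutator_le_of_forall fun g hg => cj_le_of_mem (le_Ct_comm.1 b) (le_normalizer_centralizer a hg))
  have a2 : Opp r (G ⊓ Ct(S)) ≤ Ct(V) := a1 _ (le_normalizer_Opp (h.nCt le_normalizer_of_normal)) fun y hy w hw => by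
    have b0 := (Opp_le _ _ hy).1
    have b1 := Solv.le_centralizer_of_nilpotent_of_coprime h.nilp (Opp_le r _) (inf_le_inf_right _ hVG)
      (coprime_of_isPGroup ((elem_isP hV).to_le inf_le_left) (coprime_Opp r _)).symm hy
    obtain ⟨s, -, rfl⟩ := exists_eq_zpowers_of_prime h.pS
    have b2 := b1 _ (centralizer_zpowers s ▸ nm_mem_inf hV.1 (le_normalizer_of_normal (mem_top s)) (w1 hw))
    have b3 := inv_mul_nm_mem fun a b c => cj_le_iff'.1 (w6 a b c) w hw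
    have b4 : w⁻¹ * (y * w * y⁻¹) = 1 := w5.le (mem_inf.2 ⟨mul_mem (inv_mem hw) (conj_mem_of_le_normalizer w3 b0 hw), by
      convert mul_mem b3 (inv_mem (conj_mem_of_le_normalizer w4 b0 b3)) using 1
      rw [← conj_mul, ← b2]; group⟩)
    exact (mul_inv_eq_iff_eq_mul.1 (inv_mul_eq_one.1 b4).symm).symm
  have a3 : ∀ Y, Y ≤ G ⊓ Ct(S) → (Nat.card Y).Coprime r → Y ≤ Ct(V) := fun Y a b =>
    (le_Opp_of_isNilpotent h.nilp a b).trans a2
  set H := G ⊓ Nm(Q) with hH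
  have b0 : A ≤ Nm(H) := le_normalizer_inf le_normalizer_of_normal (le_normalizer_normalizer q3)
  have b1 : Q ≤ H := le_inf q1 le_normalizer
  obtain ⟨Q₁, -, c⟩ := exists_chief_below (X := H ⊔ A) (sup_le inf_le_right q3) (le_Nm_bot _) q5.bot_lt
  have b2 := chief_le_of_nf c (b1.trans le_sup_left) le_sup_left (h.le.trans le_sup_right) (sup_le le_normalizer b0)
    (h.sol_all _) (h.sol_all _) h.pS (h.coprime h.le inf_le_left) (h.coprime h.le q1) (h.nf inf_le_left)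
    (eq_bot_iff.2 (q4 ▸ le_inf inf_le_left (a3 _ (inf_le_inf_right _ q1) (q2.of_dvd_left (card_dvd_of_le inf_le_left)))))
  have b3 : H ⊓ Ct(S) ≤ G ⊓ Ct(S) := inf_le_inf_right _ inf_le_left
  have b4 : ∀ Y, Y ≤ H → ⁅Q, Y⁆ ≤ Ct(V) → Y ≤ Ct(Q) := fun Y a b => le_Ct_comm.1 (commutator_eq_bot_iff_le.1
    (eq_bot_iff.2 (q4 ▸ le_inf (commutator_le_left_of_le_normalizer (a.trans inf_le_right)) b)))
  have b5 := (Op_le r (H ⊓ Ct(S))).trans b3
  have b6 := le_normalizer_Op (p := r) (h.nCt b0)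
  have b7 : H ⊓ Ct(S) ≤ Ct(Q) := by
    rw [← Op_sup_Opp_of_isNilpotent (p := r) (isNilpotent_of_le b3 h.nilp)]
    refine sup_le (b4 _ ((Op_le _ _).trans inf_le_left) (a1 _ (le_normalizer_commutator q3 b6)
      (key_fpf ((elem_isP hV).to_le w1) (h.sol_all _) (h.pT t1 t2) ((zpowers_le.2 t1).trans b6)
        (centralizer_zpowers t ▸ h.inf_C1 t1 t2 b5) ((Op_le _ _).trans (inf_le_left.trans inf_le_right))
        ((zpowers_le.2 t1).trans q3) (q1.trans w3) (b5.trans (inf_le_left.trans w3)) (zpowers_le.2 t3) q2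
        ((h.coprime (zpowers_le.2 t1) hVG).of_dvd_right (dvd_card_of_isPGroup (elem_isP hV) hc.lt.ne'))
        (coprime_of_isPGroup (isPGroup_Op _ _) q2) (h.coprime (zpowers_le.2 t1) q1) (centralizer_zpowers t ▸ t4))))
      (b4 _ ((Opp_le _ _).trans inf_le_left) ((commutator_mono le_rfl (a3 _ ((Opp_le _ _).trans b3)
        (coprime_Opp _ _))).trans (commutator_le_right _ _)))
  refine c.lt.not_ge (q6.trans ?_)
  rw [← commutator_sup_Ct (h.le.trans b0) (h.coprime h.le inf_le_left) (.inr (h.sol_all _))]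
  exact commutator_sup_right_le (((commutator_le_left_of_le_normalizer (h.le.trans b0)).trans le_sup_left).trans c.nV)
    ((inf_le_left.trans le_sup_left).trans c.nV) b2 (commutator_eq_bot_iff'.2 b7 ▸ bot_le)

theorem core {r u : ℕ} [Fact r.Prime] [hq : Fact u.Prime] {V M : Subgroup X} (hV : IsElementaryAbelian r V)
    (hc : Chief ⊤ V ⊥) (hVG : V ≤ G) (hM : IsElementaryAbelian u M) (hpq : u ≠ r) (h1 : M ≤ ⁅G, S⁆)
    (hA : A ≤ Nm(M)) (hG : G ≤ V ⊔ G ⊓ Nm(M)) (h0 : V ⊓ Ct(M) = ⊥)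
    (hh : ∀ W Z t, W ≤ V → W ≠ ⊥ → G ≤ Nm(W) → G ≤ Nm(Z) → W ⊓ Z = ⊥ → (∀ s ∈ S, s ≠ 1 → cj(s, W) ≤ Z) →
      t ∈ A → t ∉ S → t ∈ Nm(W) → W ⊓ C1(t) = ⊥ → False) : False := by
  have := h.nor
  have := Fact.mk h.hp
  have hVn : V.Normal := normal_iff_top_le_normalizer.2 hc.nU
  have hMG : M ≤ G := h1.trans (commutator_le_left _ _)
  have hKV : M ≤ Nm(V) := le_normalizer_of_normal
  have hMr := coprime_of_isPGroup_of_ne hpq (elem_isP hM)
  have hco : (Nat.card M).Coprime (Nat.card V) := (coprime_of_isPGroup (elem_isP hV) hMr).symm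
  have hr := dvd_card_of_isPGroup (elem_isP hV) hc.lt.ne'
  have hML : ∀ L, L ≤ M → M ≤ Nm(L) := fun L h => (elem_le_Ct hM).trans ((centralizer_mono h).trans (Ct_le_Nm L))
  have hKn : ∀ L, L ≤ M → M ≤ Nm(V ⊓ Ct(L)) := fun L h => le_normalizer_inf hKV
    (le_normalizer_centralizer (hML L h))
  have hind : ∀ L, L ≤ M → ⁅V, L⁆ ⊓ Ct(L) = ⊥ := fun L h =>
    commutator_inf_Ct_of_comm hV.1 (h.trans hKV) (hco.of_dvd_left (card_dvd_of_le h))
  let Hy : Subgroup X → Prop := fun L => L ≤ M ∧ L.relIndex M = u ∧ V ⊓ Ct(L) ≠ ⊥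
  have hcj : ∀ g L, cj(g, V ⊓ Ct(L)) = V ⊓ Ct(cj(g, L)) := fun g L => by
    rw [cj_inf, cj_centralizer, cj_eq_self_of_normal]
  have hHy : ∀ g ∈ Nm(M), ∀ L, Hy L → Hy cj(g, L) := fun g hg L ⟨a, b, c⟩ =>
    ⟨cj_le_of_mem a hg, by rw [← b, ← relIndex_cj g L M, cj_eq_self_iff.2 hg], by rwa [← hcj g, Ne, cj_eq_bot_iff]⟩
  have hle : ∀ L L', Hy L → Hy L' → L ≠ L' → V ⊓ Ct(L) ≤ ⁅V, L'⁆ :=
    fun L L' a b d => inf_Ct_le_commutator_of_ne hM hKV hco h0 a.1 b.1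
      (sup_eq_of_relIndex (elem_isP hM) a.1 a.2.1 b.1 b.2.1 d)
  have hU : ∀ L, Hy L → M ⊓ Ct(V ⊓ Ct(L)) = L := fun L a => le_antisymm (fun x hx => by_contra fun e =>
    a.2.2 (eq_bot_iff.2 (h0 ▸ le_inf inf_le_left (by
      rw [← Solv.sup_zpowers_eq_of_relIndex_prime a.1 (a.2.1 ▸ hq.out) hx.1 e, centralizer_sup]
      exact le_inf inf_le_right (le_Ct_comm.1 (zpowers_le.2 hx.2))))))
    (le_inf a.1 (le_Ct_comm.1 inf_le_right))
  have hN : ∀ L, Hy L → ∀ g ∈ Nm(M), g ∈ Nm(V ⊓ Ct(L)) → g ∈ Nm(L) := fun L a g b c => hU L a ▸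
    le_normalizer_inf (zpowers_le.2 b) (le_normalizer_centralizer (zpowers_le.2 c)) (mem_zpowers g)
  have hF : ∀ L, Hy L → ∀ R, R ≤ A → (Nat.card R).Prime → R ≤ Nm(L) → V ⊓ Ct(L) ⊓ Ct(R) = ⊥ → ⁅M, R⁆ ≤ L :=
    fun L a R b c d e => le_trans (le_inf (commutator_le_left_of_le_normalizer (b.trans hA))
      (commutator_le_Ct_of_nf ((elem_isP hV).to_le inf_le_left) (h.sol_all _) (b.trans hA) (hKn L a.1)
        (le_normalizer_inf le_normalizer_of_normal (le_normalizer_centralizer d)) c (h.coprime b hMG) hMr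
        ((h.coprime b hVG).of_dvd_right hr) (.inl hM.1) e)) (hU L a).le
  have hS : ∀ Y : Subgroup X, ¬ S ≤ Y → ∀ s ∈ S, s ≠ 1 → s ∉ Y := fun Y a s b c d =>
    a ((el_one_iff.2 h.cS).eq_zpowers b c ▸ zpowers_le.2 d)
  have claim : ∀ L, Hy L → ⁅M, S⁆ ≤ L := fun L a => by
    by_cases c1 : S ≤ Nm(L)
    · obtain ⟨t, t1, t2⟩ := h.exists_t
      by_cases c2 : A ≤ Nm(L)
      · have hq' : M ⊔ A ≤ Nm(L) := sup_le (hML L a.1) c2
        have b := le_Ct_of_isCyclic (C := img hq' M) (isCyclic_of_prime_card (p := u)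
          ((card_img le_sup_left).trans a.2.1)) (img_le_normalizer (h.le.trans hA)) (img_le_normalizer hA)
        have b1 : ⁅S, A⁆ ≤ S := commutator_le_left_of_le_normalizer h.nS
        rw [← img_commutator (h.le.trans le_sup_right) le_sup_right, img_le_centralizer_iff
          (b1.trans (h.le.trans le_sup_right)) le_sup_left] at b
        rw [commutator_comm]
        refine (commutator_mono (by_contra fun e => h.nc (le_Ct_comm.1 (commutator_eq_bot_iff_le.1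
          (eq_bot_iff.2 fun s hs => by_contra fun f => hS _ e s (b1 hs) f hs)))) le_rfl).trans b
      refine hF L a S h.le h.pS c1 (eq_bot_iff.2 fun w hw => (hind L a.1).le ⟨?_, hw.1.2⟩)
      refine mem_of_conj_mem (Y := V ⊓ Ct(S)) (comm_iff_le.2 (inf_le_left.trans ((elem_le_Ct hV).trans
        (centralizer_mono inf_le_left)))) (h.nCt le_normalizer_of_normal t1) ⟨hw.1.1, hw.2⟩
        (h.inf_C1 t1 t2 (inf_le_inf_right _ hVG)) fun x b c => ?_
      have b1 := zpowers_le.2 t1 b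
      exact hle _ _ (hHy x (hA b1) L a) a (fun e => c2 (h.sup_eq b1 (h.not_mem t1 t2 b c) ▸
        sup_le c1 (zpowers_le.2 (cj_eq_self_iff.1 e)))) (hcj x L ▸ conj_mem_cj.2 hw.1)
    exfalso
    by_cases c2 : ∃ s ∈ S, s ≠ 1 ∧ ∃ g ∈ G ⊓ Nm(M), cj(s, L) = cj(g, L)
    · obtain ⟨s, s1, s2, g, hg, e⟩ := c2
      obtain ⟨t, t1, t2, e2, e3⟩ := h.exists_fpf (Z := ⁅V, L⁆) hVG hV.1 (inf_le_left (b := Ct(L)))
        (fun b hb => (em (cj(b, L) = L)).imp (fun f => cj_eq_self_iff.1 (by rw [hcj, f])) fun f =>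
          hcj b L ▸ hle _ _ (hHy b (hA hb) L a) a f)
        (eq_bot_iff.2 (hind L a.1 ▸ le_inf inf_le_right (inf_le_left.trans inf_le_right)))
        (fun s b c => mt (hN L a s (hA (h.le b))) (hS _ c1 s b c)) a.2.2
      have b1 := zpowers_le.2 (hN L a _ (hA t1) e2)
      have := relIndex_eq_one.2 (h.le_of_actKer hMG hA t1 t2 s1 s2 (le_actKer_iff.2 ⟨b1, commutator_comm M _ ▸
        hF L a _ (zpowers_le.2 t1) (h.pT t1 t2) b1 (centralizer_zpowers t ▸ e3)⟩ (mem_zpowers t)) hg e)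
      exact hq.out.ne_one (a.2.1.symm.trans this)
    set H := G ⊓ Nm(M) with hH
    have b0 : A ≤ Nm(H) := le_normalizer_inf le_normalizer_of_normal (le_normalizer_normalizer hA)
    set W := V ⊓ Ct(L) ⊔ ⁅V ⊓ Ct(L), H⁆ with hW
    set Z := sSup {U | ∃ L', Hy L' ∧ (¬ ∃ g ∈ H, L' = cj(g, L)) ∧ U = V ⊓ Ct(L')} with hZ
    have b1 : W ≤ V := sup_commutator_le inf_le_left le_normalizer_of_normal
    have b2 : H ≤ Nm(W) := le_normalizer_sup_commutator _ _
    have b6 : H ≤ Nm(Z) := le_normalizer_sSup (by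
      rintro g hg _ ⟨L', d, d', rfl⟩
      exact ⟨_, hHy g hg.2 L' d, fun ⟨k, hk, e⟩ => d' ⟨g⁻¹ * k, mul_mem (inv_mem hg) hk, by
        rw [cj_mul, ← e, cj_inv_cj]⟩, hcj g L'⟩)
    have b7 : ∀ Y, Y ≤ V → H ≤ Nm(Y) → G ≤ Nm(Y) := fun Y a b =>
      hG.trans (sup_le ((elem_le_Ct hV).trans ((centralizer_mono a).trans (Ct_le_Nm Y))) b)
    have b3 : ∀ b ∈ A, (¬ ∃ g ∈ H, cj(b, L) = cj(g, L)) → cj(b, W) ≤ Z := fun b hb f => by
      rw [cj_sup, cj_commutator, cj_eq_self_iff.2 (b0 hb)]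
      refine sup_commutator_le_of_forall fun g hg => le_sSup ⟨cj(g, cj(b, L)),
        hHy g hg.2 _ (hHy b (hA hb) L a), fun ⟨k, hk, e⟩ => f ⟨g⁻¹ * k, mul_mem (inv_mem hg) hk, ?_⟩, ?_⟩
      · rw [cj_mul, ← e, cj_inv_cj]
      · rw [hcj, hcj]
    have b4 : W ⊓ Z = ⊥ := by
      by_contra f
      obtain ⟨L', d1, d2, d3⟩ := exists_hyperplane hM ((le_inf hMG le_normalizer).trans (le_normalizer_inf b2 b6))
        (hco.of_dvd_right (card_dvd_of_le (inf_le_left.trans b1))) f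
        (eq_bot_iff.2 (h0 ▸ inf_le_inf_right _ (inf_le_left.trans b1)))
      have d4 : Hy L' := ⟨d1, d2, fun e => d3 (eq_bot_iff.2 (e ▸ inf_le_inf_right _ (inf_le_left.trans b1)))⟩
      refine d3 (eq_bot_iff.2 (hind L' d1 ▸ inf_le_inf_right _ ?_))
      by_cases d5 : ∃ g ∈ H, L' = cj(g, L)
      · refine inf_le_right.trans (sSup_le ?_)
        rintro _ ⟨L'', d6, d7, rfl⟩
        exact hle _ _ d6 d4 fun e => d7 (e ▸ d5)
      · exact inf_le_left.trans (sup_commutator_le_of_forall fun g hg =>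
          hcj g L ▸ hle _ _ (hHy g hg.2 L a) d4 fun e => d5 ⟨g, hg, e.symm⟩)
    have b5 : W ≠ ⊥ := fun e => a.2.2 (eq_bot_iff.2 (e ▸ le_sup_left))
    have b8 : ∀ s ∈ S, s ≠ 1 → cj(s, W) ≤ Z := fun s b c => b3 s (h.le b) fun e => c2 ⟨s, b, c, e⟩
    obtain ⟨t, t1, t2, e2, e3⟩ := h.exists_fpf hVG hV.1 b1 (fun b hb => (em _).imp
      (fun ⟨g, hg, e⟩ => cj_eq_self_iff.1 (by
        refine Eq.trans ?_ (cj_eq_self_iff.2 (b2 hg))
        simp only [hW, cj_sup, cj_commutator, hcj, e, cj_eq_self_iff.2 (b0 hb), cj_eq_self_of_mem hg]))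
      (b3 b hb)) b4 (fun s b c e => b5 (b4 ▸ (inf_eq_left.2 (cj_eq_self_iff.2 e ▸ b8 s b c)).symm)) b5
    exact hh W Z t b1 b5 (b7 W b1 b2) (b7 Z (sSup_le (by rintro _ ⟨L', -, -, rfl⟩; exact inf_le_left)) b6) b4 b8
      t1 t2 e2 e3
  have c0 : ⁅M, S⁆ ≤ M := commutator_le_left_of_le_normalizer (h.le.trans hA)
  have c1 : ⁅V, ⁅M, S⁆⁆ = ⊥ := by
    by_contra f
    have d0 : ⁅V, ⁅M, S⁆⁆ ≤ V := commutator_le_left _ _
    obtain ⟨L, d1, d2, d3⟩ := exists_hyperplane hM (le_normalizer_commutator hKV (hML _ c0))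
      (hco.of_dvd_right (card_dvd_of_le d0)) f (eq_bot_iff.2 (h0 ▸ inf_le_inf_right _ d0))
    exact d3 (eq_bot_iff.2 (hind _ c0 ▸ inf_le_inf_left _ (centralizer_mono (claim L ⟨d1, d2, fun e =>
      d3 (eq_bot_iff.2 (e ▸ inf_le_inf_right _ d0))⟩))))
  have c2 : V ⊓ Ct(S) = ⊥ := by
    refine eq_bot_iff.2 (h0 ▸ le_inf inf_le_left ?_)
    rw [← commutator_sup_Ct (h.le.trans hA) (h.coprime h.le hMG) (.inr (h.sol_all _)), centralizer_sup]
    exact le_inf (inf_le_left.trans (commutator_eq_bot_iff_le_centralizer.1 c1))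
      (Solv.le_centralizer_of_nilpotent_of_coprime h.nilp (inf_le_inf_right _ hVG) (inf_le_inf_right _ hMG)
        ((hco.symm.of_dvd_left (card_dvd_of_le inf_le_left)).of_dvd_right (card_dvd_of_le inf_le_left)))
  have c3 := chief_le_Ct_of_nf hc (elem_isP hV) h.sol h.pS (h.coprime h.le le_rfl) (h.nf le_rfl) c2
  exact hc.lt.ne' (h0 ▸ (inf_eq_left.2 (le_Ct_comm.1 (h1.trans c3))).symm)

end PQH

theorem PQH.nilpotent {p q : ℕ} (n : ℕ) : ∀ {X : Type u} [Group X] [Finite X] {G A S D : Subgroup X},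
    Nat.card G = n → PQH G A S p q → D.Normal → D ≤ G → ⁅D, G⁆ = D → Group.IsNilpotent D := by
  induction n using Nat.strong_induction_on with
  | _ n ih =>
  intro X _ _ G A S D hn h _ hG hD
  have := h.nor
  have IH : ∀ (N : Subgroup X) [N.Normal], N ≤ G → N ≠ ⊥ →
      Group.IsNilpotent (D.map (QuotientGroup.mk' N)) := fun N _ a b => by
    have c := Solv.card_map_mk N G
    rw [inf_eq_right.2 a, hn] at c
    exact ih _ (c ▸ lt_mul_of_one_lt_right Nat.card_pos ((one_lt_card_iff_ne_bot N).2 b)) rfl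
      (h.map (QuotientGroup.mk'_surjective N) ((QuotientGroup.ker_mk' N).le.trans a))
      (Normal.map ‹_› _ (QuotientGroup.mk'_surjective N)) (map_mono hG) (by rw [← map_commutator, hD])
  by_contra hc
  have h0 : D ≠ ⊥ := fun e => hc (e ▸ Group.isNilpotent_of_subsingleton)
  obtain ⟨r, hr, V, a1, a2, a3, a4⟩ := exists_elem_invariant (X := ⊤) le_normalizer_of_normal (h.sol_all _) h0
  have := Fact.mk hr
  have hVn : V.Normal := normal_iff_top_le_normalizer.2 a4.nU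
  have k : ∀ (N : Subgroup X) [N.Normal], N ≤ G → N ≠ ⊥ → V ≤ N := fun N _ a b =>
    ((a4.sup_inf le_normalizer_of_normal).resolve_left fun e => hc (isNilpotent_of_two _ _ (by
      rw [QuotientGroup.ker_mk', QuotientGroup.ker_mk']; exact le_bot_iff.1 e) (IH V (a1.trans hG) a2)
      (IH N a b))).ge.trans (sup_le bot_le inf_le_right)
  have hRn : (Res r D).Normal := normal_iff_top_le_normalizer.2 (le_normalizer_ResPi le_normalizer_of_normal)
  have hRG := (Res_le r D).trans hG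
  have hVR := k _ hRG fun e => hc (Res_eq_bot_iff.1 e).isNilpotent
  obtain ⟨Q, hQ, hAQ⟩ := exists_invariant_hallIn (K := Res r D) le_normalizer_of_normal
    (h.coprime le_rfl hRG) (h.sol_all _) {r}ᶜ
  have hVH : HallIn {r} V (Res r D) := hallIn_mk hVR (isPi_of_isPGroup (elem_isP a3) rfl) (by
    have := IH V (a1.trans hG) a2
    have b := hasNPC_iff_coprime.1 (Transfer.hasNPC_of_nilpotent (p := r) (G := D.map (QuotientGroup.mk' V)))
    rw [← map_Res, Solv.card_map_mk_eq_relIndex] at b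
    exact piN_compl_singleton.2 b)
  have e1 := hVH.sup_eq hQ
  have e2 := hQ.frattini (h.sol_all _) hRG le_normalizer_of_normal
  have e3 : G ≤ V ⊔ G ⊓ Nm(Q) := e2.ge.trans (sup_le (e1.ge.trans (sup_le_sup_left
    (le_inf (hQ.le.trans hRG) le_normalizer) _)) le_sup_right)
  have e4 : ∀ N : Subgroup X, V ≤ Nm(N) → Nm(Q) ≤ Nm(N) → N.Normal := fun N a b => normal_iff_top_le_normalizer.2
    (h.gen.ge.trans (sup_le (e3.trans (sup_le a (inf_le_right.trans b))) (hAQ.trans b)))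
  have e5 : Q ⊓ Ct(V) = ⊥ := by
    have := e4 (Q ⊓ Ct(V)) ((le_Ct_comm.1 inf_le_right).trans (Ct_le_Nm _))
      (le_normalizer_inf le_rfl (le_normalizer_centralizer le_normalizer_of_normal))
    by_contra e
    exact a2 (eq_bot_iff.2 (hVH.inf_eq_bot hQ ▸ le_inf le_rfl
      ((k _ (inf_le_left.trans (hQ.le.trans hRG)) e).trans inf_le_left)))
  have e6 : Q ≠ ⊥ := by
    rintro rfl
    rw [sup_bot_eq] at e1
    exact a2 (by rw [e1, ← Res_Res, ← e1, Res_eq_bot_iff]; exact elem_isP a3)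
  have e7 : Q ≤ ⁅Q, G ⊓ Nm(Q)⁆ := by
    have b1 : ⁅Q, G ⊓ Nm(Q)⁆ ≤ Q := commutator_le_left_of_le_normalizer inf_le_right
    have := e4 (V ⊔ ⁅Q, G ⊓ Nm(Q)⁆) (le_sup_left.trans le_normalizer) (le_normalizer_sup le_normalizer_of_normal
      (le_normalizer_commutator le_rfl (le_normalizer_inf le_normalizer_of_normal le_normalizer)))
    have b2 : ⁅Res r D, G⁆ ≤ V ⊔ ⁅Q, G ⊓ Nm(Q)⁆ := (commutator_mono e1.ge e3).trans
      (commutator_sup_left_le le_normalizer_of_normal le_normalizer_of_normal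
        ((commutator_le_left _ _).trans le_sup_left) (commutator_sup_right_le le_normalizer_of_normal
          le_normalizer_of_normal ((commutator_le_right _ _).trans le_sup_left) le_sup_right))
    have b3 := IH _ (sup_le (a1.trans hG) (b1.trans (hQ.le.trans hRG))) fun e => a2 (eq_bot_iff.2 (e ▸ le_sup_left))
    set f := QuotientGroup.mk' (V ⊔ ⁅Q, G ⊓ Nm(Q)⁆)
    have b4 : G.map f ≤ Nm(Op r (D.map f)) := le_normalizer_Op (map_le_normalizer f le_normalizer_of_normal)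
    have b5 : D.map f ≤ Op r (D.map f) := by
      conv_lhs => rw [← hD, map_commutator, ← Op_sup_Opp_of_isNilpotent (p := r) b3]
      refine commutator_sup_left_le le_normalizer ((Opp_le _ _).trans ((map_mono hG).trans b4))
        (commutator_le_left_of_le_normalizer b4) ?_
      rw [← hasNPC_iff_eq.1 Transfer.hasNPC_of_nilpotent, ← map_Res, ← map_commutator,
        (Subgroup.map_eq_bot_iff _).2 (b2.trans (QuotientGroup.ker_mk' _).ge)]
      exact bot_le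
    have b6 := (hQ.le.trans (isPGroup_map_iff.1 ((isPGroup_Op _ _).to_le b5))).trans (QuotientGroup.ker_mk' _).le
    intro x hx
    obtain ⟨v, hv, y, hy, rfl⟩ := (mem_sup_of_le_normalizer' le_normalizer_of_normal).1 (b6 hx)
    rwa [mem_bot.1 ((hVH.inf_eq_bot hQ).le ⟨hv, (mul_mem_cancel_right (b1 hy)).1 hx⟩), one_mul]
  obtain ⟨u, hu, M, b1, b2, b3, b4⟩ := exists_elem_invariant (X := Nm(Q)) le_rfl (h.sol_all _) e6
  have := Fact.mk hu
  have := e4 (V ⊓ Ct(M)) (((elem_le_Ct a3).trans (centralizer_mono inf_le_left)).trans (Ct_le_Nm _))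
    (le_normalizer_inf le_normalizer_of_normal (le_normalizer_centralizer b4.nU))
  exact h.core a3 a4 (a1.trans hG) b3 (fun e => hQ.mem_of_dvd hu ((dvd_card_of_isPGroup (elem_isP b3) b2).trans
    (card_dvd_of_le b1)) e) (b1.trans (hQ.le.trans ((Res_le _ _).trans (h.le_commutator hG hD)))) (hAQ.trans b4.nU)
    (e3.trans (sup_le_sup_left (inf_le_inf_left _ b4.nU) _)) (by_contra fun e => b2 (eq_bot_iff.2
      (e5 ▸ le_inf b1 (le_Ct_comm.1 ((k _ (inf_le_left.trans (a1.trans hG)) e).trans inf_le_right)))))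
    fun W Z t => h.hard a3 a4 (a1.trans hG) (hQ.le.trans hRG) (isPi_compl_singleton.1 hQ.isPi) hAQ e5 e6 e7

end Cfsg.Agent.Ez
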