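import Mathlib

/-!
Explicit permutation groups with kernel-checked order statistics.
-/

set_option autoImplicit false
set_option linter.unusedSectionVars false
set_option linter.unusedVariables false
set_option linter.style.haveILetI false

namespace Cfsg.Agent.Ez.OT

open scoped commutatorElement

def ap : List ℕ → ℕ → ℕ → ℕ
  | [], _, d => d
  | x :: _, 0, _ => x
  | _ :: l, i + 1, d => ap l i d

def mu (a b : List ℕ) : List ℕ := b.map fun i => ap a i i

theorem ap_eq (l : List ℕ) (i d : ℕ) : ap l i d = l.getD i d := by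
  induction l generalizing i with
  | nil => rfl
  | cons x l ih => cases i with
    | zero => rfl
    | succ i => exact ih i

def LM (n : ℕ) : Type := {l : List ℕ // l.length = n}

instance (n : ℕ) : Monoid (LM n) where
  mul a b := ⟨mu a.1 b.1, by simp [mu, b.2]⟩
  one := ⟨List.range n, by simp⟩
  mul_assoc a b c := Subtype.ext (by
    show mu (mu a.1 b.1) c.1 = mu a.1 (mu b.1 c.1)
    simp only [mu, List.map_map]
    refine List.map_congr_left fun i _ => ?_
    simp only [ap_eq, Function.comp]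
    by_cases h : i < n
    · rw [List.getD_eq_getElem _ _ (by simpa [b.2] using h), List.getElem_map,
        List.getD_eq_getElem b.1 i (by simpa [b.2] using h)]
    · rw [List.getD_eq_default _ _ (by simpa [b.2] using h), List.getD_eq_default b.1 i (by simpa [b.2] using h),
        List.getD_eq_default a.1 i (by simpa [a.2] using h)])
  one_mul b := Subtype.ext (by
    show mu (List.range n) b.1 = b.1
    refine (List.map_congr_left fun i _ => ?_).trans (List.map_id _)
    rw [ap_eq]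
    by_cases h : i < n
    · rw [List.getD_eq_getElem _ _ (by simpa using h)]; simp
    · rw [List.getD_eq_default _ _ (by simpa using h)]; rfl)
  mul_one a := Subtype.ext (by
    show mu a.1 (List.range n) = a.1
    refine List.ext_getElem (by simp [mu, a.2]) fun i h1 h2 => ?_
    simp only [mu, List.getElem_map, List.getElem_range, ap_eq]
    exact List.getD_eq_getElem _ _ h2)

variable {n : ℕ}

/-- the underlying list -/
def vl (u : (LM n)ˣ) : List ℕ := u.1.1

theorem vl_mul (u v : (LM n)ˣ) : vl (u * v) = mu (vl u) (vl v) := rfl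
theorem vl_one : vl (1 : (LM n)ˣ) = List.range n := rfl
theorem vl_inj : Function.Injective (vl (n := n)) := fun _ _ h => Units.ext (Subtype.ext h)

def pw (e g : List ℕ) : ℕ → List ℕ
  | 0 => e
  | k + 1 => mu g (pw e g k)

theorem vl_pow (u : (LM n)ˣ) (k : ℕ) : vl (u ^ k) = pw (List.range n) (vl u) k := by
  induction k with
  | zero => rfl
  | succ k ih => rw [pow_succ', vl_mul, ih]; rfl

theorem exists_unit {g : List ℕ} (h1 : g.length = n) (h2 : pw (List.range n) g 84 = List.range n) :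
    ∃ u : (LM n)ˣ, vl u = g := by
  let x : LM n := ⟨g, h1⟩
  have : ∀ k : ℕ, (x ^ k : LM n).1 = pw (List.range n) g k := fun k => by
    induction k with
    | zero => rfl
    | succ k ih => rw [pow_succ']; exact congrArg (mu g) ih
  exact ⟨Units.ofPowEqOne x 84 (Subtype.ext ((this 84).trans h2)) (by norm_num), rfl⟩

/-- `L` lists the set `S` -/
def Rs (S : Set (LM n)ˣ) (L : List (List ℕ)) : Prop :=
  (∀ u, u ∈ S ↔ vl u ∈ L) ∧ ∀ x ∈ L, ∃ u : (LM n)ˣ, vl u = x

def cos (g : List ℕ) : ℕ → List (List ℕ) → List (List ℕ)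
  | 0, _ => []
  | m + 1, L => L ++ cos g m (L.map (mu g))

theorem Rs.map {S : Set (LM n)ˣ} {L : List (List ℕ)} (h : Rs S L) (u : (LM n)ˣ) :
    Rs {v | ∃ s ∈ S, v = u * s} (L.map (mu (vl u))) := by
  refine ⟨fun v => ⟨?_, fun hv => ?_⟩, fun x hx => ?_⟩
  · rintro ⟨s, hs, rfl⟩
    exact List.mem_map.2 ⟨_, (h.1 s).1 hs, rfl⟩
  · obtain ⟨y, hy, e⟩ := List.mem_map.1 hv
    obtain ⟨s, rfl⟩ := h.2 y hy
    exact ⟨s, (h.1 s).2 hy, vl_inj e.symm⟩
  · obtain ⟨y, hy, rfl⟩ := List.mem_map.1 hx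
    obtain ⟨s, rfl⟩ := h.2 y hy
    exact ⟨u * s, rfl⟩

theorem Rs.cos (u : (LM n)ˣ) (m : ℕ) : ∀ {S : Set (LM n)ˣ} {L : List (List ℕ)}, Rs S L →
    Rs {v | ∃ a < m, ∃ s ∈ S, v = u ^ a * s} (cos (vl u) m L) := by
  induction m with
  | zero => exact fun _ => ⟨fun v => by simp [OT.cos], fun x hx => by simp [OT.cos] at hx⟩
  | succ m ih =>
    intro S L h
    have h2 := ih (h.map u)
    refine ⟨fun v => ?_, fun x hx => (List.mem_append.1 hx).elim (h.2 x) (h2.2 x)⟩
    rw [OT.cos, List.mem_append, ← h.1, ← h2.1]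
    constructor
    · rintro ⟨_ | a, ha, s, hs, rfl⟩
      · exact Or.inl (by simpa using hs)
      · exact Or.inr ⟨a, by omega, _, ⟨s, hs, rfl⟩, by rw [pow_succ, mul_assoc]⟩
    · rintro (hv | ⟨a, ha, _, ⟨s, hs, rfl⟩, rfl⟩)
      · exact ⟨0, by omega, v, hv, by simp⟩
      · exact ⟨a + 1, by omega, s, hs, by rw [pow_succ, mul_assoc]⟩

def enum (n : ℕ) : List (List ℕ × ℕ) → List (List ℕ)
  | [] => [List.range n]
  | g :: gs => cos g.1 g.2 (enum n gs)

def chk (n : ℕ) : List (List ℕ × ℕ) → Bool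
  | [] => true
  | g :: gs => chk n gs && g.1.length == n && pw (List.range n) g.1 84 == List.range n && 0 < g.2 &&
      (enum n gs).elem (pw (List.range n) g.1 g.2) && (enum n gs).all fun h => (enum n (g :: gs)).elem (mu h g.1)

def chkN (n : ℕ) : List (List ℕ × ℕ) → Bool
  | [] => true
  | g :: gs => chkN n gs && (enum n gs).all fun h => ((enum n gs).map (mu g.1)).elem (mu h g.1)

theorem exists_sub (gs : List (List ℕ × ℕ)) (h : chk n gs = true) :
    ∃ H : Subgroup (LM n)ˣ, Rs (H : Set (LM n)ˣ) (enum n gs) ∧ (chkN n gs = true → Group.IsSolvable H) := by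
  induction gs with
  | nil =>
    refine ⟨⊥, ⟨fun u => ?_, fun x hx => ⟨1, (List.mem_singleton.1 hx).symm⟩⟩, fun _ =>
      Group.isSolvable_of_comm fun a b => Subsingleton.elim _ _⟩
    rw [enum, List.mem_singleton, ← vl_one, vl_inj.eq_iff]; rfl
  | cons g gs ih =>
    simp only [chk, Bool.and_eq_true, beq_iff_eq, decide_eq_true_eq, List.elem_eq_mem, List.all_eq_true] at h
    obtain ⟨⟨⟨⟨⟨h0, h1⟩, h2⟩, h3⟩, h4⟩, h5⟩ := h
    obtain ⟨H, hH, hs⟩ := ih h0
    obtain ⟨u, hu⟩ := exists_unit h1 h2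
    have hc := hH.cos u g.2
    rw [hu] at hc
    have u84 : u ^ 84 = 1 := vl_inj (by rw [vl_pow, hu, h2, vl_one])
    have um : u ^ g.2 ∈ H := (hH.1 _).2 (by rwa [vl_pow, hu])
    have k2 : ∀ b : ℕ, ∀ s ∈ H, ∃ a : ℕ, ∃ t ∈ H, s * u ^ b = u ^ a * t := fun b => by
      induction b with
      | zero => exact fun s hs => ⟨0, s, hs, by simp⟩
      | succ b ih =>
        intro s hs
        obtain ⟨a, -, t, ht, e⟩ := (hc.1 (s * u)).2 (by rw [vl_mul, hu]; exact h5 _ ((hH.1 s).1 hs))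
        obtain ⟨c, r, hr, e'⟩ := ih t ht
        exact ⟨a + c, r, hr, by rw [pow_succ', ← mul_assoc, e, mul_assoc, e', pow_add, mul_assoc]⟩
    let K : Subgroup (LM n)ˣ :=
      { carrier := {v | ∃ a : ℕ, ∃ s ∈ H, v = u ^ a * s}
        one_mem' := ⟨0, 1, one_mem _, by simp⟩
        mul_mem' := by
          rintro _ _ ⟨a, s, hs, rfl⟩ ⟨b, t, ht, rfl⟩
          obtain ⟨c, r, hr, e⟩ := k2 b s hs
          exact ⟨a + c, r * t, mul_mem hr ht, by
            rw [mul_assoc, ← mul_assoc s, e, pow_add, mul_assoc, mul_assoc]⟩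
        inv_mem' := by
          rintro _ ⟨a, s, hs, rfl⟩
          obtain ⟨c, r, hr, e⟩ := k2 (83 * a) s⁻¹ (inv_mem hs)
          refine ⟨c, r, hr, ?_⟩
          rw [← e, mul_inv_rev, mul_right_inj, inv_eq_iff_mul_eq_one, ← pow_add,
            show a + 83 * a = 84 * a by ring, pow_mul, u84, one_pow] }
    refine ⟨K, ⟨fun v => Iff.trans ⟨?_, fun ⟨a, _, e⟩ => ⟨a, e⟩⟩ (hc.1 v), hc.2⟩, fun hN => ?_⟩
    · rintro ⟨a, s, hs, rfl⟩
      exact ⟨a % g.2, Nat.mod_lt _ h3, (u ^ g.2) ^ (a / g.2) * s, mul_mem (pow_mem um _) hs, by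
        rw [← mul_assoc, ← pow_mul, ← pow_add, Nat.mod_add_div]⟩
    simp only [chkN, Bool.and_eq_true, List.elem_eq_mem, List.all_eq_true, decide_eq_true_eq] at hN
    haveI := hs hN.1
    have n1 : ∀ b : ℕ, ∀ s ∈ H, (u ^ b)⁻¹ * s * u ^ b ∈ H := fun b => by
      induction b with
      | zero => simp
      | succ b ih =>
        intro s hs
        obtain ⟨t, ht, e⟩ := ((hH.map u).1 (s * u)).2 (by rw [vl_mul, hu]; exact hN.2 _ ((hH.1 s).1 hs))
        rw [pow_succ', mul_inv_rev, mul_assoc, mul_assoc, ← mul_assoc s, e, mul_assoc, inv_mul_cancel_left,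
          ← mul_assoc]
        exact ih t ht
    have hHK : H ≤ K := fun s hs => ⟨0, s, hs, by simp⟩
    haveI : (H.subgroupOf K).Normal := ⟨fun s hs x => by
      obtain ⟨a, t, ht, e⟩ := K.inv_mem x.2
      have : (x : (LM n)ˣ) = (u ^ a * t)⁻¹ := by rw [← e, inv_inv]
      rw [Subgroup.mem_subgroupOf, Subgroup.coe_mul, Subgroup.coe_mul, Subgroup.coe_inv, this, inv_inv]
      convert mul_mem (mul_mem (inv_mem ht) (n1 a s hs)) ht using 1
      group⟩
    refine (Group.isSolvable_iff_subgroup_quotient (H.subgroupOf K)).2 ⟨Group.isSolvable_of_surjective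
      (f := (Subgroup.subgroupOfEquivOfLe hHK).symm.toMonoidHom) (MulEquiv.surjective _),
      Group.isSolvable_of_comm fun x y => ?_⟩
    have k3 : ∀ x : K ⧸ H.subgroupOf K, ∃ a : ℕ, x = (QuotientGroup.mk ⟨u, 1, 1, one_mem _, by simp⟩) ^ a :=
      fun x => by
        obtain ⟨⟨_, a, s, hs, rfl⟩, rfl⟩ := QuotientGroup.mk_surjective x
        refine ⟨a, Eq.symm ?_⟩
        rw [← QuotientGroup.mk_pow, QuotientGroup.eq, Subgroup.mem_subgroupOf]
        simpa using hs
    obtain ⟨a, rfl⟩ := k3 x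
    obtain ⟨b, rfl⟩ := k3 y
    exact (Commute.pow_pow_self _ a b).eq

def oa (e g : List ℕ) : ℕ → List ℕ → ℕ → ℕ
  | 0, _, _ => 0
  | f + 1, y, k => if y == e then k else oa e g f (mu g y) (k + 1)

theorem orderOf_eq_oa (u : (LM n)ˣ) (f : ℕ) : ∀ k, 0 < k → (∀ j, j < k → 0 < j → u ^ j ≠ 1) →
    oa (List.range n) (vl u) f (vl (u ^ k)) k ≠ 0 → orderOf u = oa (List.range n) (vl u) f (vl (u ^ k)) k := by
  induction f with
  | zero => exact fun _ _ _ h => absurd rfl h
  | succ f ih =>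
    intro k hk h1
    rw [oa]
    split_ifs with h
    · exact fun _ => (orderOf_eq_iff hk).2 ⟨vl_inj (beq_iff_eq.1 h), h1⟩
    · rw [← vl_mul, ← pow_succ']
      refine ih (k + 1) k.succ_pos fun j h2 h3 e => ?_
      rcases (Nat.lt_succ_iff.1 h2).lt_or_eq with h4 | rfl
      exacts [h1 j h4 h3 e, h (by rw [e, vl_one]; simp)]

def Ds : List ℕ := [1, 2, 3, 4, 6, 7, 12, 14, 21, 28, 42, 84]

/-- a group of exponent dividing 84 with prescribed numbers of solutions of `x ^ d = 1` -/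
def Ex (P : Prop → Prop) (v : List ℕ) : Prop := ∃ (G : Type) (_ : Group G) (_ : Finite G),
  P (Group.IsSolvable G) ∧ (∀ g : G, g ^ 84 = 1) ∧ Ds.map (fun d => Nat.card {g : G // g ^ d = 1}) = v

def tally (os : List ℕ) : List ℕ := Ds.map fun d => os.countP fun o => d % o == 0

def ords (n : ℕ) (L : List (List ℕ)) : List ℕ := L.map fun x => oa (List.range n) x 84 x 1

def nd : List (List ℕ) → Bool
  | [] => true
  | x :: L => !L.elem x && nd L

theorem nodup_of_nd : ∀ {L : List (List ℕ)}, nd L = true → L.Nodup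
  | [], _ => List.nodup_nil
  | x :: L, h => by
    simp only [nd, Bool.and_eq_true, Bool.not_eq_true', List.elem_eq_mem, decide_eq_false_iff_not] at h
    exact List.nodup_cons.2 ⟨h.1, nodup_of_nd h.2⟩

theorem ex_of {H : Subgroup (LM n)ˣ} {L : List (List ℕ)} (h : Rs (H : Set (LM n)ˣ) L) (h1 : nd L = true)
    (h2 : ((ords n L).all fun o => 84 % o == 0) = true) {P : Prop → Prop} (hP : P (Group.IsSolvable H)) :
    Ex P (tally (ords n L)) := by
  classical
  have h3 : ∀ u ∈ H, orderOf u = oa (List.range n) (vl u) 84 (vl u) 1 ∧ orderOf u ∣ 84 := fun u hu => by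
    have h4 := beq_iff_eq.1 (List.all_eq_true.1 h2 _ (List.mem_map.2 ⟨_, (h.1 u).1 hu, rfl⟩))
    have := orderOf_eq_oa u 84 1 one_pos (fun j a b => by omega) (by
      rw [pow_one]; intro e; rw [e] at h4; simp at h4)
    rw [pow_one] at this
    exact ⟨this, this ▸ Nat.dvd_of_mod_eq_zero h4⟩
  refine ⟨H, inferInstance, Finite.of_injective (fun u : H => (⟨vl u.1, (h.1 u).1 u.2⟩ : {x // x ∈ L}))
    fun a b e => Subtype.ext (vl_inj (Subtype.mk.inj e)), hP, fun g => Subtype.ext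
      (orderOf_dvd_iff_pow_eq_one.1 (h3 g g.2).2), List.map_congr_left fun d _ => ?_⟩
  rw [ords, List.countP_map, List.countP_eq_length_filter, ← List.toFinset_card_of_nodup
    ((nodup_of_nd h1).filter _), ← Fintype.card_coe, ← Nat.card_eq_fintype_card]
  have h5 : ∀ u ∈ H, u ^ d = 1 ↔ d % oa (List.range n) (vl u) 84 (vl u) 1 = 0 := fun u hu => by
    rw [← (h3 u hu).1, ← Nat.dvd_iff_mod_eq_zero, orderOf_dvd_iff_pow_eq_one]
  refine Nat.card_eq_of_bijective (fun u => ⟨vl u.1.1, ?_⟩) ⟨fun a b e => Subtype.ext (Subtype.ext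
    (vl_inj (Subtype.mk.inj e))), fun ⟨x, hx⟩ => ?_⟩
  · simpa [(h.1 _).1 u.1.2] using (h5 _ u.1.2).1 (congrArg Subtype.val u.2)
  · simp only [List.mem_toFinset, List.mem_filter, Function.comp, beq_iff_eq] at hx
    obtain ⟨u, rfl⟩ := h.2 x hx.1
    exact ⟨⟨⟨u, (h.1 u).2 hx.1⟩, Subtype.ext ((h5 u ((h.1 u).2 hx.1)).2 hx.2)⟩, rfl⟩

def full (n : ℕ) (gs : List (List ℕ × ℕ)) (v : List ℕ) : Bool :=
  chk n gs && nd (enum n gs) && ((ords n (enum n gs)).all fun o => 84 % o == 0) &&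
    tally (ords n (enum n gs)) == v

theorem ex_any {gs : List (List ℕ × ℕ)} {v : List ℕ} (h : full n gs v = true) : Ex (fun _ => True) v := by
  simp only [full, Bool.and_eq_true, beq_iff_eq] at h
  obtain ⟨H, h1, -⟩ := exists_sub gs h.1.1.1
  exact h.2 ▸ ex_of h1 h.1.1.2 h.1.2 trivial

theorem ex_sol {gs : List (List ℕ × ℕ)} {v : List ℕ} (h : full n gs v = true) (hN : chkN n gs = true) :
    Ex id v := by
  simp only [full, Bool.and_eq_true, beq_iff_eq] at h
  obtain ⟨H, h1, h2⟩ := exists_sub gs h.1.1.1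
  exact h.2 ▸ ex_of h1 h.1.1.2 h.1.2 (h2 hN)

theorem ex_not {gs : List (List ℕ × ℕ)} {v : List ℕ} (h : full n gs v = true) (x y z a b : List ℕ)
    (hN : ([x, y, z, a, b].all fun t => (enum n gs).elem t) = true) (e0 : x ≠ List.range n)
    (e1 : mu a y = mu y x) (e2 : mu b z = mu z x) (e3 : mu x (mu b a) = mu a b) : Ex Not v := by
  simp only [full, Bool.and_eq_true, beq_iff_eq] at h
  obtain ⟨H, h1, h2⟩ := exists_sub gs h.1.1.1
  refine h.2 ▸ ex_of h1 h.1.1.2 h.1.2 ?_
  simp only [List.all_cons, Bool.and_eq_true, List.elem_eq_mem, decide_eq_true_eq] at hN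
  have k : ∀ {t}, t ∈ enum n gs → ∃ u : H, vl u.1 = t := fun ht => by
    obtain ⟨u, rfl⟩ := h1.2 _ ht
    exact ⟨⟨u, (h1.1 u).2 ht⟩, rfl⟩
  obtain ⟨x, rfl⟩ := k hN.1
  obtain ⟨y, rfl⟩ := k hN.2.1
  obtain ⟨z, rfl⟩ := k hN.2.2.1
  obtain ⟨a, rfl⟩ := k hN.2.2.2.1
  obtain ⟨b, rfl⟩ := k hN.2.2.2.2.1
  have f1 : a = y * x * y⁻¹ := eq_mul_inv_of_mul_eq (Subtype.ext (vl_inj e1))
  have f2 : b = z * x * z⁻¹ := eq_mul_inv_of_mul_eq (Subtype.ext (vl_inj e2))
  have f3 : x * (b * a) = a * b := Subtype.ext (vl_inj e3)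
  refine not_isSolvable_of_mem_derivedSeries (g := x) (fun e => e0 (by rw [e]; rfl)) fun m => ?_
  induction m with
  | zero => trivial
  | succ m ih =>
    rw [show x = ⁅a, b⁆ by rw [commutatorElement_def, ← f3]; group, derivedSeries_succ]
    exact Subgroup.commutator_mem_commutator (f1 ▸ (derivedSeries_normal _ _).conj_mem x ih y)
      (f2 ▸ (derivedSeries_normal _ _).conj_mem x ih z)

theorem Ex.mul {P Q T : Prop → Prop} {v w : List ℕ} (h : Ex P v) (h' : Ex Q w)
    (hT : ∀ a b, P a → Q b → T (a ∧ b)) : Ex T (List.zipWith (· * ·) v w) := by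
  obtain ⟨G, _, _, a1, a2, rfl⟩ := h
  obtain ⟨H, _, _, b1, b2, rfl⟩ := h'
  refine ⟨G × H, inferInstance, inferInstance, ?_, fun g => Prod.ext (a2 _) (b2 _), ?_⟩
  · convert hT _ _ a1 b1 using 1
    exact ⟨fun _ => ⟨Group.isSolvable_of_surjective (f := MonoidHom.fst G H) Prod.fst_surjective,
      Group.isSolvable_of_surjective (f := MonoidHom.snd G H) Prod.snd_surjective⟩, fun ⟨_, _⟩ => inferInstance⟩
  · rw [List.zipWith_map, List.zipWith_self]
    refine List.map_congr_left fun d _ => ?_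
    rw [← Nat.card_prod]
    exact Nat.card_congr ((Equiv.subtypeEquivRight fun g => Prod.ext_iff).trans
      (Equiv.subtypeProdEquivProd (p := fun g : G => g ^ d = 1) (q := fun g : H => g ^ d = 1)))

theorem Ex.sol {v w : List ℕ} (h : Ex id v) (h' : Ex id w) : Ex id (List.zipWith (· * ·) v w) :=
  h.mul h' fun _ _ a b => ⟨a, b⟩

theorem Ex.ns {P : Prop → Prop} {v w : List ℕ} (h : Ex Not v) (h' : Ex P w) :
    Ex Not (List.zipWith (· * ·) v w) := h.mul h' fun _ _ a _ c => a c.1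

theorem final {v : List ℕ} (h : Ex id v) (h' : Ex Not v) :
    ∃ (G : Type) (_ : Group G) (_ : Finite G) (H : Type) (_ : Group H) (_ : Finite H),
      Group.IsSolvable G ∧ ¬ Group.IsSolvable H ∧
        ∀ n : ℕ, Nat.card {g : G // orderOf g = n} = Nat.card {h : H // orderOf h = n} := by
  classical
  obtain ⟨G, _, _, a1, a2, rfl⟩ := h
  obtain ⟨H, _, _, b1, b2, e⟩ := h'
  refine ⟨G, _, ‹_›, H, _, ‹_›, a1, b1, fun n => ?_⟩
  have k1 : ∀ d, Nat.card {g : H // g ^ d = 1} = Nat.card {g : G // g ^ d = 1} := fun d => by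
    have h1 : ∀ c ∈ Nat.divisors 84, c ∈ Ds := by decide
    have := List.map_inj_left.1 e (Nat.gcd d 84) (h1 _ (Nat.mem_divisors.2 ⟨Nat.gcd_dvd_right _ _, by norm_num⟩))
    simpa only [pow_gcd_eq_one, a2, b2, and_true] using this
  haveI := Fintype.ofFinite G
  haveI := Fintype.ofFinite H
  simp only [Nat.card_eq_fintype_card, Fintype.card_subtype] at k1 ⊢
  induction n using Nat.strong_induction_on with
  | _ n ih =>
  rcases Nat.eq_zero_or_pos n with rfl | hn
  · simp [(orderOf_pos _).ne']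
  have h1 := (sum_card_orderOf_eq_card_pow_eq_one (G := H) hn.ne').trans ((by convert k1 n :
    _ = _).trans (sum_card_orderOf_eq_card_pow_eq_one (G := G) hn.ne').symm)
  rw [← Nat.cons_self_properDivisors hn.ne', Finset.sum_cons, Finset.sum_cons,
    Finset.sum_congr rfl fun d hd => (ih d (Nat.mem_properDivisors.1 hd).2).symm] at h1
  exact (Nat.add_right_cancel h1).symm

end Cfsg.Agent.Ez.OT
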