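import Cfsg.Agent.Lib.Ez.H1

/-!
A solvable and a non-solvable group with the same order type.
-/

set_option autoImplicit false
set_option maxRecDepth 100000

namespace Cfsg.Agent.Ez.OT

theorem g0 : Ex Not [1, 22, 57, 64, 78, 49, 120, 70, 105, 112, 126, 168] :=
  ex_not (n := 8) (gs := [([1, 2, 3, 4, 5, 6, 0, 7], 7), ([1, 0, 4, 7, 2, 6, 5, 3], 2), ([0, 2, 5, 3, 6, 1, 7, 4], 3), ([6, 2, 1, 5, 7, 3, 0, 4], 2), ([4, 5, 3, 2, 0, 1, 7, 6], 2)]) (by decide +kernel)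
    [6, 3, 7, 1, 5, 4, 0, 2] [2, 7, 0, 4, 3, 6, 5, 1] [2, 4, 7, 3, 5, 1, 6, 0] [1, 0, 5, 6, 7, 2, 3, 4] [7, 5, 6, 4, 3, 1, 2, 0]
    (by decide +kernel) (by decide) (by decide) (by decide) (by decide)

theorem g1 : Ex id [1, 8, 57, 8, 120, 49, 120, 56, 105, 56, 168, 168] :=
  ex_sol (n := 8) (gs := [([0, 1, 4, 5, 6, 7, 2, 3], 3), ([0, 2, 4, 6, 3, 1, 7, 5], 7), ([4, 5, 6, 7, 0, 1, 2, 3], 2), ([2, 3, 0, 1, 6, 7, 4, 5], 2), ([1, 0, 3, 2, 5, 4, 7, 6], 2)])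
    (by decide +kernel) (by decide +kernel)

theorem g2 : Ex (fun _ => True) [1, 1, 15, 1, 15, 7, 15, 7, 21, 7, 21, 21] :=
  ex_any (n := 7) (gs := [([0, 3, 4, 5, 6, 1, 2], 3), ([1, 3, 5, 2, 0, 6, 4], 7)])
    (by decide +kernel)

theorem g4 : Ex id [1, 1, 1, 1, 1, 7, 1, 7, 7, 7, 7, 7] :=
  ex_sol (n := 7) (gs := [([1, 4, 5, 6, 2, 3, 0], 7)])
    (by decide +kernel) (by decide +kernel)

theorem g5 : Ex id [1, 50, 1, 50, 50, 49, 50, 98, 49, 98, 98, 98] :=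
  ex_sol (n := 14) (gs := [([0, 6, 5, 4, 3, 2, 1, 7, 13, 12, 11, 10, 9, 8], 2), ([1, 2, 3, 4, 5, 6, 0, 7, 8, 9, 10, 11, 12, 13], 7), ([0, 1, 2, 3, 4, 5, 6, 8, 9, 10, 11, 12, 13, 7], 7)])
    (by decide +kernel) (by decide +kernel)

end Cfsg.Agent.Ez.OT
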