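import Cfsg.Agent.Lib.Ez.H1

/-!
A solvable and a non-solvable group with the same order type.
-/

set_option autoImplicit false
set_option maxRecDepth 100000

namespace Cfsg.Agent.Ez.OT

theorem g6 : Ex id [1, 44, 15, 64, 156, 7, 288, 56, 21, 112, 168, 336] :=
  ex_sol (n := 15) (gs := [([2, 3, 4, 5, 6, 7, 0, 1, 8, 9, 10, 11, 12, 13, 14], 2), ([1, 0, 7, 6, 5, 4, 3, 2, 8, 11, 14, 10, 13, 9, 12], 2), ([0, 5, 2, 7, 4, 1, 6, 3, 8, 11, 14, 10, 13, 9, 12], 6), ([4, 5, 6, 7, 0, 1, 2, 3, 9, 10, 11, 12, 13, 14, 8], 14)])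
    (by decide +kernel) (by decide +kernel)

theorem g9 : Ex (fun _ => True) [1, 44, 1, 64, 44, 7, 64, 56, 7, 112, 56, 112] :=
  ex_any (n := 15) (gs := [([2, 3, 4, 5, 6, 7, 0, 1, 8, 9, 10, 11, 12, 13, 14], 2), ([1, 0, 7, 6, 5, 4, 3, 2, 8, 14, 13, 12, 11, 10, 9], 2), ([0, 5, 2, 7, 4, 1, 6, 3, 8, 14, 13, 12, 11, 10, 9], 2), ([4, 5, 6, 7, 0, 1, 2, 3, 9, 10, 11, 12, 13, 14, 8], 14)])
    (by decide +kernel)

theorem g11 : Ex (fun _ => True) [1, 8, 3, 8, 24, 1, 24, 8, 3, 8, 24, 24] :=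
  ex_any (n := 9) (gs := [([2, 3, 0, 1, 4, 5, 6, 7, 8], 2), ([1, 0, 3, 2, 4, 5, 6, 7, 8], 2), ([0, 1, 2, 3, 5, 6, 4, 8, 7], 6)])
    (by decide +kernel)

end Cfsg.Agent.Ez.OT
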