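import Cfsg.Agent.Lib.Ez.H1

/-!
A solvable and a non-solvable group with the same order type.
-/

set_option autoImplicit false
set_option maxRecDepth 100000

namespace Cfsg.Agent.Ez.OT

theorem g3 : Ex (fun _ => True) [1, 50, 15, 50, 162, 49, 162, 98, 147, 98, 294, 294] :=
  ex_any (n := 14) (gs := [([0, 3, 6, 2, 5, 1, 4, 7, 13, 12, 11, 10, 9, 8], 6), ([1, 2, 3, 4, 5, 6, 0, 7, 8, 9, 10, 11, 12, 13], 7), ([0, 1, 2, 3, 4, 5, 6, 8, 9, 10, 11, 12, 13, 7], 7)])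
    (by decide +kernel)

theorem g7 : Ex id [1, 22, 3, 64, 54, 7, 96, 70, 21, 112, 126, 168] :=
  ex_sol (n := 14) (gs := [([0, 6, 5, 4, 3, 2, 1, 7, 10, 9, 8, 11, 12, 13], 2), ([0, 1, 2, 3, 4, 5, 6, 8, 7, 10, 9, 11, 13, 12], 2), ([1, 2, 3, 4, 5, 6, 0, 9, 10, 7, 8, 12, 13, 11], 42)])
    (by decide +kernel) (by decide +kernel)

end Cfsg.Agent.Ez.OT
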