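import Cfsg.Agent.Lib.Ez.H2
import Cfsg.Agent.Lib.Ez.H3
import Cfsg.Agent.Lib.Ez.H4
import Cfsg.Agent.Lib.Ez.H5

/-!
A solvable and a non-solvable group with the same order type.
-/

set_option autoImplicit false
set_option maxRecDepth 100000

namespace Cfsg.Agent.Ez.OT

theorem same_type : ∃ v, Ex id v ∧ Ex Not v :=
  ⟨_, ((((((((((((((g1.sol g1).sol g1).sol g4).sol g5).sol g5).sol g6).sol g6).sol g6).sol g7).sol g7).sol g7).sol g8).sol g8).sol g8), by
    have := (((((((((((((((((g0.ns g0).ns g0).ns g2).ns g2).ns g2).ns g2).ns g3).ns g3).ns g9).ns g9).ns g9).ns g10).ns g10).ns g10).ns g11).ns g11).ns g11)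
    convert this using 1
    decide +kernel⟩

end Cfsg.Agent.Ez.OT
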