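import Cfsg.Agent.Lib.Sz.App
import Cfsg.Agent.Lib.Sz.Aut
import Cfsg.Agent.Lib.Sz.Main
import Cfsg.Agent.Lib.Sz.Sol

/-!
A group with a nontrivial solvable radical and a prescribed prime graph on 2, 3, 5, 7, 13.
-/

set_option autoImplicit false
set_option linter.unusedSectionVars false
set_option linter.unusedVariables false
set_option linter.style.haveILetI false

namespace Cfsg.Agent.Ez

open Matrix Subgroup Cfsg.Agent.Suz Polynomial

/-- the prime graph with edges 2-3, 2-5, 2-7, 3-5 and the isolated vertex 13 -/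
structure PGr (G : Type*) [Group G] : Prop where
  dv : ∀ p : ℕ, p.Prime → p ∣ Nat.card G → p ∈ [2, 3, 5, 7, 13]
  e13 : ∃ g : G, orderOf g = 13
  ex : ∀ n ∈ [6, 10, 14, 15], ∃ g : G, orderOf g = n
  no : ∀ n ∈ [21, 26, 35, 39, 65, 91], ∀ g : G, orderOf g ≠ n

theorem PGr.dvd_iff {G : Type*} [Group G] [Finite G] (h : PGr G) {p : ℕ} (hp : p.Prime) :
    p ∣ Nat.card G ↔ p ∈ [2, 3, 5, 7, 13] := ⟨h.dv p hp, fun hm => by
  have k : ∀ n, (∃ g : G, orderOf g = n) → p ∣ n → p ∣ Nat.card G := fun n ⟨g, e⟩ d =>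
    d.trans (e ▸ orderOf_dvd_natCard g)
  simp only [List.mem_cons, List.not_mem_nil, or_false] at hm
  rcases hm with rfl | rfl | rfl | rfl | rfl
  exacts [k 6 (h.ex _ (by simp)) (by norm_num), k 6 (h.ex _ (by simp)) (by norm_num),
    k 10 (h.ex _ (by simp)) (by norm_num), k 14 (h.ex _ (by simp)) (by norm_num), k 13 h.e13 dvd_rfl]⟩

theorem PGr.ord_iff {G : Type*} [Group G] [Finite G] (h : PGr G) {p q : ℕ} (hp : p.Prime) (hq : q.Prime)
    (hn : p ≠ q) : (∃ g : G, orderOf g = p * q) ↔ p * q ∈ [6, 10, 14, 15] := ⟨fun ⟨g, e⟩ => by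
  have h1 := h.dv p hp ((dvd_mul_right p q).trans (e ▸ orderOf_dvd_natCard g))
  have h2 := h.dv q hq ((dvd_mul_left q p).trans (e ▸ orderOf_dvd_natCard g))
  have h3 : p * q ∉ [21, 26, 35, 39, 65, 91] := fun hm => h.no _ hm g e
  simp only [List.mem_cons, List.not_mem_nil, or_false] at h1 h2
  rcases h1 with rfl | rfl | rfl | rfl | rfl <;> rcases h2 with rfl | rfl | rfl | rfl | rfl <;>
    first | exact absurd rfl hn | decide | exact absurd (by decide) h3, h.ex _⟩

theorem PGr.of_range {G H : Type*} [Group G] [Group H] [Finite G] [Finite H] (h : PGr G)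
    (e : Set.range (orderOf : H → ℕ) = Set.range (orderOf : G → ℕ)) : PGr H where
  dv p hp d := by
    haveI := Fact.mk hp
    obtain ⟨g, hg⟩ := e.le (exists_prime_orderOf_dvd_card' p d)
    exact h.dv p hp (hg ▸ orderOf_dvd_natCard g)
  e13 := e.ge h.e13
  ex n hn := e.ge (h.ex n hn)
  no n hn g hg := by
    obtain ⟨x, hx⟩ := e.le ⟨g, hg⟩
    exact h.no n hn x hx

theorem orderOf_pow_of {G : Type*} [Group G] {g : G} {a b : ℕ} (ha : a ≠ 0) (h : orderOf g = a * b) :
    orderOf (g ^ a) = b := by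
  rw [orderOf_pow_of_dvd ha (h ▸ dvd_mul_right a b), h, Nat.mul_div_cancel_left _ (Nat.pos_of_ne_zero ha)]

variable {F : Type} [Field F] [Finite F] [CharP F 2] {Γ : Type} [Group Γ] [Finite Γ] (S : SzS F Γ)

theorem sz_θβ (β : F ≃+* F) (x : F) : β (S.θ x) = S.θ (β x) := by rw [S.θ_eq, S.θ_eq, map_pow]

theorem sz_ι_fa (β : F ≃+* F) (g : Γ) : (S.ι (S.fa β g)).1 = (S.ι g).1.map β := by
  have := S.hom_ext (f := S.ι.comp (S.fa β).toMonoidHom)
    (g := (Matrix.GeneralLinearGroup.map (β : F →+* F)).comp S.ι) (fun a b => Units.ext ?_) (Units.ext ?_)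
  · exact congrArg Units.val (DFunLike.congr_fun this g)
  · show (S.ι (S.fa β (S.s a b))).1 = (S.ι (S.s a b)).1.map β
    rw [S.fa_s, S.ι_s, S.ι_s]
    ext i j
    fin_cases i <;> fin_cases j <;> simp [sM, fz, sz_θβ]
  · show (S.ι (S.fa β S.w)).1 = (S.ι S.w).1.map β
    rw [S.fa_w, S.ι_w]
    ext i j
    fin_cases i <;> fin_cases j <;> simp [wM]

theorem sz_fpf13 (hm : S.m = 1) {g : Γ} (hg : orderOf g = 13) {A : Matrix (Fin 4) (Fin 4) F}
    (h : (S.ι g).1 * A * ((S.ι g).1.map S.θ)ᵀ = A) : A = 0 := by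
  classical
  haveI := Fintype.ofFinite F
  have hF : Nat.card F = 8 := by rw [S.card, hm]; norm_num
  have g1 : g ≠ 1 := fun e => by simp [e] at hg
  have hf : S.Fpf g := S.fpf_of_dvd g1 (by rw [hg, hF]; norm_num)
  by_contra h0
  set x := S.ι g with hx
  have e1 : (x.1.map S.θ)ᵀ * ((x⁻¹).1.map S.θ)ᵀ = 1 := by
    rw [← transpose_mul, ← Matrix.map_mul, Units.inv_mul, Matrix.map_one _ (map_zero _) (map_one _), transpose_one]
  have hA : IsUnit A := by
    rcases hf.irr (LinearMap.range (toLin' A)) (by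
      rintro _ ⟨v, rfl⟩
      refine ⟨((x⁻¹).1.map S.θ)ᵀ *ᵥ v, ?_⟩
      show A *ᵥ (_ *ᵥ v) = x.1 *ᵥ (A *ᵥ v)
      rw [mulVec_mulVec, mulVec_mulVec]
      conv_lhs => rw [← h, mul_assoc, e1, mul_one]) with e | e
    · exact absurd (toLin'.map_eq_zero_iff.1 (LinearMap.range_eq_bot.1 e)) h0
    · exact Matrix.mulVec_surjective_iff_isUnit.1 (LinearMap.range_eq_top.1 e)
  obtain ⟨a, rfl⟩ := hA
  have e2 : (x⁻¹).1.charpoly = x.1.charpoly.map S.θ := by
    rw [← charpoly_map, ← charpoly_transpose (x.1.map S.θ), ← charpoly_units_conj a (x.1.map S.θ)ᵀ]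
    congr 1
    rw [← Matrix.coe_units_inv a, eq_comm, Units.mul_inv_eq_iff_eq_mul, eq_comm, Units.inv_mul_eq_iff_eq_mul,
      ← mul_assoc, h]
  let K := AlgebraicClosure F
  let u : GL (Fin 4) K := Matrix.GeneralLinearGroup.map (algebraMap F K) x
  have sp : ∀ (y : GL (Fin 4) F) (l : K), l ∈ spectrum K (Matrix.GeneralLinearGroup.map (algebraMap F K) y).1 ↔
      aeval l y.1.charpoly = 0 := fun y l => by
    rw [Matrix.mem_spectrum_iff_isRoot_charpoly]
    show (y.1.map (algebraMap F K)).charpoly.IsRoot l ↔ _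
    rw [charpoly_map, IsRoot.def, eval_map_algebraMap]
  have r8 : ∀ l : K, aeval l x.1.charpoly = 0 → aeval (l ^ 8) x.1.charpoly = 0 := fun l hl => by
    have := aeval_algHom_apply (FiniteField.frobeniusAlgHom F K) l x.1.charpoly
    rw [hl, map_zero] at this
    simpa [← Nat.card_eq_fintype_card, hF] using this
  have r13 : ∀ l : K, aeval l x.1.charpoly = 0 → l ^ 13 = 1 := fun l hl => by
    have := spectrum.pow_mem_pow _ 13 ((sp x l).2 hl)
    rwa [← Units.val_pow_eq_pow_val, ← map_pow, hx, ← map_pow, show g ^ 13 = 1 from hg ▸ pow_orderOf_eq_one g,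
      map_one, map_one, Units.val_one, spectrum.one_eq] at this
  have r9 : ∀ l : K, aeval l x.1.charpoly = 0 → aeval (l ^ 9) x.1.charpoly = 0 := fun l hl => by
    have h1 := hom_eval₂ x.1.charpoly (algebraMap F K) (iterateFrobenius K 2 2) l
    rw [← aeval_def, hl, map_zero, show (iterateFrobenius K 2 2).comp (algebraMap F K) =
      (algebraMap F K).comp S.θ from RingHom.ext fun c => by simp [S.θ_eq, hm, iterateFrobenius_def],
      ← eval₂_map, ← e2, ← aeval_def, eq_comm, ← sp, map_inv] at h1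
    have h2 : l ^ 9 * l ^ 4 = 1 := by rw [← pow_add, r13 l hl]
    rw [← sp]
    exact (spectrum.inv_mem_iff (r := Units.mkOfMulEqOne _ _ h2)).2 h1
  have hd : x.1.charpoly.natDegree = 4 := by simp
  obtain ⟨l, hl⟩ := IsAlgClosed.exists_aeval_eq_zero K x.1.charpoly (by
    rw [degree_eq_natDegree (charpoly_monic _).ne_zero, hd]; norm_num)
  have l1 : l ≠ 1 := by
    rintro rfl
    rw [← map_one (algebraMap F K), aeval_algebraMap_apply, map_eq_zero, coe_aeval_eq_eval, eval_charpoly,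
      ← Matrix.exists_mulVec_eq_zero_iff] at hl
    obtain ⟨v, h1, h2⟩ := hl
    refine h1 (S.fix_eq_zero g1 (by rw [hg]; decide) ?_)
    rw [map_one, sub_mulVec, one_mulVec, sub_eq_zero] at h2
    exact h2.symm
  haveI : Fact (Nat.Prime 13) := ⟨by norm_num⟩
  have l13 : orderOf l = 13 := orderOf_eq_prime (r13 l hl) l1
  have md : ∀ k, l ^ k = l ^ (k % 13) := fun k => by rw [← l13, pow_mod_orderOf]
  have hs : ({1, 5, 8, 9, 12} : Finset ℕ).image (l ^ ·) ⊆ (x.1.charpoly.aroots K).toFinset := by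
    have a8 := r8 l hl
    have a12 := r8 _ a8
    have a5 := r8 _ a12
    simp only [← pow_mul] at a12 a5
    rw [md] at a12 a5
    intro y hy
    simp only [Finset.image_insert, Finset.image_singleton, Finset.mem_insert, Finset.mem_singleton] at hy
    rw [Multiset.mem_toFinset, mem_aroots]
    refine ⟨(charpoly_monic _).ne_zero, ?_⟩
    rcases hy with rfl | rfl | rfl | rfl | rfl
    exacts [by rwa [pow_one], a5, a8, r9 l hl, a12]
  have := (Finset.card_le_card hs).trans ((Multiset.toFinset_card_le _).trans ((card_roots' _).trans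
    (natDegree_map_le.trans hd.le)))
  rw [Finset.card_image_of_injOn (pow_injOn_Iio_orderOf.mono fun i hi => by
    rw [l13]; simp at hi ⊢; omega)] at this
  simp at this

end Cfsg.Agent.Ez
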