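import Cfsg.Agent.Lib.Ez.I1

/-!
The extension of the Suzuki group over the field with 8 elements by field automorphisms, and a module for it.
-/

set_option autoImplicit false
set_option linter.unusedSectionVars false
set_option linter.unusedVariables false
set_option linter.style.haveILetI false

namespace Cfsg.Agent.Ez

open Matrix Subgroup Cfsg.Agent.Suz SemidirectProduct

variable {F : Type} [Field F] [Finite F] [CharP F 2] {Γ : Type} [Group Γ] [Finite Γ] (S : SzS F Γ)

theorem mem_of_dvd {p : ℕ} (hp : p.Prime) (h : p ∣ 2 * 3 * 5 * 7 * 13) : p ∈ [2, 3, 5, 7, 13] := by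
  simpa only [hp.dvd_mul, Nat.prime_dvd_prime_iff_eq hp Nat.prime_two, Nat.prime_dvd_prime_iff_eq hp Nat.prime_three,
    Nat.prime_dvd_prime_iff_eq hp Nat.prime_five, Nat.prime_dvd_prime_iff_eq hp Nat.prime_seven,
    Nat.prime_dvd_prime_iff_eq hp (by norm_num : Nat.Prime 13), or_assoc, List.mem_cons, List.not_mem_nil,
    or_false] using h

/-- the Frobenius automorphism -/
noncomputable def fro (F : Type) [Field F] [Finite F] [CharP F 2] : F ≃+* F := frobeniusEquiv F 2

theorem fro_apply (x : F) : fro F x = x ^ 2 := rfl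

theorem orderOf_fro (hF : Nat.card F = 8) : orderOf (fro F) = 3 := by
  haveI := Fintype.ofFinite F
  refine orderOf_eq_prime (RingEquiv.ext fun x => ?_) fun e => ?_
  · show ((x ^ 2) ^ 2) ^ 2 = x
    rw [← pow_mul, ← pow_mul]
    have := FiniteField.pow_card x
    rwa [← Nat.card_eq_fintype_card, hF] at this
  · obtain ⟨a, h0, h1⟩ : ∃ a : F, a ≠ 0 ∧ a ≠ 1 := by
      classical
      obtain ⟨a, -, h⟩ := Finset.exists_mem_notMem_of_card_lt_card (s := {(0 : F), 1}) (t := Finset.univ)
        (Finset.card_le_two.trans_lt (by rw [Finset.card_univ, ← Nat.card_eq_fintype_card, hF]; norm_num))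
      exact ⟨a, by simpa using h⟩
    have : a ^ 2 = a := RingEquiv.congr_fun e a
    exact h1 (mul_left_cancel₀ h0 (by rw [← sq, this, mul_one]))

/-- the extension by field automorphisms -/
abbrev SX : Type := Γ ⋊[S.fa.comp (zpowers (fro F)).subtype] zpowers (fro F)

instance finite_fro : Finite (zpowers (fro F)) :=
  haveI : Finite (F ≃+* F) := Finite.of_injective _ (DFunLike.coe_injective (F := F ≃+* F))
  inferInstance

instance finite_SX : Finite (SX S) := Finite.of_equiv _ SemidirectProduct.equivProd.symm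

noncomputable instance actSX : DistribMulAction (SX S) (Matrix (Fin 4) (Fin 4) F) where
  smul u A := (S.ι u.left).1 * A.map u.right.1 * ((S.ι u.left).1.map S.θ)ᵀ
  one_smul A := by
    show (S.ι 1).1 * A.map (1 : F ≃+* F) * ((S.ι 1).1.map S.θ)ᵀ = A
    simp [Matrix.map_one]
  mul_smul u v A := by
    show (S.ι (u.left * S.fa u.right.1 v.left)).1 * A.map (u.right.1 * v.right.1 : F ≃+* F) *
      ((S.ι (u.left * S.fa u.right.1 v.left)).1.map S.θ)ᵀ =
      (S.ι u.left).1 * ((S.ι v.left).1 * A.map v.right.1 * ((S.ι v.left).1.map S.θ)ᵀ).map u.right.1 *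
        ((S.ι u.left).1.map S.θ)ᵀ
    have e : ∀ M N : Matrix (Fin 4) (Fin 4) F, (M * N).map u.right.1 = M.map u.right.1 * N.map u.right.1 :=
      fun M N => Matrix.map_mul (f := (u.right.1 : F →+* F))
    have e' : (((S.ι v.left).1.map S.θ)ᵀ).map u.right.1 = (((S.ι v.left).1.map u.right.1).map S.θ)ᵀ := by
      ext i j; exact sz_θβ S _ _
    rw [map_mul, Units.val_mul, sz_ι_fa, Matrix.map_mul, transpose_mul, e, e, e']
    simp only [Matrix.mul_assoc]
    rfl
  smul_zero u := by
    show _ * (0 : Matrix (Fin 4) (Fin 4) F).map u.right.1 * _ = 0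
    simp [Matrix.map_zero]
  smul_add u A B := by
    show _ * (A + B).map u.right.1 * _ = _ * A.map u.right.1 * _ + _ * B.map u.right.1 * _
    rw [Matrix.map_add _ (map_add _), mul_add, add_mul]

theorem inl_smul (g : Γ) (A : Matrix (Fin 4) (Fin 4) F) :
    (inl g : SX S) • A = (S.ι g).1 * A * ((S.ι g).1.map S.θ)ᵀ := rfl

variable (hm : S.m = 1)
include hm

theorem sz_card : Nat.card F = 8 := by rw [S.card, hm]; norm_num

theorem card_K : Nat.card (zpowers (fro F)) = 3 := by rw [Nat.card_zpowers, orderOf_fro (sz_card S hm)]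

theorem card_Γ : Nat.card Γ = 29120 := by rw [S.card_eq, sz_card S hm]; norm_num

theorem card_SX : Nat.card (SX S) = 87360 := by rw [SemidirectProduct.card, card_K S hm, card_Γ S hm]

theorem exists_inl {u : SX S} (h : (orderOf u).Coprime 3) : ∃ g : Γ, u = inl g ∧ orderOf g = orderOf u := by
  have h1 : u.right = 1 := by
    rw [← orderOf_eq_one_iff]
    exact Nat.eq_one_of_dvd_coprimes h (orderOf_map_dvd rightHom u) (card_K S hm ▸ orderOf_dvd_natCard _)
  have : u = inl u.left := SemidirectProduct.ext rfl h1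
  exact ⟨u.left, this, (orderOf_injective (inl : Γ →* SX S) inl_injective _).symm.trans (congrArg _ this.symm)⟩

theorem no_cop {a b : ℕ} (ha : a ≠ 0) (hb : b ∣ 65) (hb1 : b ≠ 1) (h : ¬ a * b ∣ 13 ∧ ¬ a * b ∣ 5)
    (h3 : (a * b).Coprime 3) (u : SX S) : orderOf u ≠ a * b := fun e => by
  obtain ⟨g, -, e'⟩ := exists_inl S hm (e ▸ h3)
  rw [e] at e'
  have h1 := orderOf_pow_of ha e'
  have h2 : S.Fpf (g ^ a) := S.fpf_of_dvd (fun e => hb1 (by rw [← h1, e, orderOf_one]))
    (by rw [h1, sz_card S hm]; exact hb)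
  have h4 := (centralizer {g ^ a}).orderOf_dvd_natCard
    (mem_centralizer_singleton_iff.2 (Commute.self_pow g a).eq)
  have h5 := h2.card_C
  rw [sz_card S hm, hm] at h5
  rw [e'] at h4
  rcases h5 with h5 | h5 <;> rw [h5] at h4
  exacts [h.1 h4, h.2 h4]

theorem no_three {p : ℕ} (hp : p = 7 ∨ p = 13) (u : SX S) : orderOf u ≠ 3 * p := fun e => by
  classical
  haveI hpp : Fact p.Prime := ⟨by rcases hp with rfl | rfl <;> norm_num⟩
  let P : Sylow 3 (SX S) := Sylow.ofCard (inr : _ →* SX S).range (by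
    rw [← Nat.card_congr (MonoidHom.ofInjective inr_injective).toEquiv, card_K S hm, card_SX S hm]
    decide +kernel)
  have h1 := orderOf_pow_of hpp.out.ne_zero (e.trans (mul_comm 3 p))
  obtain ⟨c, β, hβ⟩ := Transfer.exists_conj_mem_sylow P (x := u ^ p) (k := 1) (by
    rw [pow_one, ← h1, pow_orderOf_eq_one])
  have h2 : orderOf (c * u ^ 3 * c⁻¹) = p := by
    rw [← MulAut.conj_apply, MulEquiv.orderOf_eq, orderOf_pow_of three_ne_zero e]
  obtain ⟨g, e1, e2⟩ := exists_inl S hm (u := c * u ^ 3 * c⁻¹) (by rw [h2]; rcases hp with rfl | rfl <;> norm_num)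
  rw [h2] at e2
  have h3 : Commute (inr β : SX S) (inl g) := by
    rw [← e1, hβ]
    exact (Commute.pow_pow_self u p 3).map (MulAut.conj c)
  have h4 : β ≠ 1 := fun e => by
    rw [e, map_one, eq_comm, conj_eq_one_iff] at hβ
    simp [hβ] at h1
  obtain ⟨k, hk⟩ := mem_zpowers_of_prime_card (card_K S hm) h4 (g' := ⟨fro F, mem_zpowers _⟩)
  have h5 := (h3.zpow_left k).eq
  beta_reduce at hk
  rw [← map_zpow, hk] at h5
  have h6 : S.fa (fro F) g = g := by simpa using congrArg SemidirectProduct.left h5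
  have h7 := sz_ι_fa S (fro F) g
  rw [h6] at h7
  let T := {v : Fin 4 → F // ∀ i, fro F (v i) = v i}
  haveI := Fintype.ofFinite T
  let f : Function.End T := fun v => ⟨(S.ι g).1 *ᵥ v.1, fun i => by
    rw [show fro F (((S.ι g).1 *ᵥ v.1) i) = ((S.ι g).1.map (fro F) *ᵥ (fro F ∘ v.1)) i from
      RingHom.map_mulVec (fro F : F →+* F) _ _ i, ← h7, show fro F ∘ v.1 = v.1 from funext v.2]⟩
  have hf : ∀ n v, ((f ^ n) v).1 = (S.ι (g ^ n)).1 *ᵥ v.1 := fun n v => by
    induction n with
    | zero => simp; rfl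
    | succ n ih => rw [pow_succ', pow_succ', map_mul, Units.val_mul, ← mulVec_mulVec, ← ih]; rfl
  have h8 := Equiv.Perm.card_fixedPoints_modEq (f := f) (p := p) (n := 1) (funext fun v => Subtype.ext (by
    rw [hf, pow_one, ← e2, pow_orderOf_eq_one]; simp; rfl))
  have h9 : Fintype.card T = 16 := by
    have : Nat.card {c : F // fro F c = c} = 2 := by
      rw [Nat.card_congr (Equiv.subtypeEquivRight (q := (· ∈ ({0, 1} : Finset F))) fun c => by
        simp [fro_apply, sq, mul_right_eq_self₀, or_comm]), Nat.card_eq_fintype_card, Fintype.card_coe,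
        Finset.card_pair zero_ne_one]
    rw [← Nat.card_eq_fintype_card, Nat.card_congr (Equiv.subtypePiEquivPi (p := fun _ c => fro F c = c)),
      Nat.card_pi]
    simp [this]
  have h10 : Fintype.card f.fixedPoints = 1 := Fintype.card_eq_one_iff.2 ⟨⟨⟨0, fun i => map_zero _⟩,
    Subtype.ext (mulVec_zero (S.ι g).1)⟩, fun v => Subtype.ext (Subtype.ext (S.fix_eq_zero (g := g)
      (fun e => hpp.out.ne_one (by rw [← e2, e, orderOf_one])) (by rw [e2]; rcases hp with rfl | rfl <;> decide)
      (congrArg Subtype.val v.2)))⟩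
  rw [h9, h10] at h8
  rcases hp with rfl | rfl <;> exact absurd h8 (by decide)

theorem five : orderOf (S.s 0 1 * S.w) = 5 ∧ (inl (S.s 0 1 * S.w) : SX S) • wM F = wM F := by
  letI := ZMod.algebra F 2
  let N : Matrix (Fin 4) (Fin 4) (ZMod 2) := !![1, 1, 0, 1; 1, 0, 1, 0; 0, 1, 0, 0; 1, 0, 0, 0]
  let J : Matrix (Fin 4) (Fin 4) (ZMod 2) := !![0, 0, 0, 1; 0, 0, 1, 0; 0, 1, 0, 0; 1, 0, 0, 0]
  let j := (algebraMap (ZMod 2) F).mapMatrix (m := Fin 4)
  have h1 : (S.ι (S.s 0 1 * S.w)).1 = j N := by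
    rw [map_mul, Units.val_mul, S.ι_s, S.ι_w]
    ext a b
    fin_cases a <;> fin_cases b <;> simp [sM, wM, fz, j, N]
  have h2 : wM F = j J := by
    ext a b
    fin_cases a <;> fin_cases b <;> simp [wM, j, J]
  have h3 : ((j N).map S.θ)ᵀ = j Nᵀ := by
    ext a b
    fin_cases a <;> fin_cases b <;> simp [j, N]
  haveI : Fact (Nat.Prime 5) := ⟨by norm_num⟩
  refine ⟨orderOf_eq_prime (S.inj (Units.ext ?_)) fun e => ?_, ?_⟩
  · rw [map_pow, Units.val_pow_eq_pow_val, h1, ← map_pow, show N ^ 5 = 1 by decide +kernel, map_one, map_one]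
    rfl
  · rw [e, map_one] at h1
    simpa [j, N] using congrFun₂ h1 0 1
  · rw [inl_smul, h1, h2, h3, ← map_mul, ← map_mul, show N * J * Nᵀ = J by decide +kernel]

theorem seven : ∃ (g : Γ) (A : Matrix (Fin 4) (Fin 4) F), orderOf g = 7 ∧ A ≠ 0 ∧ (inl g : SX S) • A = A := by
  haveI := Fintype.ofFinite F
  haveI : Fact (Nat.Prime 7) := ⟨by norm_num⟩
  have hc : Nat.card Fˣ = 7 := by rw [Nat.card_units, sz_card S hm]
  obtain ⟨t, ht⟩ := exists_prime_orderOf_dvd_card' (G := Fˣ) 7 hc.symm.dvd
  have h7 : (t : F) ^ 7 = 1 := by rw [← Units.val_pow_eq_pow_val, ← ht, pow_orderOf_eq_one, Units.val_one]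
  let dh : Fˣ →* Γ := MonoidHom.mk' S.d S.d_mul
  refine ⟨S.d t, Matrix.single 1 0 1, (orderOf_injective dh (fun _ _ => S.d_inj) t).trans ht, fun e => by
    simpa using congrFun₂ e 1 0, ?_⟩
  rw [inl_smul, S.ι_d, dM, diagonal_map (map_zero _), diagonal_transpose]
  ext a b
  rw [mul_diagonal, diagonal_mul]
  by_cases h : 1 = a ∧ 0 = b
  · obtain ⟨rfl, rfl⟩ := h
    simp [S.θ_eq, hm]
    linear_combination ((t : F) ^ 14 + t ^ 7 + 1) * h7
  · simp [Matrix.single, h]

theorem exists_pgr : ∃ (H : Type) (_ : Group H) (_ : Finite H) (K : Subgroup H) (_ : K.Normal),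
    K ≠ ⊥ ∧ Group.IsSolvable K ∧ PGr H := by
  let A := Multiplicative (Matrix (Fin 4) (Fin 4) F)
  let φ : SX S →* MulAut A := (MulAutMultiplicative _).symm.toMonoidHom.comp (DistribMulAction.toAddAut (SX S) _)
  haveI : Finite (A ⋊[φ] SX S) := Finite.of_equiv _ SemidirectProduct.equivProd.symm
  have h2 : ∀ y : A ⋊[φ] SX S, y.right = 1 → y ^ 2 = 1 := fun y h => by
    ext1 <;> simp [sq, h]
    ext; simp [A, CharTwo.add_self_eq_zero]
  have h3 : ∀ y : A ⋊[φ] SX S, orderOf y ∣ orderOf y.right * 2 := fun y =>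
    orderOf_dvd_of_pow_eq_one (by
      rw [pow_mul]; exact h2 _ ((map_pow rightHom y _).trans (pow_orderOf_eq_one _)))
  have h4 : ∀ y : A ⋊[φ] SX S, orderOf y.right ∣ orderOf y := orderOf_map_dvd rightHom
  have h5 : ∀ y : A ⋊[φ] SX S, (orderOf y).Coprime 2 → orderOf y.right = orderOf y := fun y h =>
    Nat.dvd_antisymm (h4 y) (h.dvd_of_dvd_mul_right (h3 y))
  have k1 : ∀ n, (∃ u : SX S, orderOf u = n) → ∃ y : A ⋊[φ] SX S, orderOf y = n := fun n ⟨u, e⟩ =>
    ⟨inr u, (orderOf_injective inr inr_injective u).trans e⟩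
  have k2 : ∀ (g : Γ) (M : Matrix (Fin 4) (Fin 4) F), M ≠ 0 → (inl g : SX S) • M = M → (orderOf g).Coprime 2 →
      ∃ y : A ⋊[φ] SX S, orderOf y = 2 * orderOf g := fun g M a b c => by
    have e1 : orderOf (inl (Multiplicative.ofAdd M) : A ⋊[φ] SX S) = 2 :=
      orderOf_eq_prime (h2 _ rfl) fun e => a (congrArg SemidirectProduct.left e)
    have e2 : orderOf (inr (inl g) : A ⋊[φ] SX S) = orderOf g := by
      exact (orderOf_injective (inr : SX S →* A ⋊[φ] SX S) inr_injective _).trans
        (orderOf_injective (inl : Γ →* SX S) inl_injective _)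
    have e3 : Commute (inl (Multiplicative.ofAdd M) : A ⋊[φ] SX S) (inr (inl g)) :=
      SemidirectProduct.ext (by
        simp only [mul_left, left_inl, right_inl, left_inr, right_inr, map_one, mul_one, one_mul]
        exact (congrArg Multiplicative.ofAdd b).symm)
        (by simp only [mul_right, right_inl, right_inr, mul_one, one_mul])
    have e4 := e3.orderOf_mul_eq_mul_orderOf_of_coprime (by rw [e1, e2]; exact c.symm)
    rw [e1, e2] at e4
    exact ⟨_, e4⟩
  have k3 : ∀ g : Γ, S.fa (fro F) g = g → (orderOf g).Coprime 3 → ∃ u : SX S, orderOf u = orderOf g * 3 :=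
    fun g a c => by
      have e1 : orderOf (inr ⟨fro F, mem_zpowers _⟩ : SX S) = 3 := by
        exact (orderOf_injective (inr : _ →* SX S) inr_injective _).trans
          ((orderOf_coe _).symm.trans (orderOf_fro (sz_card S hm)))
      have e2 : orderOf (inl g : SX S) = orderOf g := orderOf_injective inl inl_injective g
      have e3 : Commute (inl g : SX S) (inr ⟨fro F, mem_zpowers _⟩) :=
        SemidirectProduct.ext (by
          simp only [mul_left, left_inl, right_inl, left_inr, right_inr, map_one, mul_one, one_mul]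
          exact a.symm) (by simp only [mul_right, right_inl, right_inr, mul_one, one_mul])
      have e4 := e3.orderOf_mul_eq_mul_orderOf_of_coprime (by rw [e1, e2]; exact c)
      rw [e1, e2] at e4
      exact ⟨_, e4⟩
  have w0 : wM F ≠ 0 := fun e => by simpa [wM] using congrFun₂ e 0 3
  refine ⟨A ⋊[φ] SX S, inferInstance, inferInstance, (inl : A →* A ⋊[φ] SX S).range,
    by rw [range_inl_eq_ker_rightHom]; infer_instance, fun e => w0 ?_, Group.isSolvable_of_surjective
      (MonoidHom.rangeRestrict_surjective (inl : A →* A ⋊[φ] SX S)), fun p hp d => ?_, ?_, fun n hn => ?_, fun n hn y e => ?_⟩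
  · exact congrArg SemidirectProduct.left (mem_bot.1 (e.le ⟨Multiplicative.ofAdd (wM F), rfl⟩))
  · rw [SemidirectProduct.card, card_SX S hm, show Nat.card A = Nat.card (Fin 4 → Fin 4 → F) from rfl,
      Nat.card_fun, Nat.card_fun, sz_card S hm] at d
    have h6 : p ∣ (2 * 3 * 5 * 7 * 13) ^ 54 := d.trans (by simp)
    have h7 := hp.dvd_of_dvd_pow h6
    exact mem_of_dvd hp h7
  · haveI : Fact (Nat.Prime 13) := ⟨by norm_num⟩
    exact k1 _ (exists_prime_orderOf_dvd_card' 13 (by rw [card_SX S hm]; norm_num))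
  · simp only [List.mem_cons, List.not_mem_nil, or_false] at hn
    have a2 := S.orderOf_z (one_ne_zero (α := F))
    obtain ⟨a5, b5⟩ := five S hm
    obtain ⟨g, M, a7, b7, c7⟩ := seven S hm
    rcases hn with rfl | rfl | rfl | rfl
    · exact k1 _ (by simpa [a2] using k3 (S.s 0 1) (by simp [S.fa_s]) (by rw [a2]; decide))
    · simpa [a5] using k2 _ _ w0 b5 (by rw [a5]; decide)
    · simpa [a7] using k2 _ _ b7 c7 (by rw [a7]; decide)
    · exact k1 _ (by simpa [a5] using k3 (S.s 0 1 * S.w) (by simp [S.fa_s, S.fa_w]) (by rw [a5]; decide))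
  simp only [List.mem_cons, List.not_mem_nil, or_false] at hn
  have o := fun h => (h5 y h).trans e
  rw [e] at o
  rcases hn with rfl | rfl | rfl | rfl | rfl | rfl
  · exact no_three S hm (.inl rfl) _ (o (by decide))
  · have a1 := h4 y
    have a2 := h3 y
    rw [e] at a1 a2
    have a0 : orderOf y.right = 13 := by
      have := no_cop S hm (a := 2) (b := 13) (by decide) (by decide) (by decide) (by decide) (by decide) y.right
      have := Nat.le_of_dvd (by norm_num) a1
      interval_cases (orderOf y.right) <;> simp_all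
    obtain ⟨g, e1, e2⟩ := exists_inl S hm (u := y.right) (by rw [a0]; decide)
    have a3 : (y ^ 13).right = 1 := (map_pow rightHom y 13).trans (by rw [← a0]; exact pow_orderOf_eq_one _)
    have a4 := congrArg SemidirectProduct.left ((pow_succ y 13).symm.trans (pow_succ' y 13))
    simp only [mul_left, a3, map_one, MulAut.one_apply, mul_comm (y ^ 13).left, mul_right_inj, e1] at a4
    have a5 : (inl g : SX S) • (y ^ 13).left.toAdd = (y ^ 13).left.toAdd := congrArg Multiplicative.toAdd a4.symm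
    rw [inl_smul] at a5
    have a6 : y ^ 13 = 1 := SemidirectProduct.ext (sz_fpf13 S hm (e2.trans a0) a5) a3
    exact absurd (e ▸ orderOf_dvd_of_pow_eq_one a6) (by norm_num)
  · exact no_cop S hm (a := 7) (b := 5) (by decide) (by decide) (by decide) (by decide) (by decide) _ (o (by decide))
  · exact no_three S hm (.inr rfl) _ (o (by decide))
  · exact no_cop S hm (a := 5) (b := 13) (by decide) (by decide) (by decide) (by decide) (by decide) _ (o (by decide))
  · exact no_cop S hm (a := 7) (b := 13) (by decide) (by decide) (by decide) (by decide) (by decide) _ (o (by decide))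

end Cfsg.Agent.Ez
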