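import Cfsg.Agent.Lib.Ez.I2
import Cfsg.Agent.S0245
import Cfsg.Agent.S0246

/-!
The prime graph of the projective symplectic group of dimension 6 over the field with 3 elements.
-/

set_option autoImplicit false
set_option linter.unusedSectionVars false
set_option linter.unusedVariables false
set_option linter.style.haveILetI false
set_option maxRecDepth 100000

namespace Cfsg.Agent.Ez.S63

open Matrix Subgroup

abbrev M3 := Matrix (Fin 3) (Fin 3) (ZMod 3)
abbrev M6 := Matrix (Fin 3 ⊕ Fin 3) (Fin 3 ⊕ Fin 3) (ZMod 3)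
abbrev SP := symplecticGroup (Fin 3) (ZMod 3)
abbrev V6 := Fin 3 ⊕ Fin 3 → ZMod 3

theorem card_SP : Nat.card SP = 9170703360 := by
  rw [S0245.result (ZMod.card 3) 3]; decide +kernel

theorem card_Z : Nat.card (center SP) = 2 := by
  rw [S0246.result (ZMod.card 3) 3 (by norm_num)]; rfl

theorem card_P : Nat.card (PSp 3 (ZMod 3)) = 4585351680 := by
  have := card_eq_card_quotient_mul_card_subgroup (center SP)
  rw [card_SP, card_Z] at this
  exact Nat.eq_of_mul_eq_mul_right two_pos (this.symm.trans (by norm_num))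

theorem mem_Z {x : SP} : x ∈ center SP ↔ x.1 = 1 ∨ x.1 = -1 := by
  have h1 : ∀ x : SP, x.1 = -1 → x ∈ center SP := fun x h => mem_center_iff.2 fun g => Subtype.ext (by
    rw [Submonoid.coe_mul, Submonoid.coe_mul, h]; simp)
  refine ⟨fun h => ?_, fun h => h.elim (fun h => (Subtype.ext h : x = 1) ▸ one_mem _) (h1 x)⟩
  obtain ⟨y, -, hy⟩ := (Nat.card_eq_two_iff' (1 : center SP)).1 card_Z
  by_cases e : x = 1
  · exact .inl (congrArg Subtype.val e)
  · have a := hy ⟨x, h⟩ fun e' => e (congrArg Subtype.val e')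
    have b := hy ⟨⟨-1, SymplecticGroup.neg_mem (one_mem _)⟩, h1 _ rfl⟩ fun e' =>
      (by decide : ¬ (-1 : M6) (.inl 0) (.inl 0) = (1 : M6) (.inl 0) (.inl 0))
        (congrArg (fun t : center SP => t.1.1 (.inl 0) (.inl 0)) e')
    exact .inr (congrArg (fun t : center SP => t.1.1) (a.trans b.symm))

theorem ordP {x : SP} {p : ℕ} (hp : p.Prime) (h1 : x.1 ^ p = 1 ∨ x.1 ^ p = -1) (h2 : ¬ (x.1 = 1 ∨ x.1 = -1)) :
    orderOf (QuotientGroup.mk x : PSp 3 (ZMod 3)) = p := by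
  haveI := Fact.mk hp
  exact orderOf_eq_prime (by rw [← QuotientGroup.mk_pow, QuotientGroup.eq_one_iff]; exact mem_Z.2 h1)
    fun e => h2 (mem_Z.1 ((QuotientGroup.eq_one_iff _).1 e))

theorem ordPQ (x y z : M6) {p q : ℕ} (hp : p = 2 ∨ p = 3) (hq : q = 3 ∨ q = 5 ∨ q = 7) (hpq : p.Coprime q)
    (hx : x * J _ _ * xᵀ = J _ _) (hy : y * J _ _ * yᵀ = J _ _) (hc : x * y = y * x) (hz : y * y = z)
    (h1 : if p = 2 then x * x = 1 ∨ x * x = -1 else x * x * x = 1) (h2 : ¬ (x = 1 ∨ x = -1))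
    (h3 : if q = 3 then z * y = 1 else if q = 5 then z * z * y = 1 else z * z * z * y = 1)
    (h4 : ¬ (y = 1 ∨ y = -1)) : ∃ g : PSp 3 (ZMod 3), orderOf g = p * q := by
  have a := ordP (x := ⟨x, hx⟩) (p := p) (by rcases hp with rfl | rfl <;> norm_num) (by
    rcases hp with rfl | rfl
    · simpa only [sq, if_true] using h1
    · exact .inl ((pow_three' x).trans (by simpa using h1))) h2
  have b := ordP (x := ⟨y, hy⟩) (p := q) (by rcases hq with rfl | rfl | rfl <;> norm_num) (.inl (by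
    subst hz
    rcases hq with rfl | rfl | rfl <;> simpa [pow_succ, Matrix.mul_assoc] using h3)) h4
  have c : Commute (QuotientGroup.mk ⟨x, hx⟩ : PSp 3 (ZMod 3)) (QuotientGroup.mk ⟨y, hy⟩) :=
    Commute.map (Subtype.ext hc : Commute (⟨x, hx⟩ : SP) ⟨y, hy⟩) (QuotientGroup.mk' _)
  exact ⟨_, (c.orderOf_mul_eq_mul_orderOf_of_coprime (by rwa [a, b])).trans (by rw [a, b])⟩

theorem pw13 {x c d : M3} (h1 : x * x * x = c) (h2 : c * c * c * c * x = d) : x ^ 13 = d := by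
  rw [← h2, ← h1]; simp only [pow_succ, pow_zero, one_mul, Matrix.mul_assoc]

def a3 : M3 := !![0, 0, 1; 1, 0, 1; 0, 1, 0]
def b3 : M3 := !![2, 0, 1; 1, 0, 0; 0, 1, 0]
def mm (s t u : ZMod 3) : M3 := !![s, u, t; t, s + u, u + t; u, t, s + u]

def x0 : SP := ⟨fromBlocks a3 0 0 b3, SymplecticGroup.fromBlocks_mem_iff.2 (by decide +kernel)⟩

theorem ord_x0 : orderOf x0 = 13 := by
  haveI : Fact (Nat.Prime 13) := ⟨by norm_num⟩
  refine orderOf_eq_prime (Subtype.ext ?_) fun e => absurd (congrArg (fun t : SP => t.1 (.inl 0) (.inl 0)) e)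
    (by decide)
  show fromBlocks a3 0 0 b3 ^ 13 = 1
  rw [fromBlocks_diagonal_pow, pw13 (c := !![1, 0, 1; 1, 1, 1; 0, 1, 1]) (d := 1) (by decide +kernel)
    (by decide +kernel), pw13 (c := !![0, 2, 1; 1, 1, 2; 2, 0, 1]) (d := 1) (by decide +kernel) (by decide +kernel),
    fromBlocks_one]

theorem mm_pow (s t u : ZMod 3) : mm s t u = 0 ∨ mm s t u ^ 13 = 1 ∨ mm s t u ^ 13 = -1 := by
  obtain ⟨a, b, c, h1, h2⟩ := (by decide +kernel : ∀ s t u : ZMod 3, ∃ a b c : ZMod 3,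
    mm s t u * mm s t u * mm s t u = mm a b c ∧ (mm s t u = 0 ∨
      mm a b c * mm a b c * mm a b c * mm a b c * mm s t u = 1 ∨
      mm a b c * mm a b c * mm a b c * mm a b c * mm s t u = -1)) s t u
  exact h2.imp_right (Or.imp (pw13 h1) (pw13 h1))

theorem cent {h : SP} (hc : h * x0 = x0 * h) : h ^ 13 ∈ center SP := by
  obtain ⟨h, hs⟩ := h
  rw [← fromBlocks_toBlocks h] at hs
  have hc' : h * fromBlocks a3 0 0 b3 = fromBlocks a3 0 0 b3 * h := congrArg Subtype.val hc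
  refine mem_Z.2 (?_ : h ^ 13 = 1 ∨ h ^ 13 = -1)
  rw [← fromBlocks_toBlocks h] at hc' ⊢
  generalize h.toBlocks₁₁ = P, h.toBlocks₁₂ = Q, h.toBlocks₂₁ = R, h.toBlocks₂₂ = T at *
  simp only [fromBlocks_multiply, Matrix.mul_zero, Matrix.zero_mul, add_zero, zero_add, fromBlocks_inj] at hc'
  obtain ⟨e1, e2, e3, -⟩ := hc'
  have f1 : a3 * a3 * a3 - a3 - 1 = 0 := by decide +kernel
  have f2 : (b3 * b3 * b3 - b3 - 1) * !![1, 0, 2; 2, 0, 0; 0, 2, 0] = 1 := by decide +kernel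
  have f3 : !![1, 0, 2; 2, 0, 0; 0, 2, 0] * (b3 * b3 * b3 - b3 - 1) = 1 := by decide +kernel
  obtain rfl : Q = 0 := by
    rw [← mul_one Q, ← f2, ← mul_assoc, show Q * (b3 * b3 * b3 - b3 - 1) = (a3 * a3 * a3 - a3 - 1) * Q by
      simp only [mul_sub, sub_mul, ← mul_assoc, e2, mul_one, one_mul]
      simp only [mul_assoc, e2], f1, zero_mul, zero_mul]
  obtain rfl : R = 0 := by
    rw [← one_mul R, ← f3, mul_assoc, show (b3 * b3 * b3 - b3 - 1) * R = R * (a3 * a3 * a3 - a3 - 1) by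
      simp only [mul_sub, sub_mul, ← mul_assoc, e3, mul_one, one_mul]
      simp only [mul_assoc, e3], f1, mul_zero, mul_zero]
  have e4 : Pᵀ * T = 1 := by simpa using (SymplecticGroup.fromBlocks_mem_iff.1 hs).2.2
  have e5 : (P ^ 13)ᵀ * T ^ 13 = 1 := by
    rw [transpose_pow, ← Commute.mul_pow (e4.trans (mul_eq_one_comm.1 e4).symm), e4, one_pow]
  have e6 : P = mm (P 0 0) (P 1 0) (P 2 0) := by
    have g := fun i j => congrFun₂ e1 i j
    have g1 := g 0 0; have g2 := g 1 0; have g3 := g 2 0; have g4 := g 0 1; have g5 := g 1 1; have g6 := g 2 1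
    simp [a3, Matrix.mul_apply, Fin.sum_univ_three] at g1 g2 g3 g4 g5 g6
    ext i j
    fin_cases i <;> fin_cases j <;> simp [mm, *]
  rw [fromBlocks_diagonal_pow]
  have e7 := mm_pow (P 0 0) (P 1 0) (P 2 0)
  rw [← e6] at e7
  rcases e7 with e | e | e
  · rw [e, transpose_zero, zero_mul] at e4
    exact absurd e4 (by decide)
  · rw [e, transpose_one, one_mul] at e5
    exact .inl (by rw [e, e5, fromBlocks_one])
  · rw [e, transpose_neg, transpose_one, neg_mul, one_mul, neg_eq_iff_eq_neg] at e5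
    exact .inr (by rw [e, e5, ← fromBlocks_one, fromBlocks_neg, neg_zero])

theorem lift_pow {g : SP} {a b : ℕ} (h : orderOf (QuotientGroup.mk g : PSp 3 (ZMod 3)) = a * b)
    (hb : ¬ a * b ∣ 2 * a) : (g ^ (2 * a)) ^ b = 1 ∧ g ^ (2 * a) ≠ 1 := by
  refine ⟨?_, fun e => hb (h ▸ orderOf_dvd_of_pow_eq_one (by rw [← QuotientGroup.mk_pow, e]; rfl))⟩
  have h1 : g ^ (a * b) ∈ center SP := by
    rw [← QuotientGroup.eq_one_iff, QuotientGroup.mk_pow, ← h, pow_orderOf_eq_one]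
  have h2 := congrArg Subtype.val (pow_card_eq_one' (x := (⟨_, h1⟩ : center SP)))
  rw [card_Z] at h2
  rw [← pow_mul, show 2 * a * b = a * b * 2 by ring, pow_mul]
  exact h2

theorem no13 {a : ℕ} (h1 : ¬ a * 13 ∣ 2 * a) (h2 : ¬ a * 13 ∣ 13) (g : PSp 3 (ZMod 3)) : orderOf g ≠ a * 13 := by
  obtain ⟨g, rfl⟩ := QuotientGroup.mk_surjective g
  intro e
  obtain ⟨k1, k2⟩ := lift_pow e h1
  haveI : Fact (Nat.Prime 13) := ⟨by norm_num⟩
  have hc : Nat.card (zpowers x0) = 13 := by rw [Nat.card_zpowers, ord_x0]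
  let P : Sylow 13 SP := Sylow.ofCard (zpowers x0) (by rw [hc, card_SP]; decide +kernel)
  obtain ⟨c, hc'⟩ := Transfer.exists_conj_mem_sylow P (k := 1) (by rw [pow_one]; exact k1)
  obtain ⟨k, hk⟩ := mem_zpowers_of_prime_card hc (g := ⟨_, hc'⟩) (g' := ⟨x0, mem_zpowers _⟩)
    fun e => k2 (conj_eq_one_iff.1 (congrArg Subtype.val e))
  have h3 : (c * g ^ (2 * a) * c⁻¹) ^ k = x0 := congrArg Subtype.val hk
  have h4 := cent (h := c * g * c⁻¹) (h3 ▸ (((Commute.self_pow g _).map (MulAut.conj c)).zpow_right k).eq)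
  rw [conj_pow] at h4
  have h5 := Normal.conj_mem' inferInstance _ h4 c
  rw [← mul_assoc, ← mul_assoc, inv_mul_cancel, one_mul, inv_mul_cancel_right, ← QuotientGroup.eq_one_iff,
    QuotientGroup.mk_pow, ← orderOf_dvd_iff_pow_eq_one, e] at h5
  exact h2 h5

/-- fixed vectors -/
def fx (x : SP) : AddSubgroup V6 := (mulVecLin x.1).toAddMonoidHom.eqLocus (AddMonoidHom.id _)

theorem fx_mod {x : SP} {p : ℕ} (hp : p.Prime) (h : x ^ p = 1) (U : AddSubgroup V6)
    (hU : ∀ v ∈ U, x.1 *ᵥ v ∈ U) : Nat.card U ≡ Nat.card (U ⊓ fx x : AddSubgroup V6) [MOD p] := by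
  classical
  haveI := Fact.mk hp
  let f : Function.End U := fun v => ⟨x.1 *ᵥ v.1, hU _ v.2⟩
  have hf : ∀ n v, ((f ^ n) v).1 = (x ^ n).1 *ᵥ v.1 := fun n v => by
    induction n with
    | zero => exact (one_mulVec _).symm
    | succ n ih => rw [pow_succ', pow_succ', Submonoid.coe_mul, ← mulVec_mulVec, ← ih]; rfl
  have h8 := Equiv.Perm.card_fixedPoints_modEq (f := f) (p := p) (n := 1) (funext fun v => Subtype.ext (by
    rw [hf, pow_one, h]; exact one_mulVec _))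
  rw [← Nat.card_eq_fintype_card, ← Nat.card_eq_fintype_card] at h8
  convert h8 using 1
  exact Nat.card_congr ⟨fun v => ⟨⟨v.1, v.2.1⟩, Subtype.ext v.2.2⟩, fun v => ⟨v.1.1, v.1.2, congrArg Subtype.val v.2⟩,
    fun _ => rfl, fun _ => rfl⟩

theorem card_V6 : Nat.card V6 = 3 ^ 6 := by simp [Nat.card_fun]

theorem fx_card {x : SP} (h : x ≠ 1) : Nat.card (fx x) ∈ [1, 3, 9, 27, 81, 243] := by
  obtain ⟨k, hk, e⟩ := (Nat.dvd_prime_pow Nat.prime_three).1 (card_V6 ▸ (fx x).card_addSubgroup_dvd_card)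
  have : k ≠ 6 := by
    rintro rfl
    have := AddSubgroup.eq_top_of_card_eq _ (e.trans card_V6.symm)
    exact h (Subtype.ext (ext_of_mulVec_single fun i => (this.ge trivial :
      x.1 *ᵥ Pi.single i 1 = Pi.single i 1).trans (one_mulVec _).symm))
  rw [e]
  interval_cases k <;> simp_all

theorem no7 {a : ℕ} (ha : a = 3 ∨ a = 5) (g : PSp 3 (ZMod 3)) : orderOf g ≠ a * 7 := by
  obtain ⟨g, rfl⟩ := QuotientGroup.mk_surjective g
  intro e
  obtain ⟨k1, k2⟩ := lift_pow e (by rcases ha with rfl | rfl <;> decide)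
  obtain ⟨k3, k4⟩ := lift_pow (e.trans (mul_comm a 7)) (by rcases ha with rfl | rfl <;> decide)
  have a1 := fx_mod Nat.prime_seven k1 ⊤ fun _ _ => trivial
  have a2 := fx_mod (by rcases ha with rfl | rfl <;> norm_num) k3 ⊤ fun _ _ => trivial
  have a3 := fx_mod Nat.prime_seven k1 (fx (g ^ (2 * 7))) fun v hv => by
    show (g ^ (2 * 7)).1 *ᵥ (_ *ᵥ v) = _ *ᵥ v
    rw [mulVec_mulVec, ← Submonoid.coe_mul, (Commute.pow_pow_self g _ _).eq, Submonoid.coe_mul, ← mulVec_mulVec]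
    exact congrArg _ hv
  rw [top_inf_eq, AddSubgroup.card_top, card_V6] at a1 a2
  have b1 := fx_card k2
  have b2 := fx_card k4
  simp only [List.mem_cons, List.not_mem_nil, or_false] at b1 b2
  have c1 : Nat.card (fx (g ^ (2 * a))) = 1 := by
    rcases b1 with b | b | b | b | b | b <;> first | exact b | (rw [b] at a1; exact absurd a1 (by decide))
  rw [AddSubgroup.card_eq_one.1 c1, inf_bot_eq, AddSubgroup.card_bot] at a3
  rcases b2 with b | b | b | b | b | b <;> rw [b] at a2 a3 <;> first | exact absurd a3 (by decide) | skip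
  rcases ha with rfl | rfl <;> exact absurd a2 (by decide)

theorem pgr : PGr (PSp 3 (ZMod 3)) where
  dv p hp d := mem_of_dvd hp (hp.dvd_of_dvd_pow (n := 9) (d.trans (by rw [card_P]; norm_num)))
  e13 := by
    haveI : Fact (Nat.Prime 13) := ⟨by norm_num⟩
    exact exists_prime_orderOf_dvd_card' 13 (by rw [card_P]; norm_num)
  ex n hn := by
    simp only [List.mem_cons, List.not_mem_nil, or_false] at hn
    rcases hn with rfl | rfl | rfl | rfl
    · exact ordPQ (p := 2) (q := 3) (fromBlocks !![1, 0, 0; 0, 2, 0; 0, 0, 1] 0 0 !![1, 0, 0; 0, 2, 0; 0, 0, 1])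
        (fromBlocks 1 0 !![0, 0, 0; 0, 2, 0; 0, 0, 0] 1)
        (fromBlocks 1 0 !![0, 0, 0; 0, 1, 0; 0, 0, 0] 1)
        (.inl rfl) (.inl rfl) (by decide) (by decide +kernel) (by decide +kernel) (by decide +kernel) (by decide +kernel)
        (by decide +kernel) (by decide +kernel) (by decide +kernel) (by decide +kernel)
    · exact ordPQ (p := 2) (q := 5) (fromBlocks !![2, 0, 0; 0, 2, 0; 0, 0, 1] 0 0 !![2, 0, 0; 0, 2, 0; 0, 0, 1])
        (fromBlocks !![2, 1, 0; 1, 0, 0; 0, 0, 1] !![2, 0, 0; 1, 0, 0; 0, 0, 0]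
        !![2, 2, 0; 2, 1, 0; 0, 0, 0] !![2, 1, 0; 0, 1, 0; 0, 0, 1])
        (fromBlocks !![0, 0, 0; 1, 0, 0; 0, 0, 1] !![0, 2, 0; 1, 1, 0; 0, 0, 0]
        !![0, 1, 0; 1, 0, 0; 0, 0, 0] !![1, 0, 0; 2, 1, 0; 0, 0, 1])
        (.inl rfl) (.inr (.inl rfl)) (by decide) (by decide +kernel) (by decide +kernel) (by decide +kernel) (by decide +kernel)
        (by decide +kernel) (by decide +kernel) (by decide +kernel) (by decide +kernel)
    · exact ordPQ (p := 2) (q := 7) (fromBlocks !![2, 2, 2; 2, 1, 0; 1, 0, 1] !![1, 1, 2; 1, 0, 2; 2, 2, 2]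
        !![1, 1, 1; 1, 0, 1; 1, 1, 2] !![1, 1, 2; 1, 2, 0; 1, 0, 2])
        (fromBlocks !![2, 1, 0; 1, 2, 2; 2, 0, 2] !![1, 0, 0; 1, 2, 0; 0, 2, 2]
        !![0, 0, 0; 0, 2, 1; 0, 2, 1] !![1, 2, 2; 2, 2, 1; 0, 0, 2])
        (fromBlocks !![2, 1, 2; 2, 0, 1; 2, 1, 2] !![1, 1, 2; 2, 2, 2; 0, 2, 1]
        !![0, 2, 1; 1, 1, 0; 1, 2, 2] !![2, 0, 2; 2, 2, 1; 2, 0, 0])
        (.inl rfl) (.inr (.inr rfl)) (by decide) (by decide +kernel) (by decide +kernel) (by decide +kernel) (by decide +kernel)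
        (by decide +kernel) (by decide +kernel) (by decide +kernel) (by decide +kernel)
    · exact ordPQ (p := 3) (q := 5) (fromBlocks !![2, 0, 1; 2, 1, 2; 2, 0, 0] !![2, 1, 1; 1, 2, 2; 1, 2, 2]
        !![1, 0, 1; 0, 0, 0; 1, 0, 1] !![0, 1, 1; 0, 1, 0; 2, 1, 2])
        (fromBlocks !![0, 0, 2; 2, 0, 1; 2, 1, 1] !![2, 0, 1; 0, 2, 1; 1, 1, 1]
        !![1, 0, 0; 2, 0, 2; 1, 2, 2] !![0, 1, 0; 0, 1, 0; 2, 0, 2])
        (fromBlocks !![1, 1, 1; 1, 0, 2; 2, 0, 1] !![1, 1, 1; 1, 0, 2; 1, 2, 0]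
        !![2, 0, 1; 0, 2, 2; 0, 0, 1] !![2, 1, 1; 0, 0, 1; 2, 2, 0])
        (.inr rfl) (.inr (.inl rfl)) (by decide) (by decide +kernel) (by decide +kernel) (by decide +kernel) (by decide +kernel)
        (by decide +kernel) (by decide +kernel) (by decide +kernel) (by decide +kernel)
  no n hn := by
    simp only [List.mem_cons, List.not_mem_nil, or_false] at hn
    rcases hn with rfl | rfl | rfl | rfl | rfl | rfl
    exacts [no7 (.inl rfl), no13 (a := 2) (by decide) (by decide), no7 (.inr rfl),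
      no13 (a := 3) (by decide) (by decide), no13 (a := 5) (by decide) (by decide),
      no13 (a := 7) (by decide) (by decide)]

theorem psp_congr {K F : Type*} [Field K] [Field F] (e : K ≃+* F) (m : ℕ) : Nonempty (PSp m K ≃* PSp m F) := by
  let f : symplecticGroup (Fin m) K ≃* symplecticGroup (Fin m) F :=
    { toFun := fun x => ⟨x.1.map e, SymplecticGroup.map_mem x.2 e⟩
      invFun := fun x => ⟨x.1.map e.symm, SymplecticGroup.map_mem x.2 e.symm⟩
      left_inv := fun x => Subtype.ext (by ext; simp)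
      right_inv := fun x => Subtype.ext (by ext; simp)
      map_mul' := fun x y => Subtype.ext (Matrix.map_mul (f := (e : K →+* F))) }
  exact ⟨QuotientGroup.congr _ _ f (le_antisymm (by
      rintro _ ⟨x, hx, rfl⟩
      exact mem_center_iff.2 fun y => by
        obtain ⟨y, rfl⟩ := f.surjective y
        exact (map_mul f y x).symm.trans ((congrArg f (mem_center_iff.1 hx y)).trans (map_mul f x y)))
      fun x hx => ⟨f.symm x, mem_center_iff.2 fun y => f.injective (by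
        rw [map_mul, map_mul, f.apply_symm_apply]; exact mem_center_iff.1 hx _), f.apply_symm_apply x⟩)⟩

theorem pgr' {F : Type*} [Field F] [Fintype F] (hF : Fintype.card F = 3) : PGr (PSp 3 F) := by
  obtain ⟨g⟩ := psp_congr (ZMod.ringEquivOfPrime F Nat.prime_three hF) 3
  exact pgr.of_range (Set.ext fun n => ⟨fun ⟨x, h⟩ => ⟨g.symm x, (g.symm.orderOf_eq x).trans h⟩,
    fun ⟨x, h⟩ => ⟨g x, (g.orderOf_eq x).trans h⟩⟩)

end Cfsg.Agent.Ez.S63
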