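import Mathlib
import Cfsg.Agent.Lib.Classical.Zsig

set_option autoImplicit false

namespace Cfsg.Agent.Ez.Lz
open Cfsg.Agent.Classical.Zsig

theorem tot_bound (n : ℕ) (hn : 0 < n) : (Odd n → n ≤ n.totient ^ 2) ∧ n ≤ 2 * n.totient ^ 2 := by
  induction n using Nat.recOnPosPrimePosCoprime with
  | zero => omega
  | one => simp
  | prime_pow p k hp hk =>
    obtain ⟨k, rfl⟩ : ∃ j, k = j + 1 := ⟨k - 1, by omega⟩
    rw [Nat.totient_prime_pow_succ hp, pow_succ]
    obtain ⟨u, rfl⟩ : ∃ u, p = u + 1 := ⟨p - 1, by have := hp.pos; omega⟩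
    have hu : 1 ≤ u := by have := hp.two_le; omega
    have hx : 1 ≤ (u + 1) ^ k := Nat.one_le_pow _ _ (by omega)
    simp only [Nat.add_sub_cancel]
    generalize (u + 1) ^ k = x at hx ⊢
    have hxx : x ≤ x * x := Nat.le_mul_self x
    constructor
    · intro ho
      have hu2 : 2 ≤ u := by
        by_contra h
        have : u = 1 := by omega
        subst this
        rw [← Nat.not_even_iff_odd] at ho
        exact ho ⟨x, by ring⟩
      have h1 : u + 1 ≤ u * u := by nlinarith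
      calc x * (u + 1) ≤ (x * x) * (u * u) := Nat.mul_le_mul hxx h1
        _ = (x * u) ^ 2 := by ring
    · have h1 : u + 1 ≤ 2 * (u * u) := by nlinarith
      calc x * (u + 1) ≤ (x * x) * (2 * (u * u)) := Nat.mul_le_mul hxx h1
        _ = 2 * (x * u) ^ 2 := by ring
  | coprime a b ha hb hab iha ihb =>
    have h1 := iha (by omega)
    have h2 := ihb (by omega)
    rw [Nat.totient_mul hab]
    constructor
    · intro ho
      rw [Nat.odd_mul] at ho
      calc a * b ≤ a.totient ^ 2 * b.totient ^ 2 := Nat.mul_le_mul (h1.1 ho.1) (h2.1 ho.2)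
        _ = _ := by ring
    · rcases Nat.even_or_odd a with he | ho
      · have hob : Odd b := by
          rw [← Nat.not_even_iff_odd]
          intro heb
          have := Nat.dvd_gcd he.two_dvd heb.two_dvd
          rw [hab] at this
          omega
        calc a * b ≤ (2 * a.totient ^ 2) * b.totient ^ 2 := Nat.mul_le_mul h1.2 (h2.1 hob)
          _ = _ := by ring
      · calc a * b ≤ a.totient ^ 2 * (2 * b.totient ^ 2) := Nat.mul_le_mul (h1.1 ho) h2.2
          _ = _ := by ring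

theorem Phi_sq (a n : ℕ) (ha : 2 ≤ a) (hn : 3 ≤ n) : 2 ^ n.totient ≤ Phi n a ^ 2 := by
  rcases ha.eq_or_lt with rfl | ha3
  · have hex : ∃ p m, p.Prime ∧ n = m * p ∧ (p ∣ m ∨ (3 ≤ p ∧ ¬ p ∣ m)) := by
      by_cases h4 : 4 ∣ n
      · obtain ⟨c, rfl⟩ := h4
        exact ⟨2, 2 * c, Nat.prime_two, by ring, Or.inl (dvd_mul_right _ _)⟩
      · obtain ⟨k, w, hw, rfl⟩ := Nat.exists_eq_pow_mul_and_not_dvd (n := n) (by omega) 2 (by norm_num)
        have hw1 : w ≠ 1 := by
          rintro rfl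
          rcases k with _ | _ | k
          · omega
          · omega
          · exact h4 ⟨2 ^ k, by ring⟩
        obtain ⟨p, hp, c, rfl⟩ := Nat.exists_prime_and_dvd hw1
        have hp3 : 3 ≤ p := by
          have := hp.two_le
          by_contra h
          have : p = 2 := by omega
          subst this
          exact hw (dvd_mul_right _ _)
        refine ⟨p, 2 ^ k * c, hp, by ring, ?_⟩
        by_cases h : p ∣ 2 ^ k * c
        · exact Or.inl h
        · exact Or.inr ⟨hp3, h⟩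
    obtain ⟨p, m, hp, rfl, h | ⟨h3, h⟩⟩ := hex
    · have h4 : 2 ^ 2 ≤ 2 ^ p := Nat.pow_le_pow_right (by norm_num) hp.two_le
      have h1 := le_Phi m (2 ^ p) (by omega)
      rw [Phi_mul_of_dvd hp h, mul_comm m p, Nat.totient_mul_of_prime_of_dvd hp h, pow_mul]
      refine le_trans ?_ (Nat.pow_le_pow_left h1 2)
      rw [← pow_mul (2 ^ p - 1), mul_comm _ 2, pow_mul]
      refine Nat.pow_le_pow_left ?_ _
      obtain ⟨y, hy⟩ : ∃ y, 2 ^ p = y + 1 := ⟨2 ^ p - 1, by omega⟩
      rw [hy] at h4 ⊢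
      simp only [Nat.add_sub_cancel]
      nlinarith
    · obtain ⟨u, rfl⟩ : ∃ u, p = u + 1 := ⟨p - 1, by omega⟩
      have h4 : 2 ^ 2 ≤ 2 ^ u := Nat.pow_le_pow_right (by norm_num) (by omega)
      have h1 := le_Phi m (2 ^ (u + 1)) (by rw [pow_succ]; omega)
      have h2 := Phi_le m 2 (by norm_num)
      rw [← Phi_mul_of_not_dvd hp h] at h1
      have ht : (m * (u + 1)).totient = u * m.totient := by
        rw [mul_comm m, Nat.totient_mul_of_prime_of_not_dvd hp h]; simp
      rw [ht, pow_mul]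
      generalize Phi (m * (u + 1)) 2 = F at h1 ⊢
      have h5 : (2 ^ (u + 1) - 1) ^ m.totient ≤ F * 3 ^ m.totient := h1.trans (Nat.mul_le_mul_left _ h2)
      have h6 : 2 ^ u * 9 ≤ (2 ^ (u + 1) - 1) ^ 2 := by
        rw [pow_succ 2 u]
        obtain ⟨y, hy⟩ : ∃ y, 2 ^ u * 2 = y + 1 := ⟨2 ^ u * 2 - 1, by omega⟩
        rw [hy]
        simp only [Nat.add_sub_cancel]
        nlinarith
      have h7 : (2 ^ u) ^ m.totient * 9 ^ m.totient ≤ F ^ 2 * 9 ^ m.totient := by
        calc (2 ^ u) ^ m.totient * 9 ^ m.totient = (2 ^ u * 9) ^ m.totient := by rw [mul_pow]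
          _ ≤ ((2 ^ (u + 1) - 1) ^ 2) ^ m.totient := Nat.pow_le_pow_left h6 _
          _ = ((2 ^ (u + 1) - 1) ^ m.totient) ^ 2 := by rw [← pow_mul, ← pow_mul, mul_comm]
          _ ≤ (F * 3 ^ m.totient) ^ 2 := Nat.pow_le_pow_left h5 _
          _ = F ^ 2 * 9 ^ m.totient := by
            rw [mul_pow, ← pow_mul, mul_comm m.totient 2, pow_mul]; norm_num
      exact Nat.le_of_mul_le_mul_right h7 (by positivity)
  · have h1 := le_Phi n a (by omega)
    have h2 : 2 ^ n.totient ≤ (a - 1) ^ n.totient := Nat.pow_le_pow_left (by omega) _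
    exact (h2.trans h1).trans (Nat.le_self_pow (by norm_num) _)

theorem ineq9 (f : ℕ) (hf : 2 ≤ f) : (f + 1) * (6 * f ^ 2 + 1) ≤ 9 ^ f := by
  induction f, hf using Nat.le_induction with
  | base => norm_num
  | succ f hf ih =>
    rw [pow_succ 9]
    have : (f + 1 + 1) * (6 * (f + 1) ^ 2 + 1) ≤ ((f + 1) * (6 * f ^ 2 + 1)) * 9 := by nlinarith
    omega

theorem ineq2 (f : ℕ) (hf : 37 ≤ f) : 49 * f ^ 6 ≤ 2 ^ f := by
  induction f, hf using Nat.le_induction with
  | base => norm_num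
  | succ f hf ih =>
    have h1 : (10 * (f + 1)) ^ 6 ≤ (11 * f) ^ 6 := Nat.pow_le_pow_left (by omega) _
    rw [mul_pow, mul_pow] at h1
    rw [pow_succ 2]
    omega

theorem big (a n : ℕ) (ha : 2 ≤ a) (hn : 3 ≤ n) (h : 10 ≤ a ∨ 37 ≤ n.totient) :
    (n.totient + 1) * (3 * n + 1) ≤ Phi n a := by
  have h1 := (tot_bound n (by omega)).2
  have h2 : (n.totient + 1) * (3 * n + 1) ≤ (n.totient + 1) * (6 * n.totient ^ 2 + 1) :=
    Nat.mul_le_mul_left _ (by omega)
  refine h2.trans ?_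
  rcases h with h | h
  · have hf : 2 ≤ n.totient := by
      by_contra hc
      have : n.totient ^ 2 ≤ 1 ^ 2 := Nat.pow_le_pow_left (by omega) _
      omega
    exact (ineq9 _ hf).trans ((Nat.pow_le_pow_left (by omega) _).trans (le_Phi n a (by omega)))
  · have h3 := (ineq2 _ h).trans (Phi_sq a n ha hn)
    generalize n.totient = f at h h3 ⊢
    have h4 : (f + 1) * (6 * f ^ 2 + 1) ≤ 7 * f ^ 3 := by nlinarith
    refine h4.trans ?_
    rw [← Nat.pow_le_pow_iff_left (n := 2) (by norm_num)]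
    calc (7 * f ^ 3) ^ 2 = 49 * f ^ 6 := by ring
      _ ≤ _ := h3

theorem prim_of_big (a n : ℕ) (ha : 2 ≤ a) (hn : 3 ≤ n) (h : (n.totient + 1) * (3 * n + 1) ≤ Phi n a) :
    ∃ m : ℕ, m ∣ a ^ n - 1 ∧ (∀ i : ℕ, 1 ≤ i → i < n → Nat.Coprime m (a ^ i - 1)) ∧ 3 * n + 1 ≤ m := by
  have key : ∀ m : ℕ, m ∣ Phi n a → (∀ s : ℕ, s.Prime → s ∣ m → ¬ s ∣ n) →
      ∀ i : ℕ, 1 ≤ i → i < n → Nat.Coprime m (a ^ i - 1) := by
    intro m hm hs i hi hin
    refine Nat.coprime_of_dvd fun s hsp hsm => ?_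
    exact (ppd_of_not_dvd hsp (by omega) (hs s hsp hsm) (hsm.trans hm)).1 i (by omega) hin
  by_cases hr : ∃ r : ℕ, r.Prime ∧ r ∣ n ∧ r ∣ Phi n a
  · obtain ⟨r, hr, hrn, m, hm⟩ := hr
    have hmd : m ∣ Phi n a := ⟨r, by rw [hm, mul_comm]⟩
    have hrd : r ∣ Phi n a := ⟨m, hm⟩
    refine ⟨m, hmd.trans (Phi_dvd n a (by omega)), key m hmd fun s hs hsm hsn => ?_, ?_⟩
    · have hsr : s = r := le_antisymm (prime_le_of_dvd hr hs (by omega) (by omega) hrn hrd hsn)
        (prime_le_of_dvd hs hr (by omega) (by omega) hsn (hsm.trans hmd) hrn)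
      subst hsr
      refine sq_not_dvd hr (a := a) (by omega) (by omega) (by omega) hrn ?_
      rw [hm, pow_two]
      exact Nat.mul_dvd_mul_left _ hsm
    · have h1 : r.totient ∣ n.totient := Nat.totient_dvd_of_dvd hrn
      rw [Nat.totient_prime hr] at h1
      have h2 := Nat.le_of_dvd (Nat.totient_pos.2 (by omega)) h1
      have h3 : r * (3 * n + 1) ≤ r * m := by
        rw [← hm]
        exact (Nat.mul_le_mul_right _ (by omega)).trans h
      exact Nat.le_of_mul_le_mul_left h3 hr.pos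
  · push Not at hr
    refine ⟨Phi n a, Phi_dvd n a (by omega), key _ dvd_rfl fun s hs hsm hsn => hr s hs hsn hsm, ?_⟩
    exact (Nat.le_mul_of_pos_left _ (by omega)).trans h

/-- remove from `N` the factors common with `d` -/
def strip : ℕ → ℕ → ℕ → ℕ
  | 0, N, _ => N
  | f + 1, N, d => match Nat.gcd N d with
    | 0 => N
    | 1 => N
    | g + 2 => match N / (g + 2) with
      | 0 => 0
      | M + 1 => strip f (M + 1) d

/-- remove the factors common with `a ^ j - 1`, `1 ≤ j ≤ i` -/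
def go (a : ℕ) : ℕ → ℕ → ℕ
  | 0, N => N
  | i + 1, N => match strip 30 N (a ^ (i + 1) - 1) with
    | 0 => 0
    | M + 1 => go a i (M + 1)

/-- the exceptional pairs -/
def exc : List (ℕ × ℕ) :=
  [(2, 6), (2, 4), (2, 10), (2, 12), (2, 18), (3, 4), (3, 6), (5, 6), (2, 3), (2, 8), (2, 20), (4, 3), (4, 6)]

/-- the check of one pair -/
def chk (a n : ℕ) : Bool :=
  decide ((a, n) ∈ exc) || match go a (n - 1) (a ^ n - 1) with
    | 0 => false
    | m + 1 => ((a ^ n - 1) % (m + 1) == 0) && (List.range n).all (fun i => i == 0 || Nat.gcd (m + 1) (a ^ i - 1) == 1)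
        && Nat.ble (3 * n + 1) (m + 1)

theorem chk_sound (a n : ℕ) (h : chk a n = true) (hx : (a, n) ∉ exc) :
    ∃ m : ℕ, m ∣ a ^ n - 1 ∧ (∀ i : ℕ, 1 ≤ i → i < n → Nat.Coprime m (a ^ i - 1)) ∧ 3 * n + 1 ≤ m := by
  unfold chk at h
  rw [decide_eq_false hx, Bool.false_or] at h
  split at h
  · exact absurd h (by simp)
  · rename_i m _
    simp only [Bool.and_eq_true, beq_iff_eq, List.all_eq_true, List.mem_range, Bool.or_eq_true, Nat.ble_eq] at h
    refine ⟨m + 1, Nat.dvd_of_mod_eq_zero h.1.1, fun i hi hin => ?_, h.2⟩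
    rcases h.1.2 i hin with h0 | h0
    · omega
    · exact h0


end Cfsg.Agent.Ez.Lz
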