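import Mathlib
import Cfsg.Agent.Lib.Ez.J1

set_option autoImplicit false

namespace Cfsg.Agent.Ez.Lz
open Cfsg.Agent.Classical.Zsig

theorem chk_all : (List.range 8).all (fun a => (List.range 124).all (fun n => chk (a + 2) (n + 3))) = true := by
  decide +kernel


end Cfsg.Agent.Ez.Lz
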