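import Mathlib
import Cfsg.Agent.Lib.Ez.J1

set_option autoImplicit false

namespace Cfsg.Agent.Ez.Lz
open Cfsg.Agent.Classical.Zsig

theorem cnt_all : (List.range 2466).all (fun n =>
    Nat.ble 37 ((List.range 200).filter (fun k => Nat.blt k (n + 127) && Nat.gcd (n + 127) k == 1)).length) = true := by
  decide +kernel


end Cfsg.Agent.Ez.Lz
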