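import Mathlib
import Cfsg.Agent.Lib.Ez.J3
import Cfsg.Agent.Lib.Ez.J2

set_option autoImplicit false

namespace Cfsg.Agent.Ez.Lz
open Cfsg.Agent.Classical.Zsig

theorem small_of_tot (n : ℕ) (hn : 3 ≤ n) (h : n.totient ≤ 36) : n ≤ 126 := by
  by_contra hc
  have h1 := (tot_bound n (by omega)).2
  have h2 : n.totient ^ 2 ≤ 36 ^ 2 := Nat.pow_le_pow_left h _
  obtain ⟨k, rfl⟩ : ∃ k, n = k + 127 := ⟨n - 127, by omega⟩
  have h3 := List.all_eq_true.1 cnt_all k (List.mem_range.2 (by omega))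
  rw [Nat.ble_eq] at h3
  have h4 : ((List.range 200).filter (fun j => Nat.blt j (k + 127) && Nat.gcd (k + 127) j == 1)).length
      ≤ (k + 127).totient := by
    rw [← List.toFinset_card_of_nodup (List.nodup_range.filter _), Nat.totient_eq_card_coprime]
    refine Finset.card_le_card fun j hj => ?_
    simp only [List.mem_toFinset, List.mem_filter, Bool.and_eq_true, Nat.blt_eq, beq_iff_eq] at hj
    exact Finset.mem_filter.2 ⟨Finset.mem_range.2 hj.2.1, hj.2.2⟩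
  omega

theorem prim_big (a n : ℕ) (ha : 2 ≤ a) (hn : 3 ≤ n) (hx : (a, n) ∉ exc) :
    ∃ m : ℕ, m ∣ a ^ n - 1 ∧ (∀ i : ℕ, 1 ≤ i → i < n → Nat.Coprime m (a ^ i - 1)) ∧ 3 * n + 1 ≤ m := by
  by_cases h : 10 ≤ a ∨ 37 ≤ n.totient
  · exact prim_of_big a n ha hn (big a n ha hn h)
  · have h1 := small_of_tot n hn (by omega)
    obtain ⟨a, rfl⟩ : ∃ k, a = k + 2 := ⟨a - 2, by omega⟩
    obtain ⟨n, rfl⟩ : ∃ k, n = k + 3 := ⟨n - 3, by omega⟩
    have h2 := List.all_eq_true.1 (List.all_eq_true.1 chk_all a (List.mem_range.2 (by omega))) n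
      (List.mem_range.2 (by omega))
    exact chk_sound _ _ h2 hx

theorem exc_small : ∀ x ∈ exc, ∃ B ∈ [1, x.2 + 1, 2 * x.2 + 1],
    x.1 ^ x.2 - 1 ∣ B * (∏ i ∈ Finset.Ico 1 x.2, (x.1 ^ i - 1)) ^ 2 := by
  decide +kernel

theorem prim_small (a n : ℕ) (hx : (a, n) ∈ exc) (m : ℕ) (hm : m ∣ a ^ n - 1)
    (hc : ∀ i : ℕ, 1 ≤ i → i < n → Nat.Coprime m (a ^ i - 1)) : m ≤ 2 * n + 1 := by
  obtain ⟨B, hB, hd⟩ := exc_small _ hx
  have h1 : Nat.Coprime m ((∏ i ∈ Finset.Ico 1 n, (a ^ i - 1)) ^ 2) :=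
    (Nat.Coprime.prod_right fun i hi => hc i (Finset.mem_Ico.1 hi).1 (Finset.mem_Ico.1 hi).2).pow_right 2
  have h2 : m ∣ B := h1.dvd_of_dvd_mul_right (hm.trans hd)
  simp only [List.mem_cons, List.not_mem_nil, or_false] at hB
  have h3 := Nat.le_of_dvd (by omega) h2
  omega

end Cfsg.Agent.Ez.Lz
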