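import Mathlib
import Cfsg.Agent.S3763
import Cfsg.Agent.S5395
import Cfsg.Agent.Lib.Transfer.PG

set_option autoImplicit false
set_option linter.style.haveILetI false

namespace Cfsg.Agent.Ez.X32
open Subgroup
open scoped commutatorElement

/-- a model of the extraspecial group of order 32 and minus type -/
def M : Type := Bool × Bool × Bool × Bool × Bool

instance : DecidableEq M := inferInstanceAs (DecidableEq (Bool × Bool × Bool × Bool × Bool))
instance : Fintype M := inferInstanceAs (Fintype (Bool × Bool × Bool × Bool × Bool))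

/-- the product -/
def mul : M → M → M
  | (s, a, b, c, d), (t, e, f, g, h) =>
    (s ^^ t ^^ (b && e) ^^ (c && (e ^^ f)) ^^ (d && (e ^^ f ^^ g)), a ^^ e, b ^^ f, c ^^ g, d ^^ h)

/-- the unit -/
def one : M := (false, false, false, false, false)

theorem fa {p : M → Prop} (h : ∀ s a b c d : Bool, p (s, a, b, c, d)) : ∀ x, p x :=
  fun ⟨s, a, b, c, d⟩ => h s a b c d

instance : Group M where
  mul := mul
  one := one
  inv x := mul x (mul x x)
  mul_assoc := by
    rintro ⟨s, a, b, c, d⟩ ⟨t, e, f, g, h⟩ ⟨u, i, j, k, l⟩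
    show mul (mul _ _) _ = mul _ (mul _ _)
    revert s a b c d t e f g h u i j k l
    decide +kernel
  one_mul := show ∀ x : M, mul one x = x by decide +kernel
  mul_one := show ∀ x : M, mul x one = x by decide +kernel
  inv_mul_cancel := show ∀ x : M, mul (mul x (mul x x)) x = one by
    decide +kernel

/-- the central involution -/
def z : M := (true, false, false, false, false)

/-- five pairwise non-commuting involutions -/
def E : Fin 5 → M := ![(false, true, false, false, false), (false, false, true, false, false),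
  (false, false, false, true, false), (false, false, false, false, true), (false, true, true, true, true)]

/-- the index of a non-central involution -/
def idx : M → Fin 5
  | (_, a, b, c, _) => if a then (if b then 4 else 0) else if b then 1 else if c then 2 else 3

theorem card_M : Nat.card M = 32 := by
  rw [Nat.card_eq_fintype_card]; rfl

theorem cen_aux : ∀ x : M, (∀ g : M, g * x = x * g) ↔ x = 1 ∨ x = z := by decide +kernel

theorem mem_cen {x : M} : x ∈ center M ↔ x = 1 ∨ x = z := by
  rw [mem_center_iff]; exact cen_aux x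

theorem comm_aux : ∀ x y : M, x * y * x⁻¹ * y⁻¹ = 1 ∨ x * y * x⁻¹ * y⁻¹ = z := by decide +kernel
theorem sq_aux : ∀ x : M, x * x = 1 ∨ x * x = z := by decide +kernel
theorem four_aux : ∀ x : M, x * x * (x * x) = 1 := by decide +kernel
theorem z_aux : E 0 * E 1 * (E 0)⁻¹ * (E 1)⁻¹ = z ∧ (E 0 * E 1) * (E 0 * E 1) = z ∧ z ≠ 1 := by decide +kernel
theorem el_aux : ∀ x y : M, x * x = 1 → y * y = 1 → x * y = y * x → ¬ (x = 1 ∨ x = z) →
    y = 1 ∨ y = z ∨ y = x ∨ y = z * x := by decide +kernel
theorem inv_aux : ∀ x : M, x * x = 1 → ¬ (x = 1 ∨ x = z) → x = E (idx x) ∨ x = z * E (idx x) := by decide +kernel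
theorem E_aux : ∀ i : Fin 5, E i * E i = 1 ∧ ¬ (E i = 1 ∨ E i = z) ∧ idx (E i) = i ∧
    (E i * (E i)⁻¹ = 1 ∨ E i * (E i)⁻¹ = z) ∧ (z * E i * (E i)⁻¹ = 1 ∨ z * E i * (E i)⁻¹ = z) := by decide +kernel
theorem idx_z : ∀ x : M, idx (z * x) = idx x := by decide +kernel
theorem idx_conj : ∀ (g : M) (i : Fin 5), idx (g * E i * g⁻¹) = i := by decide +kernel
theorem gen_aux : ∀ x : M, ∃ s ∈ [1, z], ∃ a ∈ [1, E 0], ∃ b ∈ [1, E 1], ∃ c ∈ [1, E 2], ∃ d ∈ [1, E 3],
    x = s * a * b * c * d := by decide +kernel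

theorem pg : IsPGroup 2 M := fun g => ⟨2, by
  rw [show 2 ^ 2 = 2 + 2 from rfl, pow_add, pow_two]; exact four_aux g⟩

theorem extra : Cfsg.IsExtraspecial 2 M := by
  haveI := Fact.mk Nat.prime_two
  have h1 : commutator M ≤ center M := commutator_le.2 fun g _ h _ => mem_cen.2 (comm_aux g h)
  refine ⟨⟨pg, le_antisymm ?_ ?_, le_antisymm h1 ?_⟩, ?_⟩
  · exact Solv.frattini_le_of_commutator_le_of_pow_mem (p := 2) h1
      fun x => mem_cen.2 (by rw [pow_two]; exact sq_aux x)
  · intro x hx
    rcases mem_cen.1 hx with rfl | rfl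
    · exact one_mem _
    · rw [← z_aux.2.1, ← pow_two]; exact Solv.pow_mem_frattini pg _
  · intro x hx
    rcases mem_cen.1 hx with rfl | rfl
    · exact one_mem _
    · rw [← z_aux.1]; exact commutator_mem_commutator (mem_top _) (mem_top _)
  · have : (center M : Set M) = {1, z} := Set.ext fun x => mem_cen
    rw [← SetLike.coe_sort_coe, this, Nat.card_coe_set_eq, Set.ncard_pair z_aux.2.2.symm]

theorem rank2 : Cfsg.PRankLE 2 2 M := by
  intro A hA h2
  have key : ∀ x : M, (∀ y ∈ A, y = 1 ∨ y = z ∨ y = x ∨ y = z * x) → Nat.card A ≤ 2 ^ 2 := by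
    intro x hx
    have h3 : (A : Set M) ⊆ (({1, z, x, z * x} : Finset M) : Set M) := fun y hy => by simpa using hx y hy
    rw [← SetLike.coe_sort_coe, Nat.card_coe_set_eq]
    refine (Set.ncard_le_ncard h3).trans ?_
    rw [Set.ncard_coe_finset]
    exact Finset.card_le_four
  by_cases h : ∃ x ∈ A, ¬ (x = 1 ∨ x = z)
  · obtain ⟨x, hx, hx1⟩ := h
    refine key x fun y hy => el_aux x y (by rw [← pow_two]; exact h2 x hx) (by rw [← pow_two]; exact h2 y hy) ?_ hx1
    exact congrArg Subtype.val (hA.is_comm.comm ⟨x, hx⟩ ⟨y, hy⟩)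
  · refine key 1 fun y hy => ?_
    have : y = 1 ∨ y = z := by
      by_contra h'
      exact h ⟨y, hy, h'⟩
    tauto

theorem aut_cen (φ : MulAut M) {x : M} : φ x = 1 ∨ φ x = z ↔ x = 1 ∨ x = z := by
  rw [← mem_cen, ← mem_cen, mem_center_iff, mem_center_iff]
  constructor
  · intro h g
    apply φ.injective
    rw [map_mul, map_mul, h]
  · intro h g
    obtain ⟨g, rfl⟩ := φ.surjective g
    rw [← map_mul, ← map_mul, h]

theorem aut_z (φ : MulAut M) : φ z = z := by
  rcases (aut_cen φ).2 (Or.inr rfl) with h | h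
  · exact absurd ((map_eq_one_iff φ φ.injective).1 h) z_aux.2.2
  · exact h

theorem aut_E (φ : MulAut M) (i : Fin 5) : φ (E i) = E (idx (φ (E i))) ∨ φ (E i) = z * E (idx (φ (E i))) :=
  inv_aux _ (by rw [← map_mul, (E_aux i).1, map_one]) (by rw [aut_cen]; exact (E_aux i).2.1)

/-- the action on the five classes of non-central involutions -/
@[reducible] def act : MulAction (MulAut M) (Fin 5) where
  smul φ i := idx (φ (E i))
  one_smul i := (E_aux i).2.2.1
  mul_smul φ ψ i := by
    show idx (φ (ψ (E i))) = idx (φ (E (idx (ψ (E i)))))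
    rcases aut_E ψ i with h | h
    · rw [← h]
    · conv_lhs => rw [h]
      rw [map_mul, aut_z, idx_z]

/-- the action as a homomorphism -/
def fM : MulAut M →* Equiv.Perm (Fin 5) := @MulAction.toPermHom _ _ _ act

theorem fM_apply (φ : MulAut M) (i : Fin 5) : fM φ i = idx (φ (E i)) := rfl

theorem fM_ker (φ : MulAut M) : fM φ = 1 ↔ ∃ g : M, ∀ x, φ x = g * x * g⁻¹ := by
  constructor
  · intro h
    refine S5395.result extra φ fun x => ?_
    have h1 : ∀ y : M, y ∈ ((QuotientGroup.mk' (center M)).comp φ.toMonoidHom).eqLocus (QuotientGroup.mk' (center M)) ↔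
        φ y * y⁻¹ ∈ center M := fun y => by
      show ((φ y : M) : M ⧸ center M) = (y : M ⧸ center M) ↔ _
      rw [QuotientGroup.eq_iff_div_mem, div_eq_mul_inv]
    have h2 : ∀ i, φ (E i) * (E i)⁻¹ ∈ center M := fun i => by
      have h3 : idx (φ (E i)) = i := by rw [← fM_apply, h]; rfl
      have h4 := aut_E φ i
      rw [h3] at h4
      rcases h4 with h4 | h4 <;> rw [h4, mem_cen]
      · exact (E_aux i).2.2.2.1
      · exact (E_aux i).2.2.2.2
    have h5 : ∀ a b : M, φ b * b⁻¹ ∈ center M → a ∈ [1, b] → a ∈ ((QuotientGroup.mk' (center M)).comp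
        φ.toMonoidHom).eqLocus (QuotientGroup.mk' (center M)) := fun a b hb ha => by
      simp only [List.mem_cons, List.not_mem_nil, or_false] at ha
      rcases ha with rfl | rfl
      · exact one_mem _
      · exact (h1 _).2 hb
    obtain ⟨s, hs, a, ha, b, hb, c, hc, d, hd, rfl⟩ := gen_aux x
    exact (h1 _).1 (mul_mem (mul_mem (mul_mem (mul_mem (h5 s z (by rw [aut_z, mul_inv_cancel]; exact one_mem _) hs)
      (h5 a _ (h2 0) ha)) (h5 b _ (h2 1) hb)) (h5 c _ (h2 2) hc)) (h5 d _ (h2 3) hd))
  · rintro ⟨g, hg⟩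
    ext i
    rw [fM_apply, hg, idx_conj]; rfl

/-- the endomorphism with given images of the generators -/
def hm (p q r t : M) : M → M
  | (s, a, b, c, d) => (if s then z else 1) * (if a then p else 1) * (if b then q else 1) * (if c then r else 1) *
    (if d then t else 1)

/-- an automorphism of order dividing four -/
def mkA (f : M → M) (h : (∀ x y, f (x * y) = f x * f y) ∧ ∀ x, f (f (f (f x))) = x) : MulAut M where
  toFun := f
  invFun x := f (f (f x))
  left_inv := h.2
  right_inv := h.2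
  map_mul' := h.1

/-- the four automorphisms -/
def tr : Fin 4 → M → M := ![hm (E 1) (E 0) (E 2) (E 3), hm (E 0) (E 2) (E 1) (E 3), hm (E 0) (E 1) (E 3) (E 2),
  hm (E 0) (E 1) (E 2) (E 4)]

theorem tr_aux : ∀ i : Fin 4, (∀ x y, tr i (x * y) = tr i x * tr i y) ∧ ∀ x, tr i (tr i (tr i (tr i x))) = x := by
  decide +kernel

theorem tr_idx : ∀ (i : Fin 4) (j : Fin 5), idx (tr i (E j)) = Equiv.swap i.castSucc i.succ j := by
  decide +kernel

theorem fM_surj : Function.Surjective fM := by
  rw [← MonoidHom.mrange_eq_top, eq_top_iff, ← Equiv.Perm.mclosure_swap_castSucc_succ 4, Submonoid.closure_le]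
  rintro _ ⟨i, rfl⟩
  exact ⟨mkA (tr i) (tr_aux i), Equiv.ext (tr_idx i)⟩

end Cfsg.Agent.Ez.X32
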