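import Mathlib
import Cfsg.Agent.Lib.Char.U3b
import Cfsg.Agent.S0279

set_option autoImplicit false
set_option linter.style.haveILetI false
set_option linter.unusedSectionVars false

namespace Cfsg.Agent.Ez.Gs
open Subgroup Finset
open scoped commutatorElement _root_.Classical

variable {S : Type*} [Group S] [Fintype S]

theorem orth (H : Subgroup S) {_ : DecidablePred (· ∈ H)} (g : S → ℤˣ) (hg : ∀ x ∈ H, ∀ y ∈ H, g (x * y) = g x * g y) :
    ∑ x ∈ univ.filter (· ∈ H), (g x : ℤ) =
      if ∀ x ∈ H, g x = 1 then ((univ.filter (· ∈ H)).card : ℤ) else 0 := by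
  split_ifs with h
  · rw [sum_congr rfl fun x hx => by rw [h x (mem_filter.1 hx).2]]
    simp
  · rw [sum_subtype (p := (· ∈ H)) _ (by simp)]
    exact sum_hom_units_eq_zero ((Units.coeHom ℤ).comp (MonoidHom.mk' (fun x : H => g x)
      fun x y => hg x x.2 y y.2)) fun e => h fun x hx => Units.ext (DFunLike.congr_fun e (⟨x, hx⟩ : H) :)

theorem orth_top (g : S → ℤˣ) (hg : ∀ x y, g (x * y) = g x * g y) :
    ∑ x, (g x : ℤ) = if ∀ x, g x = 1 then (Fintype.card S : ℤ) else 0 := by
  have := @orth _ _ _ ⊤ (_root_.Classical.decPred _) g fun x _ y _ => hg x y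
  simpa using this

theorem gauss (f : S → ℤˣ) (b : S → S → ℤˣ) (hf : ∀ x y, f (x * y) = f x * f y * b x y)
    (hl : ∀ x x' y, b (x * x') y = b x y * b x' y) (hr : ∀ x y y', b x (y * y') = b x y * b x y')
    (U : Subgroup S) (hU : ∀ u ∈ U, f u = 1) (hT : ∑ x, (f x : ℤ) < 0) :
    ((univ.filter (· ∈ U)).card : ℤ) < -∑ x, (f x : ℤ) := by
  have b1 : ∀ y, b 1 y = 1 := fun y => by simpa using hl 1 1 y
  have b2 : ∀ x, b x 1 = 1 := fun x => by simpa using hr x 1 1
  let W : Subgroup S :=
    { carrier := {y | ∀ x, b x y = 1}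
      one_mem' := b2
      mul_mem' := fun {y y'} hy hy' x => by rw [hr, hy x, hy' x, one_mul]
      inv_mem' := fun {y} hy x => by
        have := hr x y y⁻¹
        rwa [mul_inv_cancel, b2, hy x, one_mul, eq_comm] at this }
  have hW : ∀ y, y ∈ W ↔ ∀ x, b x y = 1 := fun _ => Iff.rfl
  set T := ∑ x, (f x : ℤ) with hTdef
  set u : ℤ := ((univ.filter (· ∈ U)).card : ℤ) with hu
  set w : ℤ := ((univ.filter (· ∈ W)).card : ℤ) with hw
  set s : ℤ := (Fintype.card S : ℤ) with hs
  set P := univ.filter (fun x => ∀ y ∈ U, b x y = 1) with hP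
  have hu0 : 0 < u := by
    rw [hu]; exact_mod_cast card_pos.2 ⟨1, by simp⟩
  have e1 : u * T = u * ∑ x ∈ P, (f x : ℤ) := by
    calc u * T = ∑ y ∈ univ.filter (· ∈ U), ∑ x, (f (x * y) : ℤ) := by
          rw [sum_congr rfl fun y _ => (show ∑ x, (f (x * y) : ℤ) = T from
            Equiv.sum_comp (Equiv.mulRight y) fun x => (f x : ℤ))]
          simp [hu]
      _ = ∑ x, (f x : ℤ) * ∑ y ∈ univ.filter (· ∈ U), (b x y : ℤ) := by
          rw [sum_comm]
          refine sum_congr rfl fun x _ => ?_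
          rw [mul_sum]
          refine sum_congr rfl fun y hy => ?_
          rw [hf, hU y (mem_filter.1 hy).2]; simp
      _ = _ := by
          rw [hP, sum_filter, mul_sum]
          refine sum_congr rfl fun x _ => ?_
          rw [orth U (b x) fun y _ y' _ => hr x y y']
          split_ifs <;> simp [hu, mul_comm]
  have e2 : (P.card : ℤ) * u ≤ s * w := by
    calc (P.card : ℤ) * u = ∑ x, ∑ y ∈ univ.filter (· ∈ U), (b x y : ℤ) := by
          rw [sum_congr rfl fun x _ => orth U (b x) fun y _ y' _ => hr x y y', ← sum_filter]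
          simp [hP, hu]
      _ = ∑ y ∈ univ.filter (· ∈ U), if y ∈ W then s else 0 := by
          rw [sum_comm]
          refine sum_congr rfl fun y _ => ?_
          rw [orth_top (fun x => b x y) fun x x' => hl x x' y]
          simp only [hW, hs]
      _ ≤ ∑ y, if y ∈ W then s else 0 :=
          sum_le_sum_of_subset_of_nonneg (filter_subset _ _) fun y _ _ => by split_ifs <;> simp [hs]
      _ = _ := by rw [← sum_filter]; simp [hw, mul_comm]
  have e3 : T * T = s * ∑ y ∈ univ.filter (· ∈ W), (f y : ℤ) := by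
    calc T * T = ∑ x, ∑ y, (f x : ℤ) * f (x * y) := by
          rw [hTdef, sum_mul]
          refine sum_congr rfl fun x _ => ?_
          rw [← mul_sum, show ∑ y, (f (x * y) : ℤ) = ∑ y, (f y : ℤ) from
            Equiv.sum_comp (Equiv.mulLeft x) fun y => (f y : ℤ)]
      _ = ∑ y, (f y : ℤ) * ∑ x, (b x y : ℤ) := by
          rw [sum_comm]
          refine sum_congr rfl fun y _ => ?_
          rw [mul_sum]
          refine sum_congr rfl fun x _ => ?_
          rw [hf, ← Units.val_mul, ← mul_assoc, ← mul_assoc, Int.units_mul_self, one_mul, Units.val_mul]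
      _ = _ := by
          rw [sum_filter, mul_sum]
          refine sum_congr rfl fun y _ => ?_
          rw [orth_top (fun x => b x y) fun x x' => hl x x' y]
          simp only [hW]
          split_ifs <;> simp [hs, mul_comm]
  rw [orth W f fun x _ y hy => by rw [hf, hy x, mul_one]] at e3
  have e4 : T * T = s * w := by
    split_ifs at e3
    · exact e3
    · nlinarith
  have e5 : T = ∑ x ∈ P, (f x : ℤ) := mul_left_cancel₀ hu0.ne' e1
  have f1 : f 1 = 1 := hU 1 (one_mem _)
  have e6 : -(P.card : ℤ) < T := by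
    rw [e5]
    have : ∑ x ∈ P, (-1 : ℤ) < ∑ x ∈ P, (f x : ℤ) := by
      refine sum_lt_sum (fun x _ => ?_) ⟨1, by simp [hP, b1], by simp [f1]⟩
      rcases Int.units_eq_one_or (f x) with h | h <;> simp [h]
    simpa using this
  nlinarith

/-- the features of a Sylow 2-subgroup of the unitary group -/
structure SQ (S : Type*) [Group S] (q : ℕ) : Prop where
  cardS : Nat.card S = q ^ 3
  cardZ : Nat.card (center S) = q
  two : 2 ≤ q
  pg : IsPGroup 2 S
  sq : ∀ x : S, x * x ∈ center S
  inv : ∀ x : S, x * x = 1 ↔ x ∈ center S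
  comm : ∀ x y : S, ⁅x, y⁆ ∈ center S
  tr : ∀ z w : S, z ≠ 1 → z * z = 1 → w ≠ 1 → w * w = 1 → ∃ φ : MulAut S, φ z = w

theorem of_suz {q : ℕ} (h : IsSuzukiTwoGroup S) (h1 : Nat.card S = q ^ 3) (h2 : Nat.card (center S) = q)
    (h3 : 2 ≤ q) : SQ S q := by
  have hn := h.2.2.1
  obtain ⟨K, hK⟩ := Hig.hs_of h
  have h4 := hK.center_eq hn
  refine ⟨h1, h2, h3, hK.pg, fun x => h4 ▸ hK.sq_mem_Z hn x, fun x => h4 ▸ hK.mem_Z.symm,
    fun x y => h4 ▸ hK.comm_mem_Z hn x y, fun z w a b c d => ?_⟩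
  obtain ⟨k, hk, -⟩ := hK.reg z w a b c d
  exact ⟨k, hk⟩

theorem cardF (H : Subgroup S) {_ : DecidablePred (· ∈ H)} : (univ.filter (· ∈ H)).card = Nat.card H := by
  rw [Nat.card_eq_fintype_card, Fintype.card_subtype]

namespace SQ
variable {q : ℕ} (h : SQ S q)
include h

theorem fib {z : S} (hz : z ∈ center S) (hz1 : z ≠ 1) : (univ.filter fun x : S => x * x = z).card = q ^ 2 + q := by
  set c := (univ.filter fun x : S => x * x = z).card with hc
  have h1 : ∀ w ∈ center S, w ≠ 1 → (univ.filter fun x : S => x * x = w).card = c := fun w hw hw1 => by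
    obtain ⟨φ, hφ⟩ := h.tr w z hw1 ((h.inv w).2 hw) hz1 ((h.inv z).2 hz)
    refine card_equiv φ.toEquiv fun x => ?_
    simp only [mem_filter, mem_univ, true_and, MulEquiv.toEquiv_eq_coe, EquivLike.coe_coe]
    rw [← map_mul, ← hφ, φ.injective.eq_iff]
  have h2 := card_eq_sum_card_fiberwise (f := fun x : S => x * x) (s := univ) (t := univ.filter (· ∈ center S))
    fun x _ => by simpa using h.sq x
  rw [← add_sum_erase _ _ (show (1 : S) ∈ univ.filter (· ∈ center S) by simp),
    sum_congr rfl fun w hw => h1 w (mem_filter.1 (mem_erase.1 hw).2).2 (mem_erase.1 hw).1] at h2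
  simp only [h.inv, sum_const, smul_eq_mul] at h2
  rw [card_erase_of_mem (by simp), cardF, h.cardZ, card_univ, ← Nat.card_eq_fintype_card, h.cardS] at h2
  obtain ⟨r, rfl⟩ : ∃ r, q = r + 1 := ⟨q - 1, by have := h.two; omega⟩
  have hr : 0 < r := by have := h.two; omega
  simp only [Nat.add_sub_cancel] at h2
  apply Nat.eq_of_mul_eq_mul_left hr
  nlinarith

theorem sum_sq (g : S → ℤ) :
    ∑ x, g (x * x) = (q ^ 2 + q) * ∑ z ∈ univ.filter (· ∈ center S), g z - q ^ 2 * g 1 := by
  rw [← sum_fiberwise_of_maps_to (s := univ) (t := univ.filter (· ∈ center S)) (g := fun x : S => x * x)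
    fun x _ => by simpa using h.sq x]
  rw [← add_sum_erase _ _ (show (1 : S) ∈ univ.filter (· ∈ center S) by simp),
    ← add_sum_erase _ g (show (1 : S) ∈ univ.filter (· ∈ center S) by simp), mul_add, mul_sum]
  have h1 : ∀ w : S, ∑ x ∈ univ.filter (fun x : S => x * x = w), g (x * x) =
      (univ.filter fun x : S => x * x = w).card * g w := fun w => by
    rw [sum_congr rfl fun x hx => by rw [(mem_filter.1 hx).2]]
    simp
  rw [h1, sum_congr rfl fun w hw => by
    rw [h1, h.fib (mem_filter.1 (mem_erase.1 hw).2).2 (mem_erase.1 hw).1]]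
  simp only [h.inv]
  rw [cardF, h.cardZ]
  push_cast
  ring

theorem fix (α : MulAut S) (hα : ∀ x, α (α x) * x⁻¹ ∈ center S) {z : S} (hz : z ∈ center S) : α z = z := by
  haveI := Fact.mk Nat.prime_two
  by_contra hne
  let Z0 : Subgroup (center S) := (α.toMonoidHom.comp (center S).subtype).eqLocus (center S).subtype
  obtain ⟨M, hM, hle⟩ := (eq_top_or_exists_le_coatom Z0).resolve_left fun e =>
    hne (show (⟨z, hz⟩ : center S) ∈ Z0 from e ▸ mem_top _)
  have hi := Solv.index_eq_of_coatom_of_isPGroup (h.pg.to_subgroup _) hM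
  let e : S → ℤˣ := fun x => if x ∈ M.map (center S).subtype then 1 else -1
  have hm : ∀ x (hx : x ∈ center S), x ∈ M.map (center S).subtype ↔ (⟨x, hx⟩ : center S) ∈ M := fun x hx =>
    mem_map_iff_mem (f := (center S).subtype) (x := ⟨x, hx⟩) Subtype.val_injective
  have he : ∀ x ∈ center S, ∀ y ∈ center S, e (x * y) = e x * e y := fun x hx y hy => by
    have : x * y ∈ M.map (center S).subtype ↔ (x ∈ M.map (center S).subtype ↔ y ∈ M.map (center S).subtype) := by
      rw [hm x hx, hm y hy, hm _ (mul_mem hx hy)]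
      exact mul_mem_iff_of_index_two hi (a := ⟨x, hx⟩) (b := ⟨y, hy⟩)
    simp only [e, this]
    by_cases a : x ∈ M.map (center S).subtype <;> by_cases b : y ∈ M.map (center S).subtype <;>
      simp only [a, b] <;> simp
  have hT : ∑ x, (e (x * x) : ℤ) = -q ^ 2 := by
    rw [h.sum_sq fun x => (e x : ℤ), orth _ e he, if_neg]
    · rw [show e 1 = 1 from if_pos (one_mem _)]; simp
    · intro h1
      refine hM.1 (eq_top_iff.2 fun x _ => (hm x.1 x.2).1 ?_)
      by_contra h2
      have := h1 x.1 x.2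
      rw [show e x.1 = -1 from if_neg h2] at this
      exact absurd this (by decide)
  have hc : ∀ x y g : S, g * ⁅x, y⁆ = ⁅x, y⁆ * g := fun x y g => mem_center_iff.1 (h.comm x y) g
  have hq : ∀ x y : S, ((x * y : S) : S ⧸ center S) = (y * x : S) := fun x y => by
    rw [QuotientGroup.eq_iff_div_mem, show x * y / (y * x) = ⁅x, y⁆ by
      simp only [commutatorElement_def, div_eq_mul_inv]; group]
    exact h.comm x y
  let φ : S →* S ⧸ center S := MonoidHom.mk' (fun x => ((α x * x : S) : S ⧸ center S)) fun x y => by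
    have := hq x (α y)
    simp only [QuotientGroup.mk_mul, map_mul] at this ⊢
    rw [mul_assoc, mul_assoc, ← mul_assoc (α y : S ⧸ center S), ← this, mul_assoc]
  have hφ : ∀ x, x ∈ φ.ker ↔ α x * x ∈ center S := fun x => QuotientGroup.eq_one_iff _
  have hαZ : ∀ x ∈ center S, α x ∈ center S := fun x hx => (h.inv _).1 (by rw [← map_mul, (h.inv x).2 hx, map_one])
  have hZ : center S ≤ φ.ker := fun x hx => (hφ x).2 (mul_mem (hαZ x hx) hx)
  have h1 : φ.range ≤ φ.ker.map (QuotientGroup.mk' (center S)) := by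
    rintro _ ⟨x, rfl⟩
    refine ⟨α x * x, (hφ _).2 ?_, rfl⟩
    have h2 : α (α x * x) * (α x * x) = (α (α x) * x⁻¹) * (x * (α x * α x) * x) := by rw [map_mul]; group
    rw [h2, mem_center_iff.1 (h.sq (α x)) x, mul_assoc (α x * α x)]
    exact mul_mem (hα x) (mul_mem (h.sq _) (h.sq _))
  have h2 := card_le_of_le h1
  have h3 := (φ.ker.map (QuotientGroup.mk' (center S))).index_mul_card
  rw [index_map_eq _ (QuotientGroup.mk'_surjective _) (by rwa [QuotientGroup.ker_mk']), ] at h3
  rw [← index_ker] at h2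
  have h4 := card_eq_card_quotient_mul_card_subgroup (center S)
  have h5 := φ.ker.index_mul_card
  rw [h.cardS, h.cardZ] at h4
  rw [h.cardS] at h5
  have hq2 := h.two
  have h6 : Nat.card (S ⧸ center S) = q ^ 2 := Nat.eq_of_mul_eq_mul_right (m := q) (by omega) (by rw [← h4]; ring)
  have h7 : φ.ker.index ≤ q := by
    rw [h6] at h3
    by_contra h8
    nlinarith
  have h8 : q ^ 2 ≤ Nat.card φ.ker := by
    refine Nat.le_of_mul_le_mul_left (c := q) ?_ (by omega)
    calc q * q ^ 2 = φ.ker.index * Nat.card φ.ker := by rw [h5]; ring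
      _ ≤ _ := Nat.mul_le_mul_right _ h7
  have h9 := gauss (fun x => e (x * x)) (fun x y => e ⁅x⁻¹, y⁆) (fun x y => ?_) (fun x x' y => ?_) (fun x y y' => ?_)
    φ.ker (fun x hx => ?_) (by rw [hT]; have : (0 : ℤ) < q ^ 2 := by positivity
                               omega)
  · rw [hT, cardF] at h9
    have : ((q ^ 2 : ℕ) : ℤ) ≤ Nat.card φ.ker := by exact_mod_cast h8
    push_cast at this
    omega
  · show e (x * y * (x * y)) = e (x * x) * e (y * y) * e ⁅x⁻¹, y⁆
    rw [← he _ (h.sq x) _ (h.sq y), ← he _ (mul_mem (h.sq x) (h.sq y)) _ (h.comm _ _), mul_assoc (x * x), hc]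
    refine congrArg e ?_
    simp only [commutatorElement_def]; group
  · show e ⁅(x * x')⁻¹, y⁆ = e ⁅x⁻¹, y⁆ * e ⁅x'⁻¹, y⁆
    rw [← he _ (h.comm _ _) _ (h.comm _ _)]
    refine congrArg e ?_
    calc ⁅(x * x')⁻¹, y⁆ = x'⁻¹ * ⁅x⁻¹, y⁆ * x' * ⁅x'⁻¹, y⁆ := by simp only [commutatorElement_def]; group
      _ = _ := by rw [hc x⁻¹ y x'⁻¹]; group
  · show e ⁅x⁻¹, y * y'⁆ = e ⁅x⁻¹, y⁆ * e ⁅x⁻¹, y'⁆
    rw [← he _ (h.comm _ _) _ (h.comm _ _)]
    refine congrArg e ?_
    calc ⁅x⁻¹, y * y'⁆ = ⁅x⁻¹, y⁆ * (y * ⁅x⁻¹, y'⁆) * y⁻¹ := by simp only [commutatorElement_def]; group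
      _ = _ := by rw [hc x⁻¹ y' y]; group
  · show e (x * x) = 1
    refine if_pos ((hm _ (h.sq x)).2 (hle ?_))
    show α (x * x) = x * x
    have h10 := (hφ x).1 hx
    have h11 := (h.inv _).2 h10
    have h12 := mem_center_iff.1 h10 x
    have h13 := (h.inv _).2 (h.sq x)
    have h14 : α x * α x * (x * x) = 1 := by
      rw [← h11]
      calc α x * α x * (x * x) = α x * (α x * x * x) := by group
        _ = _ := by rw [← h12]; group
    rw [map_mul, eq_inv_of_mul_eq_one_left h14, eq_comm, eq_inv_iff_mul_eq_one, h13]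

end SQ

theorem fix_mod (ρ : MulAut S) (h3 : ρ ^ 3 = 1) (p : S → Prop) {_ : DecidablePred p}
    {_ : DecidablePred fun x => p x ∧ ρ x = x} (hp : ∀ x, p x → p (ρ x)) :
    (univ.filter p).card ≡ (univ.filter fun x => p x ∧ ρ x = x).card [MOD 3] := by
  haveI := Fact.mk Nat.prime_three
  let f : Function.End {x // p x} := fun x => ⟨ρ x, hp x x.2⟩
  have hf : f ^ 3 ^ 1 = 1 := by
    funext x
    apply Subtype.ext
    have := DFunLike.congr_fun h3 x.1
    rw [show (3 : ℕ) ^ 1 = 3 from rfl, pow_three]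
    rw [pow_three] at this
    exact this
  have h1 := Equiv.Perm.card_fixedPoints_modEq hf
  rw [Fintype.card_subtype] at h1
  have h2 : Fintype.card f.fixedPoints = (univ.filter fun x => p x ∧ ρ x = x).card := by
    rw [← Fintype.card_subtype]
    exact Fintype.card_congr ⟨fun x => ⟨x.1.1, x.1.2, congrArg Subtype.val x.2⟩,
      fun x => ⟨⟨x.1, x.2.1⟩, Subtype.ext x.2.2⟩, fun _ => rfl, fun _ => rfl⟩
  rw [h2] at h1
  convert h1

theorem SQ.three (h : SQ S 4) (ρ : MulAut S) (h3 : ρ ^ 3 = 1) (hZ : ∀ z ∈ center S, ρ z = z) : ρ = 1 := by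
  let C : Subgroup S := ρ.toMonoidHom.eqLocus (MonoidHom.id S)
  have hC : ∀ x, x ∈ C ↔ ρ x = x := fun _ => Iff.rfl
  have h4 : ∀ z ∈ center S, ∀ x, x * x = z → ρ x = x → 4 ≤ (univ.filter fun x => x * x = z ∧ ρ x = x).card := by
    intro z _ x hx hx'
    rw [← h.cardZ, ← @cardF _ _ _ _ (_root_.Classical.decPred _)]
    refine card_le_card_of_injOn (fun w => x * w) (fun w hw => ?_) fun a _ b _ e => mul_left_cancel e
    have hw' : w ∈ center S := by simpa using hw
    simp only [coe_filter, mem_univ, true_and, Set.mem_setOf_eq]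
    refine ⟨?_, by rw [map_mul, hx', hZ w hw']⟩
    calc x * w * (x * w) = x * (w * x) * w := by group
      _ = x * x * (w * w) := by rw [← mem_center_iff.1 hw' x]; group
      _ = z := by rw [(h.inv w).2 hw', hx, mul_one]
  have h5 : ∀ z ∈ (univ.filter (· ∈ center S)).erase 1, 5 ≤ (univ.filter fun x => x * x = z ∧ ρ x = x).card := by
    intro z hz
    have hz1 := (mem_filter.1 (mem_erase.1 hz).2).2
    have h6' : (4 ^ 2 + 4) % 3 = (univ.filter fun x => x * x = z ∧ ρ x = x).card % 3 := by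
      rw [← h.fib hz1 (mem_erase.1 hz).1]
      exact fix_mod ρ h3 (fun x => x * x = z) fun x hx => by rw [← map_mul, hx, hZ z hz1]
    obtain ⟨x, hx⟩ := card_pos.1 (show 0 < (univ.filter fun x => x * x = z ∧ ρ x = x).card by omega)
    have := h4 z hz1 x (mem_filter.1 hx).2.1 (mem_filter.1 hx).2.2
    omega
  have h6 := card_eq_sum_card_fiberwise (f := fun x : S => x * x) (s := univ.filter (· ∈ C))
    (t := univ.filter (· ∈ center S)) fun x _ => by simpa using h.sq x
  rw [← add_sum_erase _ _ (show (1 : S) ∈ univ.filter (· ∈ center S) by simp)] at h6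
  have h7 : ∀ z : S, ((univ.filter (· ∈ C)).filter fun x => x * x = z) = univ.filter fun x => x * x = z ∧ ρ x = x :=
    fun z => by ext x; simp [hC, and_comm]
  simp only [h7] at h6
  have h8 := card_nsmul_le_sum _ _ _ h5
  rw [card_erase_of_mem (by simp), cardF, h.cardZ] at h8
  have h9 := h4 1 (one_mem _) 1 (one_mul 1) (map_one ρ)
  have h10 : (univ.filter fun _ : S => True).card % 3 = (univ.filter fun x => True ∧ ρ x = x).card % 3 :=
    fix_mod ρ h3 (fun _ => True) fun _ _ => trivial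
  have h11 : (4 ^ 3) % 3 = (univ.filter (· ∈ C)).card % 3 := by
    rw [← h.cardS, Nat.card_eq_fintype_card, ← card_univ]
    simpa [hC] using h10
  rw [cardF] at h6 h11
  have h12 := card_subgroup_dvd_card C
  rw [h.cardS] at h12
  have h13 : Nat.card C = 4 ^ 3 := by
    have h14 := Nat.le_of_dvd (by norm_num) h12
    have h15 : 19 ≤ Nat.card C := by simp at h8; omega
    generalize Nat.card C = c at h11 h12 h14 h15
    interval_cases c <;> omega
  have h14 : C = ⊤ := eq_top_of_card_eq C (by rw [h13, h.cardS])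
  ext x
  exact (hC x).1 (h14 ▸ mem_top x)

end Cfsg.Agent.Ez.Gs
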