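import Cfsg.Agent.S5396
import Cfsg.Agent.S5395
import Cfsg.Agent.S3763

set_option autoImplicit false
set_option linter.unusedSectionVars false
set_option linter.unusedVariables false
set_option linter.style.haveILetI false
set_option linter.unusedSimpArgs false

namespace Cfsg.Agent.Ez.Xo
open Cfsg.Agent.Classical Module Subgroup Cfsg.Agent.S5396

section
variable {V : Type} [AddCommGroup V] [Module (ZMod 2) V]

theorem model [Finite V] {Φ : Form (Kind.orth (ZMod 2)) V} (hΦ : Φ.Nondeg) {n m : ℕ} (hn : 1 ≤ n)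
    (hV : finrank (ZMod 2) V = 2 * n) (h1 : ∃ W, Φ.TS W ∧ finrank (ZMod 2) W = m)
    (h2 : ∀ W, Φ.TS W → finrank (ZMod 2) W ≤ m) :
    ∃ β : V →ₗ[ZMod 2] V →ₗ[ZMod 2] ZMod 2, (∀ v, β v v = Φ.N v) ∧ center (ExG β) = pr.ker ∧
      Cfsg.IsExtraspecial 2 (ExG β) ∧ Nat.card (ExG β) = 2 ^ (2 * n + 1) ∧
      PRankLE 2 (m + 1) (ExG β) ∧ ¬ PRankLE 2 m (ExG β) := by
  obtain ⟨β, hβ⟩ := LinearMap.BilinMap.toQuadraticMap_surjective Φ.toQuad
  have b1 : ∀ v, β v v = Φ.N v := fun v => DFunLike.congr_fun hβ v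
  have b2 : ∀ u v, β u v + β v u = Φ.B u v := fun u v => by
    have := Φ.orth_N_add u v
    simp only [← b1, map_add, LinearMap.add_apply] at this
    linear_combination this
  have t2 : ∀ a : ZMod 2, a + a = 0 := by decide
  have v2 : ∀ v : V, v + v = 0 := fun v => by rw [← one_smul (ZMod 2) v, ← add_smul, t2, zero_smul]
  have cm : ∀ x y : ExG β, x * y = y * x ↔ Φ.B x.v y.v = 0 := fun x y => by
    rw [← b2, ExG.ext_iff, mul_v, mul_v, mul_a, mul_a, add_comm x.a, add_right_inj]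
    exact ⟨fun h => by rw [h.2, t2], fun h => ⟨add_comm _ _, by linear_combination h - t2 (β y.v x.v)⟩⟩
  have sq : ∀ x : ExG β, x ^ 2 = ⟨0, Φ.N x.v⟩ := fun x => by
    rw [pow_two]; ext <;> simp [t2, v2, b1]
  have cen : center (ExG β) = pr.ker := by
    ext x
    rw [mem_center_iff, MonoidHom.mem_ker]
    simp only [cm]
    exact ⟨fun h => hΦ _ fun u => h ⟨u, 0⟩, fun h g => by rw [show x.v = 0 from h, map_zero]⟩
  haveI : Finite (ExG β) := Finite.of_equiv _ eqv.symm
  have c1 : Nat.card (ExG β) = 2 ^ (2 * n + 1) := by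
    rw [Nat.card_congr eqv, Nat.card_prod, Module.natCard_eq_pow_finrank (K := ZMod 2), hV]; simp [pow_succ]
  have c2 : Nat.card (pr (β := β)).ker = 2 := by
    rw [Nat.card_congr (⟨fun x => x.1.a, fun a => ⟨⟨0, a⟩, rfl⟩, fun x => Subtype.ext (ExG.ext x.2.symm rfl),
      fun _ => rfl⟩ : (pr (β := β)).ker ≃ ZMod 2)]; simp
  have p := IsPGroup.of_card c1
  have d1 : commutator (ExG β) = pr.ker := by
    refine le_antisymm (commutator_le_ker' _) fun x hx => ?_
    have : Nontrivial V := Module.nontrivial_of_finrank_pos (R := ZMod 2) (by omega)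
    obtain ⟨v, hv⟩ := exists_ne (0 : V)
    obtain ⟨u, hu⟩ := hΦ.exists_ne hv
    have hc := commutator_mem_commutator (mem_top (⟨u, 0⟩ : ExG β)) (mem_top ⟨v, 0⟩)
    have h3 := commutator_le_ker' pr hc
    have h4 := mt (fun h => (cm ⟨u, 0⟩ ⟨v, 0⟩).1 (commutatorElement_eq_one_iff_mul_comm.1 h)) hu
    obtain ⟨y, -, hy⟩ := (Nat.card_eq_two_iff' (1 : (pr (β := β)).ker)).1 c2
    by_cases e : x = 1
    · exact e ▸ one_mem _
    · have := (hy ⟨x, hx⟩ fun h => e (congrArg Subtype.val h)).trans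
        (hy ⟨_, h3⟩ fun h => h4 (congrArg Subtype.val h)).symm
      exact (show _ = x from (congrArg Subtype.val this).symm) ▸ hc
  refine ⟨β, b1, cen, ⟨⟨p, ?_, d1.trans cen.symm⟩, cen ▸ c2⟩, c1, ?_, ?_⟩
  · rw [cen]
    exact le_antisymm (Solv.frattini_le_of_commutator_le_of_pow_mem (p := 2) d1.le fun x => by rw [sq]; rfl)
      (d1 ▸ Solv.commutator_le_frattini_of_isPGroup p)
  · intro A hA hA'
    let W : Submodule (ZMod 2) V := AddSubgroup.toZModSubmodule 2 (A.map pr).toAddSubgroup'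
    have h3 := h2 W (Form.TS_orth (by
      rintro _ ⟨x, hx, rfl⟩
      have := hA' x hx
      rw [sq] at this
      exact congrArg ExG.a this))
    have h4 := Nat.card_le_card_of_injective (fun x : A => ((⟨x.1.v, x.1, x.2, rfl⟩, x.1.a) : W × ZMod 2))
      fun x y h => Subtype.ext (ExG.ext (congrArg (fun t => t.1.1) h) (congrArg Prod.snd h))
    rw [Nat.card_prod, Module.natCard_eq_pow_finrank (K := ZMod 2) (V := W), Nat.card_zmod, ← pow_succ] at h4
    exact h4.trans (Nat.pow_le_pow_right (by norm_num) (by omega))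
  · intro h
    obtain ⟨W, hW, e⟩ := h1
    have h3 := h (W.toAddSubgroup.toSubgroup.comap pr)
      ⟨⟨fun x y => Subtype.ext ((cm _ _).2 (hW.2 _ x.2 _ y.2))⟩⟩ fun x hx => by rw [sq, hW.1 x.v hx]; rfl
    rw [Nat.card_congr (⟨fun x => (⟨x.1.v, x.2⟩, x.1.a), fun x => ⟨⟨x.1.1, x.2⟩, x.1.2⟩, fun _ => rfl,
      fun _ => rfl⟩ : (W.toAddSubgroup.toSubgroup.comap (pr (β := β))) ≃ W × ZMod 2), Nat.card_prod,
      Module.natCard_eq_pow_finrank (K := ZMod 2), e, Nat.card_zmod] at h3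
    have : 0 < 2 ^ m := by positivity
    omega

variable {β : V →ₗ[ZMod 2] V →ₗ[ZMod 2] ZMod 2}

theorem aut_cen (hc : center (ExG β) = pr.ker) (φ : MulAut (ExG β)) (a : ZMod 2) : φ ⟨0, a⟩ = ⟨0, a⟩ := by
  have h1 : (⟨0, a⟩ : ExG β) ∈ center (ExG β) := by rw [hc]; rfl
  have h2 : φ ⟨0, a⟩ ∈ center (ExG β) := mem_center_iff.2 fun g => by
    obtain ⟨g, rfl⟩ := φ.surjective g
    rw [← map_mul, ← map_mul, mem_center_iff.1 h1]
  rw [hc] at h2
  have h3 : (φ ⟨0, a⟩).v = 0 := h2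
  have h4 : (φ ⟨0, a⟩).a = 0 ↔ a = 0 := by
    constructor
    · intro h
      exact congrArg ExG.a ((map_eq_one_iff φ φ.injective).1 (ExG.ext h3 h))
    · rintro rfl
      exact congrArg ExG.a (map_one φ)
  refine ExG.ext h3 ?_
  exact (by decide : ∀ a b : ZMod 2, (b = 0 ↔ a = 0) → b = a) _ _ h4

theorem aut_v (hc : center (ExG β) = pr.ker) (φ : MulAut (ExG β)) (x : ExG β) : (φ ⟨x.v, 0⟩).v = (φ x).v := by
  conv_rhs => rw [show x = ⟨x.v, 0⟩ * ⟨0, x.a⟩ by ext <;> simp, map_mul, aut_cen hc]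
  simp

/-- the linear map induced by an automorphism -/
def lin (hc : center (ExG β) = pr.ker) : MulAut (ExG β) →* (V →ₗ[ZMod 2] V) where
  toFun φ := (AddMonoidHom.mk' (fun v => (φ ⟨v, 0⟩).v) fun u v => by
    rw [← mul_v, ← map_mul, ← aut_v hc φ (_ * _)]; rfl).toZModLinearMap 2
  map_one' := rfl
  map_mul' φ ψ := LinearMap.ext fun v => (aut_v hc φ (ψ ⟨v, 0⟩)).symm

theorem lin_apply (hc : center (ExG β) = pr.ker) (φ : MulAut (ExG β)) (x : ExG β) : lin hc φ x.v = (φ x).v :=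
  aut_v hc φ x

theorem lin_iso (hc : center (ExG β) = pr.ker) (φ : MulAut (ExG β)) (v : V) :
    β (lin hc φ v) (lin hc φ v) = β v v := by
  have t2 : ∀ a : ZMod 2, a + a = 0 := by decide
  have v2 : ∀ v : V, v + v = 0 := fun v => by rw [← one_smul (ZMod 2) v, ← add_smul, t2, zero_smul]
  have h1 := map_mul φ ⟨v, 0⟩ ⟨v, 0⟩
  rw [show (⟨v, 0⟩ * ⟨v, 0⟩ : ExG β) = ⟨0, β v v⟩ by ext <;> simp [v2], aut_cen hc] at h1
  have h2 := congrArg ExG.a h1
  rw [mul_a, t2, zero_add] at h2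
  exact h2.symm

end

section
variable {ι : Type} [Fintype ι] [DecidableEq ι] {β : (ι → ZMod 2) →ₗ[ZMod 2] (ι → ZMod 2) →ₗ[ZMod 2] ZMod 2}

theorem exists_quad (γ : (ι → ZMod 2) →ₗ[ZMod 2] (ι → ZMod 2) →ₗ[ZMod 2] ZMod 2) (h : ∀ v, γ v v = 0) :
    ∃ c : (ι → ZMod 2) → ZMod 2, ∀ u v, c (u + v) = c u + c v + γ u v := by
  have t2 : ∀ a : ZMod 2, a + a = 0 := by decide
  have hs : ∀ u v, γ u v = γ v u := fun u v => by
    have := h (u + v)
    simp only [map_add, LinearMap.add_apply, h] at this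
    linear_combination this - t2 (γ v u)
  let r := Fintype.equivFin ι
  let A : Matrix ι ι (ZMod 2) := Matrix.of fun i j => if r i < r j then γ (Pi.single i 1) (Pi.single j 1) else 0
  let δ : (ι → ZMod 2) →ₗ[ZMod 2] (ι → ZMod 2) →ₗ[ZMod 2] ZMod 2 := Matrix.toBilin' A
  have h1 : δ + δ.flip = γ := by
    refine LinearMap.BilinForm.ext_basis (Pi.basisFun (ZMod 2) ι) fun i j => ?_
    simp only [Pi.basisFun_apply, LinearMap.add_apply, LinearMap.flip_apply, δ, Matrix.toBilin'_single, A,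
      Matrix.of_apply]
    rcases lt_trichotomy (r i) (r j) with h2 | h2 | h2
    · rw [if_pos h2, if_neg h2.asymm, add_zero]
    · rw [r.injective h2, if_neg (lt_irrefl _), h, add_zero]
    · rw [if_pos h2, if_neg h2.asymm, zero_add, hs]
  refine ⟨fun v => δ v v, fun u v => ?_⟩
  rw [← h1]
  simp only [map_add, LinearMap.add_apply, LinearMap.flip_apply]
  ring

theorem exists_aut (hc : center (ExG β) = pr.ker) (G : (ι → ZMod 2) ≃ₗ[ZMod 2] (ι → ZMod 2))
    (h : ∀ v, β (G v) (G v) = β v v) : ∃ φ : MulAut (ExG β), lin hc φ = G := by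
  obtain ⟨c, hc'⟩ := exists_quad (β.compl₁₂ G.toLinearMap G.toLinearMap - β) fun v => by simp [h]
  refine ⟨{ toFun := fun x => ⟨G x.v, x.a + c x.v⟩
            invFun := fun x => ⟨G.symm x.v, x.a - c (G.symm x.v)⟩
            left_inv := fun x => by ext <;> simp
            right_inv := fun x => by ext <;> simp
            map_mul' := fun x y => ?_ }, rfl⟩
  refine ExG.ext (map_add G _ _) ?_
  simp only [mul_a, mul_v, hc', LinearMap.sub_apply, LinearMap.compl₁₂_apply, LinearEquiv.coe_coe]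
  ring

theorem out_iso {E : Type*} [Group E] [Finite E] (hE : IsExtraspecial 2 E) (hc : center (ExG β) = pr.ker)
    (e : E ≃* ExG β) (Q : (ι → ZMod 2) → ZMod 2) (hQ : ∀ v, β v v = Q v) :
    Nonempty (Out E ≃* isometryGroup (ZMod 2) Q) := by
  let g : MulAut E →* Matrix ι ι (ZMod 2) :=
    (LinearMap.toMatrixAlgEquiv' (R := ZMod 2) (n := ι)).toMulEquiv.toMonoidHom.comp
      ((lin hc).comp (MulAut.congr e).toMonoidHom)
  have hg : ∀ φ, g φ = LinearMap.toMatrix' (lin hc (MulAut.congr e φ)) := fun _ => rfl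
  let f : MulAut E →* GL ι (ZMod 2) := g.toHomUnits
  have hf : ∀ φ v, (f φ : Matrix ι ι (ZMod 2)).mulVec v = lin hc (MulAut.congr e φ) v := fun φ v => by
    show (g φ).mulVec v = _
    rw [hg, LinearMap.toMatrix'_mulVec]
  have hk : Inn E = f.ker := by
    ext φ
    rw [MonoidHom.mem_ker, MonoidHom.mem_range]
    constructor
    · rintro ⟨x, rfl⟩
      refine Units.ext (Matrix.ext_of_mulVec_single fun i => ?_)
      rw [hf, Units.val_one, Matrix.one_mulVec]
      simp [lin_apply hc _ ⟨Pi.single i 1, 0⟩]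
    · intro h
      obtain ⟨x, hx⟩ := S5395.result hE φ fun x => by
        have h1 := hf φ (e x).v
        rw [h, lin_apply] at h1
        have h2 : e (φ x * x⁻¹) ∈ center (ExG β) := by
          rw [hc]
          show (e (φ x * x⁻¹)).v = 0
          rw [map_mul, map_inv, mul_v, inv_v, add_neg_eq_zero]
          simpa using h1.symm
        exact mem_center_iff.2 fun y => e.injective (by rw [map_mul, map_mul e _ y, mem_center_iff.1 h2])
      exact ⟨x, MulEquiv.ext fun y => (hx y).symm⟩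
  have hr : f.range = isometryGroup (ZMod 2) Q := by
    ext M
    constructor
    · rintro ⟨φ, rfl⟩ u v
      show Q ((f φ : Matrix ι ι (ZMod 2)).mulVec u) = Q u
      rw [hf, ← hQ, ← hQ, lin_iso]
    · intro h
      obtain ⟨φ, hφ⟩ := exists_aut hc (Matrix.GeneralLinearGroup.toLin M).toLinearEquiv fun v => by
        rw [hQ, hQ]; exact h v v
      refine ⟨(MulAut.congr e).symm φ, Units.ext (Matrix.ext_of_mulVec_single fun i => ?_)⟩
      rw [hf, MulEquiv.apply_symm_apply, hφ]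
      rfl
  exact ⟨((QuotientGroup.quotientMulEquivOfEq hk).trans (QuotientGroup.quotientKerEquivRange f)).trans
    (MulEquiv.subgroupCongr hr)⟩

end

theorem rank_iff {X Y : Type*} [Group X] [Group Y] {m : ℕ} (h1 : PRankLE 2 (m + 1) X) (h2 : ¬ PRankLE 2 m X)
    (h3 : PRankLE 2 (m + 1) Y) (h4 : ¬ PRankLE 2 m Y) (k : ℕ) : PRankLE 2 k X ↔ PRankLE 2 k Y := by
  by_cases hk : m + 1 ≤ k
  · exact ⟨fun _ A a b => (h3 A a b).trans (Nat.pow_le_pow_right two_pos hk),
      fun _ A a b => (h1 A a b).trans (Nat.pow_le_pow_right two_pos hk)⟩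
  · exact ⟨fun h => absurd (fun A a b => (h A a b).trans (Nat.pow_le_pow_right two_pos (by omega))) h2,
      fun h => absurd (fun A a b => (h A a b).trans (Nat.pow_le_pow_right two_pos (by omega))) h4⟩

end Cfsg.Agent.Ez.Xo
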