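import Mathlib

set_option autoImplicit false
set_option linter.unusedSectionVars false
set_option linter.style.haveILetI false

namespace Cfsg.Agent.Ez.Tw3
open Finset

variable {Q : Type*} [Group Q] [Fintype Q] {A : Type*} [Ring A] [Algebra (ZMod 3) A]

/-- a twisted group algebra over the field with three elements -/
structure TW (o : Q →* A) (z : Q) : Prop where
  hz : o z = -1
  z1 : z ≠ 1
  cen : ∀ x, x ≠ 1 → x ≠ z → ∃ y, y * x * y⁻¹ = z * x
  span : ∀ p : A → Prop, (∀ x, p (o x)) → (∀ a b, p a → p b → p (a + b)) →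
    (∀ (c : ZMod 3) a, p a → p (c • a)) → ∀ a, p a
  card : (Fintype.card Q : ZMod 3) ≠ 0
  nt : (1 : A) ≠ 0

/-- averaging -/
def TT (o : Q →* A) (α : MulAut Q) (a : A) : A := ∑ y, o (α y) * a * o y⁻¹

variable {o : Q →* A} {z : Q}

theorem TT_int (α : MulAut Q) (a : A) (w : Q) : o (α w) * TT o α a = TT o α a * o w := by
  unfold TT
  rw [mul_sum, sum_mul, ← Equiv.sum_comp (Equiv.mulLeft w) fun y => o (α y) * a * o y⁻¹ * o w]
  refine sum_congr rfl fun y _ => ?_
  simp only [Equiv.coe_mulLeft, map_mul, mul_assoc, mul_inv_rev]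
  rw [← map_mul o w⁻¹, inv_mul_cancel, map_one, mul_one]

theorem TT_comm {a : A} (h : ∀ y, o y * a = a * o y) : TT o 1 a = (Fintype.card Q : ZMod 3) • a := by
  unfold TT
  rw [sum_congr rfl fun y _ => (show o ((1 : MulAut Q) y) * a * o y⁻¹ = a by
    rw [MulAut.one_apply, h, mul_assoc, ← map_mul, mul_inv_cancel, map_one, mul_one])]
  simp [Nat.cast_smul_eq_nsmul]

theorem two_aux {S : A} (h : S = -S) : S = 0 := by
  have h1 : (2 : ZMod 3) • S = 0 := by rw [two_smul]; exact eq_neg_iff_add_eq_zero.1 h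
  exact (smul_eq_zero.1 h1).resolve_left (by decide)

namespace TW
variable (h : TW o z)
include h

theorem other {x : Q} (h1 : x ≠ 1) (h2 : x ≠ z) : TT o 1 (o x) = 0 := by
  obtain ⟨w, hw⟩ := h.cen x h1 h2
  apply two_aux
  unfold TT
  rw [← sum_neg_distrib, ← Equiv.sum_comp (Equiv.mulRight w) fun y => o ((1 : MulAut Q) y) * o x * o y⁻¹]
  refine sum_congr rfl fun y _ => ?_
  simp only [Equiv.coe_mulRight, MulAut.one_apply]
  rw [← map_mul, ← map_mul, show y * w * x * (y * w)⁻¹ = y * (w * x * w⁻¹) * y⁻¹ by group, hw]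
  simp [h.hz]

theorem scalar (a : A) : ∃ c : ZMod 3, TT o 1 a = c • (1 : A) := by
  refine h.span (fun a => ∃ c : ZMod 3, TT o 1 a = c • (1 : A)) (fun x => ?_) ?_ ?_ a
  · by_cases h1 : x = 1
    · exact ⟨_, by rw [h1, map_one, TT_comm (by simp)]⟩
    by_cases h2 : x = z
    · exact ⟨-Fintype.card Q, by rw [h2, h.hz, TT_comm (by simp)]; simp⟩
    exact ⟨0, by rw [h.other h1 h2, zero_smul]⟩
  · rintro a b ⟨c, hc⟩ ⟨d, hd⟩
    exact ⟨c + d, by rw [add_smul, ← hc, ← hd]; simp [TT, mul_add, add_mul, sum_add_distrib]⟩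
  · rintro c a ⟨d, hd⟩
    exact ⟨c * d, by rw [mul_smul, ← hd]; simp [TT, smul_sum]⟩

theorem comm_scalar {a : A} (ha : ∀ y, o y * a = a * o y) : ∃ c : ZMod 3, a = c • (1 : A) := by
  obtain ⟨c, hc⟩ := h.scalar a
  rw [TT_comm ha] at hc
  exact ⟨(Fintype.card Q : ZMod 3)⁻¹ * c, by rw [mul_smul, ← hc, smul_smul, inv_mul_cancel₀ h.card, one_smul]⟩

theorem inj : Function.Injective o := by
  rw [injective_iff_map_eq_one]
  intro x hx
  by_contra h1
  by_cases h2 : x = z
  · exact h.nt (two_aux (by rw [← h.hz, ← h2, hx]))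
  have := h.other h1 h2
  rw [hx, TT_comm (by simp)] at this
  exact h.nt ((smul_eq_zero.1 this).resolve_left h.card)

theorem sumT (α : MulAut Q) (hα : α z = z) :
    ∑ x, o x⁻¹ * TT o α (o x) = (2 * Fintype.card Q : ZMod 3) • (1 : A) := by
  have h1 : ∑ x, o x⁻¹ * TT o α (o x) = ∑ y, TT o 1 (o (α y)) * o y⁻¹ := by
    unfold TT
    simp only [mul_sum, sum_mul]
    rw [sum_comm]
    refine sum_congr rfl fun y _ => ?_
    rw [← Equiv.sum_comp (Equiv.inv Q)]
    simp [mul_assoc]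
  have h2 : o z⁻¹ = -1 := by
    have := map_mul o z z⁻¹
    rw [mul_inv_cancel, map_one, h.hz, neg_one_mul] at this
    exact (neg_eq_iff_eq_neg.1 this.symm)
  rw [h1, Fintype.sum_eq_add 1 z h.z1.symm fun y hy => by
    rw [h.other (by simpa using hy.1) (fun e => hy.2 (α.injective (e.trans hα.symm))), zero_mul]]
  rw [hα, h.hz, h2, map_one, map_one, TT_comm (by simp), TT_comm (by simp), two_mul, add_smul]
  simp

theorem exists_unit [Finite A] (α : MulAut Q) (hα : α z = z) : ∃ G : Aˣ, ∀ w, o (α w) * G = G * o w := by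
  have h2 : (2 * Fintype.card Q : ZMod 3) ≠ 0 := mul_ne_zero (by decide) h.card
  have hα' : α⁻¹ z = z := by rw [MulAut.inv_apply, MulEquiv.symm_apply_eq, hα]
  have key : ∃ x y, TT o α⁻¹ (o y) * TT o α (o x) ≠ 0 := by
    by_contra hc
    push Not at hc
    have h3 : ∀ x, TT o α (o x) = 0 := fun x => by
      have : (∑ y, o y⁻¹ * TT o α⁻¹ (o y)) * TT o α (o x) = 0 := by simp [sum_mul, mul_assoc, hc]
      rw [h.sumT _ hα', smul_mul_assoc, one_mul] at this
      exact (smul_eq_zero.1 this).resolve_left h2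
    have := h.sumT α hα
    simp only [h3, mul_zero, sum_const_zero] at this
    exact h.nt ((smul_eq_zero.1 this.symm).resolve_left h2)
  obtain ⟨x, y, hxy⟩ := key
  obtain ⟨c, hc⟩ := h.comm_scalar (a := TT o α⁻¹ (o y) * TT o α (o x)) fun w => by
    rw [mul_assoc, ← TT_int α, ← mul_assoc, ← mul_assoc, ← TT_int α⁻¹, MulAut.inv_apply, MulEquiv.symm_apply_apply]
  have hc0 : c ≠ 0 := by rintro rfl; exact hxy (by simpa using hc)
  have h4 : (c⁻¹ • TT o α⁻¹ (o y)) * TT o α (o x) = 1 := by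
    rw [smul_mul_assoc, hc, smul_smul, inv_mul_cancel₀ hc0, one_smul]
  exact ⟨⟨_, _, mul_eq_one_comm.1 h4, h4⟩, fun w => TT_int α _ w⟩

theorem unit_cen (G : Aˣ) (hG : ∀ y, o y * G = G * o y) : (G : A) = o 1 ∨ (G : A) = o z := by
  obtain ⟨c, hc⟩ := h.comm_scalar hG
  rcases (by decide : ∀ c : ZMod 3, c = 0 ∨ c = 1 ∨ c = -1) c with rfl | rfl | rfl
  · haveI : Nontrivial A := ⟨⟨_, _, h.nt⟩⟩
    exact absurd (by simpa using hc) G.ne_zero
  · left; simpa using hc
  · right; rw [h.hz]; simpa using hc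

end TW

theorem exists_tw {Q : Type} [Group Q] [Fintype Q] (z : Q) (z1 : z ≠ 1) (zz : z * z = 1) (zc : ∀ y, y * z = z * y)
    (cen : ∀ x, x ≠ 1 → x ≠ z → ∃ y, y * x * y⁻¹ = z * x) (card : (Fintype.card Q : ZMod 3) ≠ 0) :
    ∃ (A : Type) (_ : Ring A) (_ : Algebra (ZMod 3) A) (_ : Finite A) (o : Q →* A), TW o z := by
  let B := MonoidAlgebra (ZMod 3) Q
  let u : B := MonoidAlgebra.of (ZMod 3) Q z + 1
  have hu : ∀ b : B, u * b = b * u := fun b => by
    induction b using MonoidAlgebra.induction_on with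
    | of m => rw [add_mul, mul_add, ← map_mul, ← map_mul, zc, one_mul, mul_one]
    | add x y a b => rw [mul_add, add_mul x, a, b]
    | smul r x a => rw [mul_smul_comm, smul_mul_assoc, a]
  let I : Ideal B := Ideal.span {u}
  haveI : I.IsTwoSided := ⟨fun {a} b ha => by
    obtain ⟨c, rfl⟩ := Ideal.mem_span_singleton'.1 ha
    exact Ideal.mem_span_singleton'.2 ⟨c * b, by rw [mul_assoc, mul_assoc, hu]⟩⟩
  haveI : Finite B := Finite.of_injective (fun b : B => (b.coeff : Q → ZMod 3)) fun a b e =>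
    MonoidAlgebra.ext (DFunLike.coe_injective e)
  refine ⟨B ⧸ I, inferInstance, inferInstance, Finite.of_surjective _ Ideal.Quotient.mk_surjective,
    (Ideal.Quotient.mk I).toMonoidHom.comp (MonoidAlgebra.of (ZMod 3) Q), ?_, z1, cen, fun p h1 h2 h3 a => ?_, card, ?_⟩
  · rw [eq_neg_iff_add_eq_zero]
    exact (Ideal.Quotient.eq_zero_iff_mem (a := u)).2 (Ideal.subset_span rfl)
  · obtain ⟨b, rfl⟩ := Ideal.Quotient.mk_surjective a
    induction b using MonoidAlgebra.induction_on with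
    | of m => exact h1 m
    | add x y a b => exact h2 _ _ a b
    | smul r x a => exact h3 r _ a
  · intro h
    obtain ⟨c, hc⟩ := Ideal.mem_span_singleton'.1 ((Ideal.Quotient.eq_zero_iff_mem (I := I) (a := 1)).1 h)
    have h1 : u * (MonoidAlgebra.of (ZMod 3) Q z - 1) = 0 := by
      rw [add_mul, mul_sub, ← map_mul, zz, map_one]; simp
    have h2 : MonoidAlgebra.of (ZMod 3) Q z - 1 = 0 := by
      have h3 := congrArg (c * ·) h1
      simpa only [← mul_assoc, hc, one_mul, mul_zero] using h3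
    rw [sub_eq_zero, ← map_one (MonoidAlgebra.of (ZMod 3) Q)] at h2
    exact z1 (MonoidAlgebra.of_injective h2)

end Cfsg.Agent.Ez.Tw3
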