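import Cfsg.Agent.Lib.Ez.J7
import Cfsg.Agent.Lib.Ez.J8
import Cfsg.Agent.Lib.PU.XS1

set_option autoImplicit false
set_option linter.unusedSectionVars false
set_option linter.unusedVariables false
set_option linter.style.haveILetI false
set_option linter.unusedSimpArgs false

namespace Cfsg.Agent.Ez.Xo
open Cfsg.Agent.Classical Module Subgroup Cfsg.Agent.S5396 Cfsg.Agent.Ez.Tw3

variable {ι : Type} [Fintype ι] [DecidableEq ι] {β : (ι → ZMod 2) →ₗ[ZMod 2] (ι → ZMod 2) →ₗ[ZMod 2] ZMod 2}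

theorem inner_of (hE : IsExtraspecial 2 (ExG β)) (hc : center (ExG β) = pr.ker) (φ : MulAut (ExG β))
    (h : lin hc φ = 1) : ∃ x, φ = MulAut.conj x := by
  haveI : Finite (ExG β) := Finite.of_equiv _ eqv.symm
  obtain ⟨x, hx⟩ := S5395.result hE φ fun x => by
    have h1 := lin_apply hc φ x
    rw [h] at h1
    rw [hc]
    show (φ x * x⁻¹).v = 0
    rw [mul_v, inv_v, add_neg_eq_zero]
    exact h1.symm
  exact ⟨x, MulEquiv.ext hx⟩

theorem lin_conj (hc : center (ExG β) = pr.ker) (x : ExG β) : lin hc (MulAut.conj x) = 1 :=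
  LinearMap.ext fun v => by simp [lin_apply hc _ ⟨v, 0⟩]

theorem griess (hE : IsExtraspecial 2 (ExG β)) (hc : center (ExG β) = pr.ker) {K : Type*} [Group K]
    (ρ : K →* ((ι → ZMod 2) →ₗ[ZMod 2] (ι → ZMod 2))) (hρ : Function.Injective ρ)
    (hq : ∀ k v, β (ρ k v) (ρ k v) = β v v) :
    ∃ (R : Type) (_ : Group R) (_ : Finite R) (J : ExG β →* R) (π : R →* K), Function.Injective J ∧
      Function.Surjective π ∧ π.ker = J.range ∧
      ∀ (r : R) (x : ExG β), ∃ y, r * J x * r⁻¹ = J y ∧ y.v = ρ (π r) x.v := by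
  haveI : Finite (ExG β) := Finite.of_equiv _ eqv.symm
  letI := Fintype.ofFinite (ExG β)
  have t2 : ∀ a b : ZMod 2, a ≠ b → a = 1 + b := by decide
  have hz : ∀ x : ExG β, x ∈ center (ExG β) ↔ x.v = 0 := fun x => by rw [hc]; rfl
  obtain ⟨A, _, _, _, o, h⟩ := exists_tw (Q := ExG β) ⟨0, 1⟩ (fun e => one_ne_zero (congrArg ExG.a e))
    (ExG.ext (by simp) (by simp; decide)) (mem_center_iff.1 ((hz _).2 rfl)) (fun x h1 h2 => by
      have h3 : x ∉ center (ExG β) := fun h3 => by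
        by_cases h4 : x.a = 0
        · exact h1 (ExG.ext ((hz x).1 h3) h4)
        · exact h2 (ExG.ext ((hz x).1 h3) (by simpa using t2 _ _ h4))
      obtain ⟨y, hy⟩ := not_forall.1 (mt mem_center_iff.2 h3)
      have h4 : (y * x * y⁻¹).v = x.v := by simp
      refine ⟨y, ExG.ext (by simp) ?_⟩
      rw [t2 (y * x * y⁻¹).a x.a fun e => hy (mul_inv_eq_iff_eq_mul.1 (ExG.ext h4 e))]
      simp) (by
      obtain ⟨k, hk⟩ := IsPGroup.iff_card.1 hE.1.1
      rw [← Nat.card_eq_fintype_card, hk]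
      push_cast
      exact pow_ne_zero _ (by decide))
  let oU : ExG β →* Aˣ := o.toHomUnits
  let ρ' := ρ.toHomUnits
  have hρ' : Function.Injective ρ' := fun a b e => hρ (congrArg Units.val e)
  let lam := (lin hc).toHomUnits
  let S : Subgroup (Aˣ × MulAut (ExG β)) :=
    { carrier := {p | ∀ x, p.1 * oU x * p.1⁻¹ = oU (p.2 x)}
      one_mem' := fun x => by simp
      mul_mem' := fun {p p'} hp hp' x => by
        rw [Prod.fst_mul, Prod.snd_mul, MulAut.mul_apply, ← hp, ← hp']; group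
      inv_mem' := fun {p} hp x => by
        have := hp (p.2⁻¹ x)
        rw [MulAut.apply_inv_self] at this
        rw [Prod.fst_inv, Prod.snd_inv, ← this]; group }
  let R := S ⊓ ρ'.range.comap (lam.comp (MonoidHom.snd _ _))
  let π : R →* K := (MonoidHom.ofInjective hρ').symm.toMonoidHom.comp
    (((lam.comp (MonoidHom.snd _ _)).comp R.subtype).codRestrict ρ'.range fun r => r.2.2)
  have hπ : ∀ r : R, ρ (π r) = lin hc r.1.2 := fun r =>
    congrArg Units.val (MonoidHom.apply_ofInjective_symm hρ' ⟨_, r.2.2⟩)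
  let J : ExG β →* R := (oU.prod MulAut.conj).codRestrict R fun x =>
    ⟨fun y => by simp, 1, Units.ext (by rw [map_one]; exact (lin_conj hc x).symm)⟩
  have hJ : ∀ x, (J x).1 = (oU x, MulAut.conj x) := fun _ => rfl
  refine ⟨R, inferInstance, inferInstance, J, π, fun a b e => h.inj (congrArg (fun r : R => (r.1.1 : A)) e),
    fun k => ?_, ?_, fun r x => ⟨r.1.2 x, Subtype.ext (Prod.ext (r.2.1 x) ?_), by rw [hπ, lin_apply]⟩⟩
  · obtain ⟨φ, hφ⟩ := exists_aut hc (LinearMap.GeneralLinearGroup.toLinearEquiv (ρ' k)) (hq k)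
    obtain ⟨G, hG⟩ := h.exists_unit φ (aut_cen hc φ 1)
    refine ⟨⟨(G, φ), fun x => mul_inv_eq_iff_eq_mul.2 (Units.ext (hG x).symm), k, Units.ext hφ.symm⟩, hρ ?_⟩
    rw [hπ]; exact hφ
  · ext r
    rw [MonoidHom.mem_ker, ← map_eq_one_iff ρ hρ, hπ]
    constructor
    · intro h1
      obtain ⟨x, hx⟩ := inner_of hE hc _ h1
      have h2 := h.unit_cen ((oU x)⁻¹ * r.1.1) fun y => by
        have h3 := r.2.1 y
        rw [hx, MulAut.conj_apply, map_mul, map_mul, map_inv] at h3
        have h4 : oU y * ((oU x)⁻¹ * r.1.1) = (oU x)⁻¹ * r.1.1 * oU y := by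
          calc oU y * ((oU x)⁻¹ * r.1.1) = (oU x)⁻¹ * (oU x * oU y * (oU x)⁻¹) * r.1.1 := by group
            _ = _ := by rw [← h3]; group
        exact congrArg Units.val h4
      have key : ∀ w : ExG β, w.v = 0 → (((oU x)⁻¹ * r.1.1 : Aˣ) : A) = o w → r ∈ J.range := fun w hw e => by
        refine ⟨x * w, Subtype.ext (Prod.ext ?_ ?_)⟩
        · show oU (x * w) = r.1.1
          rw [map_mul, show oU w = (oU x)⁻¹ * r.1.1 from Units.ext e.symm, mul_inv_cancel_left]
        · show MulAut.conj (x * w) = r.1.2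
          rw [hx]
          refine MulEquiv.ext fun y => ?_
          rw [MulAut.conj_apply, MulAut.conj_apply, mul_assoc x w, ← mem_center_iff.1 ((hz w).2 hw) y]
          group
      exact h2.elim (key 1 rfl) (key _ rfl)
    · rintro ⟨x, rfl⟩
      exact lin_conj hc x
  · show r.1.2 * MulAut.conj x * r.1.2⁻¹ = MulAut.conj (r.1.2 x)
    refine MulEquiv.ext fun y => ?_
    simp

end Cfsg.Agent.Ez.Xo
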