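import Mathlib
import Cfsg.Prelude.Def_Characters

set_option autoImplicit false
set_option linter.unusedSectionVars false
set_option linter.style.haveILetI false

namespace Cfsg.Agent.Ez.Spl
open Module Representation Finset
open scoped _root_.Classical

universe u

theorem trace_quot {K V : Type*} [Field K] [AddCommGroup V] [Module K V] [FiniteDimensional K V]
    (W : Submodule K V) (f : V →ₗ[K] V) (hf : W ≤ W.comap f) :
    LinearMap.trace K V f = LinearMap.trace K W (f.restrict hf) + LinearMap.trace K _ (W.mapQ W f hf) := by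
  obtain ⟨s, hs⟩ := W.mkQ.exists_rightInverse_of_surjective W.range_mkQ
  have hs' : ∀ x, W.mkQ (s x) = x := fun x => LinearMap.congr_fun hs x
  have h1 : ∀ x, (f - f ∘ₗ s ∘ₗ W.mkQ) x ∈ W := fun x => by
    rw [LinearMap.sub_apply, LinearMap.comp_apply, ← map_sub]
    refine hf ?_
    rw [← Submodule.Quotient.mk_eq_zero, ← Submodule.mkQ_apply, map_sub, LinearMap.comp_apply, hs', sub_self]
  have h2 := LinearMap.trace_restrict_eq_of_forall_mem W _ h1
  have h3 : (f - f ∘ₗ s ∘ₗ W.mkQ).restrict (fun x _ => h1 x) = f.restrict hf := by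
    ext x
    simp [(Submodule.Quotient.mk_eq_zero W).2 x.2]
  have h4 : W.mapQ W f hf = W.mkQ ∘ₗ (f ∘ₗ s) := by
    ext x
    obtain ⟨x, hx⟩ : ∃ y, y = W.mkQ x := ⟨_, rfl⟩
    simp only [LinearMap.comp_apply, ← hx]
    conv_lhs => rw [← hs' x]
    rfl
  rw [h3] at h2
  rw [h2, h4, LinearMap.trace_comp_comm', map_sub, LinearMap.comp_assoc, sub_add_cancel]

variable {G : Type u} [Group G] [Fintype G] {K : IntermediateField ℚ ℂ}

/-- characters of representations over the subfield `K` -/
def KC (K : IntermediateField ℚ ℂ) (n : ℕ) (ψ : G → ℂ) : Prop :=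
  ∃ (V : Type u) (_ : AddCommGroup V) (_ : Module K V) (_ : FiniteDimensional K V) (ρ : Representation K G V),
    finrank K V = n ∧ ψ = fun g => (ρ.character g : ℂ)

theorem KC.complex {n : ℕ} {ψ : G → ℂ} (h : KC K n ψ) : ∃ σ : Representation ℂ G (Fin n → ℂ),
    σ.character = ψ ∧ ∀ g i j, LinearMap.toMatrix' (σ g) i j ∈ K := by
  obtain ⟨V, _, _, _, ρ, hn, rfl⟩ := h
  let b := finBasisOfFinrankEq K V hn
  let σ : Representation ℂ G (Fin n → ℂ) :=
    { toFun := fun g => Matrix.toLin' ((LinearMap.toMatrix b b (ρ g)).map (algebraMap K ℂ))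
      map_one' := by rw [map_one, LinearMap.toMatrix_one, Matrix.map_one _ (map_zero _) (map_one _), Matrix.toLin'_one]; rfl
      map_mul' := fun g h => by rw [map_mul, LinearMap.toMatrix_mul, Matrix.map_mul, Matrix.toLin'_mul]; rfl }
  have hσ : ∀ g, σ g = Matrix.toLin' ((LinearMap.toMatrix b b (ρ g)).map (algebraMap K ℂ)) := fun _ => rfl
  refine ⟨σ, funext fun g => ?_, fun g i j => ?_⟩
  · rw [character, character, hσ, Matrix.trace_toLin'_eq, LinearMap.trace_eq_matrix_trace K b]
    simp [Matrix.trace]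
  · rw [hσ, LinearMap.toMatrix'_toLin']
    exact (LinearMap.toMatrix b b (ρ g) i j).2

theorem KC.zero : KC K 0 (0 : G → ℂ) :=
  ⟨PUnit, inferInstance, inferInstance, inferInstance, 1, finrank_zero_of_subsingleton, funext fun g => by
    rw [character, Subsingleton.elim (DFunLike.coe _ g) 0, map_zero]; rfl⟩

theorem KC.add {m n : ℕ} {φ ψ : G → ℂ} (h : KC K m φ) (h' : KC K n ψ) : KC K (m + n) (φ + ψ) := by
  obtain ⟨V, _, _, _, ρ, rfl, rfl⟩ := h
  obtain ⟨W, _, _, _, σ, rfl, rfl⟩ := h'
  refine ⟨V × W, inferInstance, inferInstance, inferInstance, ρ.prod σ, finrank_prod, funext fun g => ?_⟩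
  rw [Pi.add_apply, ← IntermediateField.coe_add, character, character, character, ← LinearMap.trace_prodMap']
  rfl

theorem KC.nsmul {n : ℕ} {ψ : G → ℂ} (h : KC K n ψ) (k : ℕ) : ∃ m, KC K m ((k : ℂ) • ψ) := by
  induction k with
  | zero => exact ⟨0, by simpa using KC.zero⟩
  | succ k ih =>
    obtain ⟨m, hm⟩ := ih
    exact ⟨_, by simpa [add_smul] using hm.add h⟩

theorem ip {V W : Type*} [AddCommGroup V] [Module K V] [FiniteDimensional K V] [AddCommGroup W] [Module K W]
    [FiniteDimensional K W] (ρ : Representation K G V) (σ : Representation K G W) :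
    (Nat.card G : ℂ)⁻¹ * ∑ g, (σ.character g : ℂ) * (ρ.character g⁻¹ : ℂ) = finrank K (IntertwiningMap ρ σ) := by
  haveI : Invertible (Nat.card G : K) := invertibleOfNonzero (Nat.cast_ne_zero.2 Nat.card_pos.ne')
  have := congrArg (algebraMap K ℂ) (card_inv_mul_sum_char_mul_char_eq_finrank ρ σ)
  simpa using this

theorem cancel {k : ℕ} (τ : Representation ℂ G (Fin k → ℂ)) (n : ℕ) : ∀ {m : ℕ} {A B : G → ℂ}, KC K m A → KC K n B →
    A = τ.character + B → ∃ l, KC K l τ.character := by
  induction n using Nat.strong_induction_on with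
  | _ n ih =>
  intro m A B hA hB e
  obtain ⟨V, _, _, _, ρ, rfl, rfl⟩ := hA
  obtain ⟨U, _, _, _, σ, hn, rfl⟩ := hB
  rcases subsingleton_or_nontrivial U with hU | hU
  · refine ⟨_, V, _, _, inferInstance, ρ, rfl, ?_⟩
    rw [e]
    funext g
    rw [Pi.add_apply, character, character, Subsingleton.elim (σ g) 0, map_zero]; simp
  obtain ⟨W, ⟨hW0, hW⟩, hmin⟩ := WellFounded.has_min (wellFounded_lt (α := Submodule K U))
    {W | W ≠ ⊥ ∧ ∀ g, W ≤ W.comap (σ g)} ⟨⊤, top_ne_bot, fun _ => le_top⟩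
  let ω := σ.subrepresentation W hW
  obtain ⟨ω', h1, -⟩ := KC.complex (K := K) ⟨W, _, _, inferInstance, ω, rfl, rfl⟩
  haveI : Invertible (Nat.card G : ℂ) := invertibleOfNonzero (Nat.cast_ne_zero.2 Nat.card_pos.ne')
  have h2 := card_inv_mul_sum_char_mul_char_eq_finrank ω' τ
  have h3 := ip ω σ
  have h4 := ip ω ρ
  have h5 : finrank K (IntertwiningMap ω ρ) = finrank ℂ (IntertwiningMap ω' τ) + finrank K (IntertwiningMap ω σ) := by
    apply Nat.cast_injective (R := ℂ)
    rw [Nat.cast_add, ← h2, ← h3, ← h4, ← mul_add, ← sum_add_distrib, h1]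
    congr 1
    refine sum_congr rfl fun g _ => ?_
    rw [congrFun e g, Pi.add_apply, add_mul]
  haveI : Nontrivial W := Submodule.nontrivial_iff_ne_bot.2 hW0
  haveI : FiniteDimensional K (IntertwiningMap ω σ) :=
    (invariantsEquivIntertwiningMap ω σ).finiteDimensional
  haveI : Nontrivial (IntertwiningMap ω σ) := by
    obtain ⟨w, hw⟩ := exists_ne (0 : W)
    exact ⟨⟨⟨W.subtype, fun _ => rfl⟩, 0, fun e => hw (Subtype.ext (DFunLike.congr_fun e w))⟩⟩
  have h6 : 0 < finrank K (IntertwiningMap ω σ) := finrank_pos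
  haveI : Nontrivial (IntertwiningMap ω ρ) := nontrivial_of_finrank_pos (R := K) (by omega)
  obtain ⟨f, hf⟩ := exists_ne (0 : IntertwiningMap ω ρ)
  have hinj : Function.Injective f.toLinearMap := by
    rw [← LinearMap.ker_eq_bot]
    by_contra h7
    refine hmin ((LinearMap.ker f.toLinearMap).map W.subtype) ⟨fun h8 => h7 ?_, fun g => ?_⟩ ?_
    · exact Submodule.map_injective_of_injective W.injective_subtype (h8.trans (Submodule.map_bot _).symm)
    · rintro _ ⟨x, hx, rfl⟩
      refine ⟨ω g x, ?_, rfl⟩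
      show f (ω g x) = 0
      rw [IntertwiningMap.isIntertwining, show f x = 0 from hx, map_zero]
    · refine lt_of_le_of_ne (Submodule.map_subtype_le _ _) fun h8 => hf (IntertwiningMap.ext ?_)
      ext x
      obtain ⟨y, hy, h9⟩ := h8.ge x.2
      rw [show x = y from Subtype.ext h9.symm]
      exact hy
  have hR : ∀ g, LinearMap.range f.toLinearMap ≤ (LinearMap.range f.toLinearMap).comap (ρ g) := by
    rintro g _ ⟨x, rfl⟩
    exact ⟨ω g x, IntertwiningMap.isIntertwining _ _ f g x⟩
  have h7 : ∀ g, LinearMap.trace K _ ((ρ g).restrict (hR g)) = ω.character g := fun g => by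
    rw [character, ← LinearMap.trace_conj' (ω g) (LinearEquiv.ofInjective _ hinj)]
    congr 1
    ext x
    obtain ⟨x, rfl⟩ := (LinearEquiv.ofInjective _ hinj).surjective x
    rw [LinearEquiv.conj_apply_apply, LinearEquiv.symm_apply_apply]
    exact (IntertwiningMap.isIntertwining _ _ f g x).symm
  have h8 := W.finrank_quotient_add_finrank
  have h9 : 0 < finrank K W := finrank_pos
  refine ih (finrank K (U ⧸ W)) (by omega) ⟨_, _, _, inferInstance, ρ.quotient _ hR, rfl, rfl⟩
    ⟨_, _, _, inferInstance, σ.quotient W hW, rfl, rfl⟩ (funext fun g => ?_)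
  have h10 := congrFun e g
  have h11 : ρ.character g = ω.character g + (ρ.quotient _ hR).character g := by
    rw [← h7]; exact trace_quot _ _ (hR g)
  have h12 : σ.character g = ω.character g + (σ.quotient W hW).character g := trace_quot _ _ (hW g)
  simp only [Pi.add_apply, h11, h12, IntermediateField.coe_add] at h10 ⊢
  linear_combination h10

theorem ind (E : Subgroup G) (lam : E →* ℂˣ) (h : ∀ e, (lam e : ℂ) ∈ K) :
    ∃ n, KC K n (indFun E fun e => (lam e : ℂ)) := by
  let l : E → K := fun e => ⟨lam e, h e⟩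
  have hl : ∀ a b, l (a * b) = l a * l b := fun a b => Subtype.ext (by simp [l])
  have hc : (Nat.card E : K) ≠ 0 := Nat.cast_ne_zero.2 Nat.card_pos.ne'
  let L : Representation K G (G → K) :=
    { toFun := fun g => LinearMap.funLeft K K (g⁻¹ * ·)
      map_one' := by ext; simp [LinearMap.funLeft_apply]
      map_mul' := fun a b => by ext; simp [LinearMap.funLeft_apply, mul_assoc] }
  have hL : ∀ g f x, L g f x = f (g⁻¹ * x) := fun _ _ _ => rfl
  let P : (G → K) →ₗ[K] (G → K) := (Nat.card E : K)⁻¹ • ∑ e : E, l e • LinearMap.funLeft K K (· * (e : G))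
  have hP : ∀ f x, P f x = (Nat.card E : K)⁻¹ * ∑ e : E, l e * f (x * e) := fun f x => by
    simp [P, LinearMap.funLeft_apply]
  let W : Submodule K (G → K) :=
    { carrier := {f | ∀ x (e : E), l e * f (x * e) = f x}
      zero_mem' := fun _ _ => by simp
      add_mem' := fun {a b} ha hb x e => by rw [Pi.add_apply, Pi.add_apply, mul_add, ha, hb]
      smul_mem' := fun c f hf x e => by rw [Pi.smul_apply, Pi.smul_apply, ← hf x e, smul_eq_mul, smul_eq_mul]; ring }
  have hW : ∀ g, W ≤ W.comap (L g) := fun g f hf x e => by rw [hL, hL, ← mul_assoc]; exact hf _ e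
  have h1 : ∀ f, P f ∈ W := fun f x e => by
    rw [hP, hP, mul_left_comm, mul_sum, ← Equiv.sum_comp (Equiv.mulLeft e) fun e' : E => l e' * f (x * e')]
    simp [hl, mul_assoc]
  have h2 : ∀ f ∈ W, P f = f := fun f hf => funext fun x => by
    rw [hP, sum_congr rfl fun e _ => hf x e]
    simp [← mul_assoc, ← Nat.card_eq_fintype_card, inv_mul_cancel₀ hc]
  refine ⟨_, W, _, _, inferInstance, L.subrepresentation W hW, rfl, funext fun g => ?_⟩
  have h0 : ∀ f, (L g ∘ₗ P) f ∈ W := fun f => hW g (h1 f)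
  have h3 := LinearMap.trace_restrict_eq_of_forall_mem W (L g ∘ₗ P) h0
  have h4 : (L g ∘ₗ P).restrict (p := W) (q := W) (fun f _ => h0 f) = L.subrepresentation W hW g := by
    refine LinearMap.ext fun f => Subtype.ext ?_
    show L g (P f) = L g f
    rw [h2 _ f.2]
  rw [character, ← h4, h3, LinearMap.trace_eq_matrix_trace K (Pi.basisFun K G), Matrix.trace, indFun]
  push_cast
  rw [mul_sum]
  refine sum_congr rfl fun x _ => ?_
  rw [Matrix.diag_apply, LinearMap.toMatrix_apply, Pi.basisFun_repr, LinearMap.comp_apply, hL, hP, Pi.basisFun_apply]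
  push_cast
  congr 1
  have h5 : ∀ e : E, g⁻¹ * x * e = x ↔ (e : G) = x⁻¹ * g * x := fun e => by
    rw [← eq_inv_mul_iff_mul_eq, mul_inv_rev, inv_inv]
  by_cases h6 : x⁻¹ * g * x ∈ E
  · rw [sum_eq_single ⟨_, h6⟩ (fun e _ he => by
      rw [Pi.single_eq_of_ne fun h7 => he (Subtype.ext ((h5 e).1 h7))]; simp) (by simp), (h5 ⟨_, h6⟩).2 rfl,
      extendByZero]
    refine (Subtype.val_injective.extend_apply _ _ (⟨_, h6⟩ : E)).trans ?_
    simp [l]
  · rw [extendByZero, Function.extend_apply' _ _ _ fun ⟨e, he⟩ => h6 (he ▸ e.2), sum_eq_zero fun e _ => by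
      rw [Pi.single_eq_of_ne fun h7 => h6 ((h5 e).1 h7 ▸ e.2)]; simp]
    rfl

end Cfsg.Agent.Ez.Spl
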