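import Cfsg.Agent.Lib.Block.GL23a
import Cfsg.Agent.Lib.Transfer.A2
import Cfsg.Agent.Lib.Fischer.Sel
import Cfsg.Agent.Lib.PU.Ms6

set_option autoImplicit false
set_option linter.unusedSectionVars false
set_option linter.unusedVariables false
set_option linter.style.haveILetI false

namespace Cfsg.Agent.Ez.O48
open Subgroup Cfsg.Agent.Blk.GL23

/-- the quaternion group -/
abbrev Q8 := QuaternionGroup 2

/-- an element of order four -/
def i0 : H0 := ⟨(0, 1, 2, 0), by decide⟩
/-- another element of order four -/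
def j0 : H0 := ⟨(1, 1, 1, 2), by decide⟩

/-- the embedding of the quaternion group -/
def io : Q8 →* H0 := Classical.quaternionHom (n := 2) i0 j0 (by decide +kernel) (by decide +kernel) (by decide +kernel)

theorem io_inj : Function.Injective io := (injective_iff_map_eq_one io).2 (by decide +kernel)

theorem io_norm : ∀ (g : H0) (x : Q8), ∃ y, io y = g * io x * g⁻¹ := by decide +kernel

instance : io.range.Normal := ⟨by rintro _ ⟨x, rfl⟩ g; exact io_norm g x⟩

/-- the action on the quaternion subgroup -/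
noncomputable def ka : H0 →* MulAut Q8 :=
  (MulAut.congr (MonoidHom.ofInjective io_inj).symm).toMonoidHom.comp MulAut.conjNormal

theorem ka_apply (g : H0) (x : Q8) : io (ka g x) = g * io x * g⁻¹ :=
  MonoidHom.apply_ofInjective_symm io_inj _

theorem pair : ∀ x y : Q8, x * y ≠ y * x → ∃ g : H0, g * io (.a 1) * g⁻¹ = io x ∧ g * io (.xa 0) * g⁻¹ = io y := by
  decide +kernel

theorem ka_surj : Function.Surjective ka := fun φ => by
  obtain ⟨g, h1, h2⟩ := pair (φ (.a 1)) (φ (.xa 0)) (by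
    simp only [← map_mul, ne_eq, EmbeddingLike.apply_eq_iff_eq]; decide)
  refine ⟨g, MulEquiv.toMonoidHom_injective (MonoidHom.eq_of_eqOn_dense (Transfer.quaternion_closure_eq_top 2) ?_)⟩
  rintro _ (rfl | rfl)
  exacts [io_inj ((ka_apply g _).trans h1), io_inj ((ka_apply g _).trans h2)]

theorem ka_eq_one {g : H0} : ka g = 1 ↔ ∀ x, g * io x * g⁻¹ = io x := by
  simp only [MulEquiv.ext_iff, ← ka_apply, io_inj.eq_iff, MulAut.one_apply]

/-- the action on the projective line -/
def act (x : H0) (i : Fin 4) : Fin 4 :=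
  let v : ZMod 3 × ZMod 3 := ![(1, 0), (0, 1), (1, 1), (1, 2)] i
  let a := x.1.1 * v.1 + x.1.2.1 * v.2
  let b := x.1.2.2.1 * v.1 + x.1.2.2.2 * v.2
  if b = 0 then 0 else if a = 0 then 1 else if a = b then 2 else 3

/-- the action on the projective line -/
@[reducible] def actM : MulAction H0 (Fin 4) where
  smul := act
  one_smul := show ∀ i, act 1 i = i by decide +kernel
  mul_smul := show ∀ x y i, act (x * y) i = act x (act y i) by decide +kernel

theorem act_surj : ∀ σ : Equiv.Perm (Fin 4), ∃ x, ∀ i, act x i = σ i := by decide +kernel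
theorem act_ker : ∀ g : H0, (∀ x, g * io x * g⁻¹ = io x) ↔ ∀ i, act g i = i := by decide +kernel
theorem ker_aux : ∀ g : H0, (∀ x, g * io x * g⁻¹ = io x) → g = 1 ∨ g = io (.a 2) := by decide +kernel
theorem gen_aux : ∀ t : H0, (∀ x, t * t * io x * (t * t)⁻¹ = io x) → (∀ x, io x ≠ t) → t ^ 2 = 1 ∧
    ∃ y : H0, y ^ 3 = 1 ∧ t * y * t⁻¹ = y⁻¹ ∧ ∀ g : H0, ∃ x, ∃ a ∈ [1, y, y * y], ∃ b ∈ [1, t], g = io x * a * b := by
  decide +kernel
theorem cen_aux : ∀ x : Q8, (∀ y, y * x = x * y) ↔ x = 1 ∨ x = .a 2 := by decide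

theorem aut_S4 : Nonempty (MulAut Q8 ≃* Equiv.Perm (Fin 4)) := by
  let π : H0 →* Equiv.Perm (Fin 4) := @MulAction.toPermHom _ _ _ actM
  have h1 : Function.Surjective π := fun σ => (act_surj σ).imp fun x hx => Equiv.ext hx
  have h2 : ka.ker = π.ker := by
    ext g
    rw [MonoidHom.mem_ker, MonoidHom.mem_ker, ka_eq_one, act_ker, Equiv.ext_iff]; rfl
  exact ⟨((QuotientGroup.quotientKerEquivOfSurjective ka ka_surj).symm.trans
    (QuotientGroup.quotientMulEquivOfEq h2)).trans (QuotientGroup.quotientKerEquivOfSurjective π h1)⟩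

theorem main {Q : Type*} [Group Q] [Finite Q] (R : Subgroup Q) [R.Normal] (e : R ≃* Q8)
    (hC : centralizer (R : Set Q) ≤ R) (hn : ∀ P : Sylow 2 Q, ¬ (P : Subgroup Q).Normal) :
    Nonempty (Q ≃* GL (Fin 2) (ZMod 3)) ∨ (Nat.card Q = 48 ∧ Nat.card (center Q) = 2 ∧
      Nonempty (Q ⧸ center Q ≃* Equiv.Perm (Fin 4)) ∧ ∀ P : Sylow 2 Q, Nonempty (P ≃* QuaternionGroup 4)) := by
  haveI := Fact.mk Nat.prime_two
  let α : Q →* MulAut Q8 := (MulAut.congr e).toMonoidHom.comp MulAut.conjNormal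
  have hα : ∀ g x, (e.symm (α g x) : Q) = g * e.symm x * g⁻¹ := fun g x => by simp [α]
  let z : Q := e.symm (.a 2)
  have z1 : z ≠ 1 := fun h => absurd (e.symm.injective ((Subtype.ext h).trans (map_one _).symm)) (by decide)
  have zz : z * z = 1 := by
    rw [← coe_mul, ← map_mul, show (QuaternionGroup.a 2 * .a 2 : Q8) = 1 by decide, map_one]; rfl
  have hR : ∀ r : R, ∀ x, α r x = e r * x * (e r)⁻¹ := fun r x => e.symm.injective (Subtype.ext (by rw [hα]; simp))
  have hk : ∀ g, α g = 1 ↔ g = 1 ∨ g = z := fun g => by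
    constructor
    · intro h
      have h1 : g ∈ R := hC fun r hr => by
        have := hα g (e ⟨r, hr⟩)
        rw [h, MulAut.one_apply, e.symm_apply_apply] at this
        exact eq_mul_inv_iff_mul_eq.1 this
      have h2 := (cen_aux (e ⟨g, h1⟩)).1 fun y => by
        have := hR ⟨g, h1⟩ y
        rw [show α (⟨g, h1⟩ : R) = 1 from h, MulAut.one_apply] at this
        exact eq_mul_inv_iff_mul_eq.1 this
      exact h2.imp (fun h3 => congrArg Subtype.val ((map_eq_one_iff e e.injective).1 h3))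
        fun h3 => congrArg Subtype.val (e.eq_symm_apply.2 h3)
    · rintro (rfl | rfl)
      · exact map_one _
      · refine MulEquiv.ext fun x => ?_
        rw [hR, e.apply_symm_apply, ← (cen_aux _).2 (Or.inr rfl) x, mul_inv_cancel_right]; rfl
  have zc : ∀ g, g * z = z * g := fun g => by
    have := (hk _).1 (α.normal_ker.conj_mem z ((hk z).2 (Or.inr rfl)) g)
    exact mul_inv_eq_iff_eq_mul.1 (this.resolve_left (by simpa using z1))
  have hcen : center Q = α.ker := by
    ext g
    refine ⟨fun h => MulEquiv.ext fun x => e.symm.injective (Subtype.ext ?_), fun h => ?_⟩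
    · rw [hα, ← mem_center_iff.1 h, mul_inv_cancel_right]; rfl
    · rcases (hk g).1 h with rfl | rfl
      · exact one_mem _
      · exact mem_center_iff.2 zc
  have c2 : Nat.card α.ker = 2 := by
    have : (α.ker : Set Q) = {1, z} := Set.ext hk
    rw [← SetLike.coe_sort_coe, this, Nat.card_coe_set_eq, Set.ncard_pair z1.symm]
  have c8 : Nat.card R = 8 := by rw [Nat.card_congr e.toEquiv, Nat.card_eq_fintype_card, QuaternionGroup.card]
  have pR : IsPGroup 2 R := IsPGroup.of_card (n := 3) c8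
  have h1 := α.ker.index_mul_card
  have h2 := card_subgroup_dvd_card α.range
  have h3 := R.index_mul_card
  rw [index_ker, c2] at h1
  rw [Transfer.card_aut_q8] at h2
  rw [c8] at h3
  have c24 : Nat.card α.range = 24 := by
    have h4 : ¬ IsPGroup 2 Q := fun h => hn ⟨⊤, h.to_subgroup ⊤, fun _ h => top_le_iff.1 h⟩ (inferInstanceAs (⊤ : Subgroup Q).Normal)
    have h5 : 2 ∣ R.index := by
      by_contra h5
      exact hn (pR.toSylow h5) ‹R.Normal›
    have h6 : Nat.card Q ≠ 2 ^ 4 := fun h => h4 (IsPGroup.of_card h)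
    have h7 := Nat.le_of_dvd (by norm_num) h2
    generalize Nat.card α.range = c at h1 h2 h7
    interval_cases c <;> omega
  have c48 : Nat.card Q = 48 := by omega
  have hs : Function.Surjective α :=
    MonoidHom.range_eq_top.1 (eq_top_of_card_eq _ (c24.trans Transfer.card_aut_q8.symm))
  by_cases hA : ∀ t : Q, orderOf t = 2 → t ∈ R
  · refine Or.inr ⟨c48, hcen ▸ c2, ⟨((QuotientGroup.quotientMulEquivOfEq hcen).trans
      (QuotientGroup.quotientKerEquivOfSurjective α hs)).trans aut_S4.some⟩, fun P => ?_⟩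
    have hu : ∀ t : Q, orderOf t = 2 → t = z := fun t ht => by
      have h4 := pow_orderOf_eq_one t
      rw [ht, sq] at h4
      rcases Transfer.q8_facts.1 (e ⟨t, hA t ht⟩) (by rw [← map_mul, ← map_one e]; exact congrArg e (Subtype.ext h4))
        with h5 | h5
      · have : t = 1 := congrArg Subtype.val ((map_eq_one_iff e e.injective).1 h5)
        simp [this] at ht
      · exact congrArg Subtype.val (e.eq_symm_apply.2 h5)
    have c16 : Nat.card P = 2 ^ 4 := by
      rw [P.card_eq_multiplicity, c48, show 48 = 2 ^ 4 * 3 from rfl, Nat.factorization_mul (by norm_num) (by norm_num),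
        Nat.prime_two.factorization_pow, Nat.prime_three.factorization]
      simp
    rcases PU.cyc_or_quat P.isPGroup' fun s _ t _ a b => (hu s a).trans (hu t b).symm with h | ⟨a, b, m, -, o, nb, eP, cP, b2, ba⟩
    · have := isCyclic_of_injective _ (inclusion_injective (pR.le_sylow_of_normal P))
      have := isCyclic_of_surjective e e.surjective
      have h4 := (IsCyclic.commGroup (α := Q8)).mul_comm (.a 1) (.xa 0)
      exact absurd (show (QuaternionGroup.a 1 * .xa 0 : Q8) = .xa 0 * .a 1 from h4) (by decide)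
    · obtain rfl : m = 2 := by
        have := Nat.pow_right_injective le_rfl (c16.symm.trans cP)
        omega
      rw [eP, ← Transfer.closure_pair_eq]
      exact Transfer.nonempty_quaternion_closure (n := 4) o ba b2 nb
  left
  push Not at hA
  obtain ⟨t, ht, htR⟩ := hA
  have tt : t ^ 2 = 1 := ht ▸ pow_orderOf_eq_one t
  let δ : Q8 →* Q × H0 := (R.subtype.comp e.symm.toMonoidHom).prod io
  have hδ : ∀ x, δ x = ((e.symm x : Q), io x) := fun _ => rfl
  have hδa : ∀ x, α (e.symm x) = ka (io x) := fun x => MulEquiv.ext fun y => io_inj (by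
    rw [hR, ka_apply, e.apply_symm_apply, map_mul, map_mul, map_inv])
  obtain ⟨t0, ht0⟩ := ka_surj (α t)
  obtain ⟨t2, y0, y3, ty, hgen⟩ := gen_aux t0 (ka_eq_one.1 (by rw [map_mul, ht0, ← map_mul, ← sq, tt, map_one]))
    fun x hx => htR (by
      have h4 := (hk ((e.symm x : Q)⁻¹ * t)).1 (by rw [map_mul, map_inv, hδa, hx, ht0, inv_mul_cancel])
      rw [← mul_mem_cancel_left (inv_mem (e.symm x).2)]
      rcases h4 with h4 | h4 <;> rw [h4]
      exacts [one_mem _, (e.symm _).2])
  obtain ⟨y1, hy1⟩ := hs (ka y0)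
  have h4 : y1 ^ 3 * y1 ^ 3 = 1 := by
    rcases (hk (y1 ^ 3)).1 (by rw [map_pow, hy1, ← map_pow, y3, map_one]) with h | h <;> rw [h]
    exacts [one_mul 1, zz]
  obtain ⟨y, hy, hy3⟩ : ∃ y : Q, α y = ka y0 ∧ y ^ 3 = 1 := ⟨y1 ^ 4, by
    rw [map_pow, hy1, ← map_pow, pow_succ, y3, one_mul], by
    rw [← pow_mul, show 4 * 3 = (3 + 3) * 2 from rfl, pow_mul, pow_add, h4, one_pow]⟩
  have h5 : t * y * t⁻¹ = y⁻¹ := by
    rcases (hk (t * y * t⁻¹ * y)).1 (by
      rw [map_mul, map_mul, map_mul, map_inv, hy, ← ht0, ← map_inv, ← map_mul, ← map_mul, ← map_mul, ty,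
        inv_mul_cancel, map_one]) with h | h
    · exact eq_inv_of_mul_eq_one_left h
    · have h6 : (t * y * t⁻¹) ^ 3 = (z * y⁻¹) ^ 3 := by rw [← h, mul_inv_cancel_right]
      rw [conj_pow, hy3, (show Commute z y⁻¹ from (zc _).symm).mul_pow, inv_pow, hy3, pow_succ z, sq, zz] at h6
      exact absurd (by simpa using h6.symm) z1
  have nδ : ∀ p : Q × H0, α p.1 = ka p.2 → p ∈ normalizer (δ.range : Set (Q × H0)) := fun p hp =>
    mem_normalizer_fintype (by
      rintro _ ⟨x, rfl⟩
      exact ⟨α p.1 x, Prod.ext (hα _ _) (by rw [hδ, hp]; exact ka_apply _ _)⟩)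
  let u : Q × H0 := (y, y0)
  let v : Q × H0 := (t, t0)
  have vu : v * u * v⁻¹ = u⁻¹ := Prod.ext h5 ty
  have d1 := Fi.card_sup_zpowers_dvd (nδ u hy) (e := 3) (by rw [show u ^ 3 = 1 from Prod.ext hy3 y3]; exact one_mem _)
  have d2 := Fi.card_sup_zpowers_dvd (H := δ.range ⊔ zpowers u) (a := v) (e := 2) (mem_normalizer_fintype fun x hx => by
    have : δ.range ⊔ zpowers u ≤ (δ.range ⊔ zpowers u).comap (MulAut.conj v).toMonoidHom :=
      sup_le (fun w hw => mem_sup_left ((mem_normalizer_iff.1 (nδ v ht0.symm) w).1 hw))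
        (zpowers_le.2 (show v * u * v⁻¹ ∈ _ from vu ▸ inv_mem (mem_sup_right (mem_zpowers u))))
    exact this hx) (by rw [show v ^ 2 = 1 from Prod.ext tt t2]; exact one_mem _)
  set Γ := δ.range ⊔ zpowers u ⊔ zpowers v
  have d3 : Nat.card δ.range ≤ 8 := by
    rw [← show Nat.card Q8 = 8 by rw [Nat.card_eq_fintype_card, QuaternionGroup.card]]
    exact Nat.card_le_card_of_surjective _ δ.rangeRestrict_surjective
  have d4 : Nat.card Γ ≤ 48 := by
    have a1 := Nat.le_of_dvd (Nat.mul_pos Nat.card_pos (by norm_num)) d1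
    have a2 := Nat.le_of_dvd (Nat.mul_pos Nat.card_pos (by norm_num)) d2
    omega
  have mδ : ∀ x, δ x ∈ Γ := fun x => mem_sup_left (mem_sup_left ⟨x, rfl⟩)
  have mu : u ∈ Γ := mem_sup_left (mem_sup_right (mem_zpowers u))
  have mv : v ∈ Γ := mem_sup_right (mem_zpowers v)
  let f2 := (MonoidHom.snd Q H0).comp Γ.subtype
  let f1 := (MonoidHom.fst Q H0).comp Γ.subtype
  have s2 : Function.Surjective f2 := fun g => by
    obtain ⟨x, a, ha, b, hb, rfl⟩ := hgen g
    have r1 : y0 ∈ f2.range := ⟨⟨u, mu⟩, rfl⟩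
    have r0 : io x ∈ f2.range := ⟨⟨_, mδ x⟩, rfl⟩
    show _ ∈ f2.range
    refine mul_mem (mul_mem r0 ?_) ?_
    · simp only [List.mem_cons, List.not_mem_nil, or_false] at ha
      rcases ha with rfl | rfl | rfl
      exacts [one_mem _, r1, mul_mem r1 r1]
    · simp only [List.mem_cons, List.not_mem_nil, or_false] at hb
      rcases hb with rfl | rfl
      exacts [one_mem _, ⟨⟨v, mv⟩, rfl⟩]
  have b2 : Function.Bijective f2 := s2.bijective_of_nat_card_le (card_H0 ▸ d4)
  have hΓ : Γ ≤ (α.comp (MonoidHom.fst Q H0)).eqLocus (ka.comp (MonoidHom.snd Q H0)) :=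
    sup_le (sup_le (by rintro _ ⟨x, rfl⟩; exact hδa x) (zpowers_le.2 hy)) (zpowers_le.2 ht0.symm)
  have i1 : Function.Injective f1 := (injective_iff_map_eq_one f1).2 fun p hp => by
    have h6 : ka p.1.2 = 1 := by
      have : α p.1.1 = ka p.1.2 := hΓ p.2
      rw [← this, show p.1.1 = 1 from hp, map_one]
    rcases ker_aux _ (ka_eq_one.1 h6) with h7 | h7
    · exact Subtype.ext (Prod.ext hp h7)
    · have h8 : p = ⟨_, mδ (.a 2)⟩ := b2.1 h7
      exact absurd ((congrArg (fun q : Γ => q.1.1) h8).symm.trans hp) z1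
  have b1 : Function.Bijective f1 := i1.bijective_of_nat_card_le (by
    rw [c48, Nat.card_eq_of_bijective _ b2, card_H0])
  exact ⟨((MulEquiv.ofBijective f1 b1).symm.trans (MulEquiv.ofBijective f2 b2)).trans exists_equiv.some⟩

end Cfsg.Agent.Ez.O48
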